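import Mathlib.GroupTheory.Sylow
import Mathlib.GroupTheory.Nilpotent
import Mathlib.GroupTheory.Solvable
import Mathlib.GroupTheory.SpecificGroups.Cyclic
import Mathlib.GroupTheory.Abelianization.Defs
import Cfsg.Prelude.Def_Solvable
import Cfsg.Prelude.Def_CaseTheorems

/-!
# Cores `O_p(G)`, `O_{p'}(G)` of finite groups (helper60)

* `card_pPrimeCore_coprime` : `|O_{p'}(G)|` is prime to `p`.
* `pPrimeCore_quotient_eq_bot` : `O_{p'}(G / O_{p'}(G)) = 1`.
* `isPGroup_pCore` : `O_p(G)` is a `p`-group.
* `centralizer_pCore_le` : if `G` is solvable with `O_{p'}(G) = 1` then `C_G(O_p(G)) ≤ O_p(G)`.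
-/

set_option autoImplicit false

namespace Cfsg.Agent.H60

open Cfsg
open scoped commutatorElement

section card

variable {G : Type*} [Group G]

/-- `|N| * [K : N] = |K|` for `N ≤ K`. -/
theorem card_mul_relIndex_of_le {N K : Subgroup G} (h : N ≤ K) :
    Nat.card N * N.relIndex K = Nat.card K := by
  have h1 : Nat.card (N.subgroupOf K) = Nat.card N :=
    Nat.card_congr (Subgroup.subgroupOfEquivOfLe h).toEquiv
  rw [Subgroup.relIndex, ← h1, Subgroup.card_mul_index]

/-- The join of a subgroup and a normal subgroup, both of order prime to `p`, has order prime to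
`p`. -/
theorem coprime_card_sup {p : ℕ} {M N : Subgroup G} [N.Normal] (hM : (Nat.card M).Coprime p)
    (hN : (Nat.card N).Coprime p) : (Nat.card (M ⊔ N : Subgroup G)).Coprime p := by
  rw [← card_mul_relIndex_of_le (le_sup_right : N ≤ M ⊔ N), Subgroup.relIndex_sup_right]
  exact Nat.Coprime.mul_left hN (Nat.Coprime.coprime_dvd_left (Subgroup.relIndex_dvd_card N M) hM)

end card

section cores

variable {G : Type*} [Group G] [Finite G]

/-- `O_{p'}(G)` has order prime to `p`. -/
theorem card_pPrimeCore_coprime (p : ℕ) : (Nat.card (pPrimeCore p G)).Coprime p := by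
  have hfin : ({N : Subgroup G | N.Normal ∧ (Nat.card N).Coprime p}).Finite := Set.toFinite _
  have hS : pPrimeCore p G = hfin.toFinset.sup id := by
    rw [Finset.sup_id_eq_sSup, Set.Finite.coe_toFinset]; rfl
  have key : (hfin.toFinset.sup id).Normal ∧ (Nat.card (hfin.toFinset.sup id : Subgroup G)).Coprime p := by
    refine Finset.sup_induction (p := fun N : Subgroup G => N.Normal ∧ (Nat.card N).Coprime p)
      ?_ ?_ ?_
    · refine ⟨inferInstance, ?_⟩
      rw [Subgroup.card_bot]; exact Nat.coprime_one_left p
    · rintro M ⟨hMn, hM⟩ N ⟨hNn, hN⟩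
      exact ⟨inferInstance, coprime_card_sup hM hN⟩
    · intro N hN
      exact (Set.Finite.mem_toFinset hfin).mp hN
  rw [hS]; exact key.2

omit [Finite G] in
/-- A normal subgroup of order prime to `p` lies in `O_{p'}(G)`. -/
theorem le_pPrimeCore {p : ℕ} {N : Subgroup G} (hn : N.Normal) (hN : (Nat.card N).Coprime p) :
    N ≤ pPrimeCore p G :=
  le_sSup ⟨hn, hN⟩

/-- `O_{p'}(G / O_{p'}(G)) = 1`. -/
theorem pPrimeCore_quotient_eq_bot (p : ℕ) : pPrimeCore p (G ⧸ pPrimeCore p G) = ⊥ := by
  rw [eq_bot_iff]
  apply sSup_le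
  rintro Nb ⟨hNbn, hNb⟩
  have hπ : Function.Surjective (QuotientGroup.mk' (pPrimeCore p G)) :=
    QuotientGroup.mk'_surjective _
  have hker : (QuotientGroup.mk' (pPrimeCore p G)).ker = pPrimeCore p G := QuotientGroup.ker_mk' _
  have hle : pPrimeCore p G ≤ Nb.comap (QuotientGroup.mk' (pPrimeCore p G)) := by
    intro x hx
    rw [Subgroup.mem_comap]
    have h1 : QuotientGroup.mk' (pPrimeCore p G) x = 1 := (QuotientGroup.eq_one_iff x).mpr hx
    rw [h1]; exact Nb.one_mem
  have hmap : (Nb.comap (QuotientGroup.mk' (pPrimeCore p G))).map (QuotientGroup.mk' (pPrimeCore p G)) = Nb :=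
    Subgroup.map_comap_eq_self_of_surjective hπ Nb
  have hcard : Nat.card (Nb.comap (QuotientGroup.mk' (pPrimeCore p G))) =
      Nat.card (pPrimeCore p G) * Nat.card Nb := by
    rw [← card_mul_relIndex_of_le hle]
    congr 1
    have := Subgroup.relIndex_ker (QuotientGroup.mk' (pPrimeCore p G))
      (K := Nb.comap (QuotientGroup.mk' (pPrimeCore p G)))
    rw [hker, hmap] at this
    exact this
  have hcop : (Nat.card (Nb.comap (QuotientGroup.mk' (pPrimeCore p G)))).Coprime p := by
    rw [hcard]; exact Nat.Coprime.mul_left (card_pPrimeCore_coprime p) hNb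
  have hN : Nb.comap (QuotientGroup.mk' (pPrimeCore p G)) ≤ pPrimeCore p G :=
    le_pPrimeCore (hNbn.comap _) hcop
  rw [← hmap]
  intro x hx
  obtain ⟨y, hy, rfl⟩ := hx
  rw [Subgroup.mem_bot]
  exact (QuotientGroup.eq_one_iff y).mpr (hN hy)

omit [Finite G] in
/-- `O_p(G)` is a `p`-group. -/
theorem isPGroup_pCore (p : ℕ) [Fact p.Prime] : IsPGroup p (pCore p G) :=
  Sylow.sSup_of_normal _ (fun _ h => h.2) (fun _ h => h.1)

omit [Finite G] in
/-- A normal `p`-subgroup lies in `O_p(G)`. -/
theorem le_pCore {p : ℕ} {N : Subgroup G} (hn : N.Normal) (hN : IsPGroup p N) : N ≤ pCore p G :=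
  le_sSup ⟨hn, hN⟩

omit [Finite G] in
/-- The derived series of a subgroup `C`, as subgroups of the ambient group. -/
def dser (C : Subgroup G) : ℕ → Subgroup G
  | 0 => C
  | n + 1 => ⁅dser C n, dser C n⁆

omit [Finite G] in
theorem dser_zero (C : Subgroup G) : dser C 0 = C := rfl

omit [Finite G] in
theorem dser_succ (C : Subgroup G) (n : ℕ) : dser C (n + 1) = ⁅dser C n, dser C n⁆ := rfl

omit [Finite G] in
theorem dser_normal (C : Subgroup G) [hC : C.Normal] (n : ℕ) : (dser C n).Normal := by
  induction n with
  | zero => exact hC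
  | succ n ih => rw [dser_succ]; exact Subgroup.commutator_normal (dser C n) (dser C n)

omit [Finite G] in
theorem dser_le_derivedSeries (C : Subgroup G) (n : ℕ) : dser C n ≤ derivedSeries G n := by
  induction n with
  | zero => rw [derivedSeries_zero]; exact le_top
  | succ n ih => rw [dser_succ, derivedSeries_succ]; exact Subgroup.commutator_mono ih ih

omit [Finite G] in
theorem dser_le (C : Subgroup G) [hC : C.Normal] (n : ℕ) : dser C n ≤ C := by
  induction n with
  | zero => exact le_of_eq (dser_zero C)
  | succ n ih =>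
    have := dser_normal C n
    rw [dser_succ]; exact (Subgroup.commutator_le_left (dser C n) (dser C n)).trans ih

/-- A normal nilpotent subgroup of a finite group with `O_{p'}(G) = 1` is a `p`-group. -/
theorem isPGroup_of_normal_nilpotent {p : ℕ} [Fact p.Prime] (hO : pPrimeCore p G = ⊥)
    (D : Subgroup G) [hDn : D.Normal] (hnil : Group.IsNilpotent D) : IsPGroup p D := by
  have hne : Nat.card D ≠ 0 := Nat.card_pos.ne'
  have huniq : ∀ {r : ℕ}, r.Prime → r ∣ Nat.card D → r = p := by
    intro r hr hdvd
    by_contra hrp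
    have : Fact r.Prime := ⟨hr⟩
    let R : Sylow r D := default
    have hRn' : (R : Subgroup D).Normal := inferInstance
    have hRc : (R : Subgroup D).Characteristic := Sylow.characteristic_of_normal R hRn'
    have hRn : ((R : Subgroup D).map D.subtype).Normal :=
      ConjAct.normal_of_characteristic_of_normal
    have hRcard : Nat.card ((R : Subgroup D).map D.subtype) = Nat.card (R : Subgroup D) :=
      Subgroup.card_map_of_injective (Subgroup.subtype_injective _)
    obtain ⟨k, hk⟩ := IsPGroup.iff_card.mp R.isPGroup'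
    have hcop : (Nat.card ((R : Subgroup D).map D.subtype)).Coprime p := by
      rw [hRcard, hk]
      apply Nat.Coprime.pow_left
      exact (Nat.coprime_primes hr (Fact.out : p.Prime)).mpr hrp
    have hRle := le_pPrimeCore hRn hcop
    rw [hO, le_bot_iff, Subgroup.map_eq_bot_iff_of_injective _ (Subgroup.subtype_injective _)] at hRle
    exact R.ne_bot_of_dvd_card hdvd hRle
  exact IsPGroup.of_card (Nat.eq_prime_pow_of_unique_prime_dvd hne huniq)

/-- **Hall–Higman 1.2.3 for solvable groups**: if `G` is a finite solvable group with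
`O_{p'}(G) = 1`, then `C_G(O_p(G)) ≤ O_p(G)`. -/
theorem centralizer_pCore_le {p : ℕ} [Fact p.Prime] (hs : Group.IsSolvable G)
    (hO : pPrimeCore p G = ⊥) :
    Subgroup.centralizer (pCore p G : Set G) ≤ pCore p G := by
  have hCn : (Subgroup.centralizer (pCore p G : Set G)).Normal := inferInstance
  obtain ⟨N, hN⟩ := hs.solvable
  have hDN : dser (Subgroup.centralizer (pCore p G : Set G)) N = ⊥ :=
    le_bot_iff.mp (hN ▸ dser_le_derivedSeries _ N)
  have step : ∀ n, dser (Subgroup.centralizer (pCore p G : Set G)) (n + 1) ≤ pCore p G →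
      dser (Subgroup.centralizer (pCore p G : Set G)) n ≤ pCore p G := by
    intro n hle
    have hDnn := dser_normal (Subgroup.centralizer (pCore p G : Set G)) n
    have hnil : Group.IsNilpotent (dser (Subgroup.centralizer (pCore p G : Set G)) n) := by
      apply Subgroup.isNilpotent_of_ker_le_center (Abelianization.of :
        (dser (Subgroup.centralizer (pCore p G : Set G)) n) →*
          Abelianization (dser (Subgroup.centralizer (pCore p G : Set G)) n))
      · rw [Abelianization.ker_of, commutator_def, Subgroup.commutator_le]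
        intro a _ b _
        rw [Subgroup.mem_center_iff]
        intro z
        apply Subtype.ext
        have h1 : ⁅(a : G), (b : G)⁆ ∈ pCore p G := by
          apply hle
          rw [dser_succ]
          exact Subgroup.commutator_mem_commutator a.2 b.2
        have h2 : (z : G) ∈ Subgroup.centralizer (pCore p G : Set G) := dser_le _ n z.2
        have := h2 _ h1
        show (z : G) * ⁅(a : G), (b : G)⁆ = ⁅(a : G), (b : G)⁆ * z
        exact this.symm
    exact le_pCore hDnn (isPGroup_of_normal_nilpotent hO _ hnil)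
  have hall : ∀ m, dser (Subgroup.centralizer (pCore p G : Set G)) m ≤ pCore p G →
      dser (Subgroup.centralizer (pCore p G : Set G)) 0 ≤ pCore p G := by
    intro m
    induction m with
    | zero => exact id
    | succ m ih => exact fun h => ih (step m h)
  exact hall N (hDN ▸ bot_le)

end cores

end Cfsg.Agent.H60
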