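import Mathlib

set_option autoImplicit false

namespace Cfsg.Agent.H60

open scoped Classical

open scoped commutatorElement

section cbasics

variable {T : Type*} [Group T]

theorem cc_mul_right (y w w' : T) (hc : ⁅y, w'⁆ ∈ Subgroup.center T) :
    ⁅y, w * w'⁆ = ⁅y, w⁆ * ⁅y, w'⁆ := by
  have h := Subgroup.mem_center_iff.mp hc
  calc ⁅y, w * w'⁆ = (y * w * y⁻¹) * ⁅y, w'⁆ * w⁻¹ := by
        simp only [commutatorElement_def]; group
    _ = ⁅y, w'⁆ * (y * w * y⁻¹) * w⁻¹ := by rw [h (y * w * y⁻¹)]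
    _ = ⁅y, w'⁆ * ⁅y, w⁆ := by rw [commutatorElement_def y w]; group
    _ = ⁅y, w⁆ * ⁅y, w'⁆ := (h _).symm

theorem cc_mul_left (y y' w : T) (hc : ⁅y', w⁆ ∈ Subgroup.center T) :
    ⁅y * y', w⁆ = ⁅y, w⁆ * ⁅y', w⁆ := by
  have h := Subgroup.mem_center_iff.mp hc
  calc ⁅y * y', w⁆ = y * ⁅y', w⁆ * (w * y⁻¹ * w⁻¹) := by
        simp only [commutatorElement_def]; group
    _ = ⁅y', w⁆ * y * (w * y⁻¹ * w⁻¹) := by rw [h y]
    _ = ⁅y', w⁆ * ⁅y, w⁆ := by rw [commutatorElement_def y w]; group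
    _ = ⁅y, w⁆ * ⁅y', w⁆ := (h _).symm

theorem sq_mul_cc (y w : T) (hc : ⁅w, y⁆ ∈ Subgroup.center T) :
    (y * w) * (y * w) = (y * y) * (w * w) * ⁅w, y⁆ := by
  have h := Subgroup.mem_center_iff.mp hc
  calc (y * w) * (y * w) = y * ⁅w, y⁆ * (y * (w * w)) := by
        simp only [commutatorElement_def]; group
    _ = ⁅w, y⁆ * y * (y * (w * w)) := by rw [h y]
    _ = ⁅w, y⁆ * ((y * y) * (w * w)) := by group
    _ = (y * y) * (w * w) * ⁅w, y⁆ := (h _).symm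

theorem cc_central_left (t w : T) (ht : t ∈ Subgroup.center T) : ⁅t, w⁆ = 1 := by
  have h := Subgroup.mem_center_iff.mp ht
  rw [commutatorElement_def, ← h w]
  group

theorem cc_central_right (y t : T) (ht : t ∈ Subgroup.center T) : ⁅y, t⁆ = 1 := by
  have h := Subgroup.mem_center_iff.mp ht
  rw [commutatorElement_def, h y]
  group

theorem cc_mul_central (a b t t' : T) (ht : t ∈ Subgroup.center T)
    (ht' : t' ∈ Subgroup.center T) : ⁅a * t, b * t'⁆ = ⁅a, b⁆ := by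
  rw [cc_mul_left a t (b * t') (by rw [cc_central_left t _ ht]; exact Subgroup.one_mem _),
    cc_central_left t _ ht, mul_one,
    cc_mul_right a b t' (by rw [cc_central_right a _ ht']; exact Subgroup.one_mem _),
    cc_central_right a _ ht', mul_one]

theorem mul5_central (a b c d e t : T) (ht : t ∈ Subgroup.center T) :
    (a * t) * (b * t) * (c * t) * (d * t) * (e * t) = a * b * c * d * e * (t * t * t * t * t) := by
  have h := Subgroup.mem_center_iff.mp ht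
  have h1 : ∀ g k : T, g * t * k = g * k * t := fun g k => by
    rw [mul_assoc, ← h k, ← mul_assoc]
  simp only [← mul_assoc]
  rw [h1 _ b, h1 _ c, h1 _ c, h1 _ d, h1 _ d, h1 _ d, h1 _ e, h1 _ e, h1 _ e, h1 _ e]

/-- elements whose commutator with `a` lies in the central subgroup `D` -/
def cdSub (D : Subgroup T) (hD : D ≤ Subgroup.center T) (a : T) : Subgroup T where
  carrier := {b | ⁅a, b⁆ ∈ D}
  mul_mem' := by
    intro b b' hb hb'
    show ⁅a, b * b'⁆ ∈ D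
    rw [cc_mul_right a b b' (hD hb')]
    exact D.mul_mem hb hb'
  one_mem' := by
    show ⁅a, (1 : T)⁆ ∈ D
    rw [commutatorElement_one_right]
    exact D.one_mem
  inv_mem' := by
    intro b hb
    show ⁅a, b⁻¹⁆ ∈ D
    have hk : ⁅a, b⁆⁻¹ ∈ D := D.inv_mem hb
    have h := Subgroup.mem_center_iff.mp (hD hk)
    have e : ⁅a, b⁻¹⁆ = b⁻¹ * ⁅a, b⁆⁻¹ * b := by
      simp only [commutatorElement_def]; group
    rw [e, h b⁻¹, mul_assoc, inv_mul_cancel, mul_one]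
    exact hk

theorem mem_cdSub (D : Subgroup T) (hD : D ≤ Subgroup.center T) (a b : T) :
    b ∈ cdSub D hD a ↔ ⁅a, b⁆ ∈ D := Iff.rfl

theorem le_cdSub (D : Subgroup T) (hD : D ≤ Subgroup.center T) (a : T) : D ≤ cdSub D hD a := by
  intro d hd
  rw [mem_cdSub, cc_central_right a d (hD hd)]
  exact D.one_mem

theorem card_sup_zpowers_le [Finite T] (B : Subgroup T) (a : T) (h1 : a * a ∈ B)
    (h2 : ∀ b ∈ B, a * b * a⁻¹ ∈ B) :
    Nat.card ↥(B ⊔ Subgroup.zpowers a) ≤ 2 * Nat.card ↥B := by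
  let N : Subgroup T :=
    { carrier := {g | g ∈ B ∨ g * a⁻¹ ∈ B}
      mul_mem' := by
        rintro g g' (hg | hg) (hg' | hg')
        · exact Or.inl (B.mul_mem hg hg')
        · right
          have e : g * g' * a⁻¹ = g * (g' * a⁻¹) := by group
          show g * g' * a⁻¹ ∈ B
          rw [e]; exact B.mul_mem hg hg'
        · right
          have e : g * g' * a⁻¹ = (g * a⁻¹) * (a * g' * a⁻¹) := by group
          show g * g' * a⁻¹ ∈ B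
          rw [e]; exact B.mul_mem hg (h2 _ hg')
        · left
          have e : g * g' = (g * a⁻¹) * (a * (g' * a⁻¹) * a⁻¹) * (a * a) := by group
          show g * g' ∈ B
          rw [e]; exact B.mul_mem (B.mul_mem hg (h2 _ hg')) h1
      one_mem' := Or.inl B.one_mem
      inv_mem' := by
        rintro g (hg | hg)
        · exact Or.inl (B.inv_mem hg)
        · right
          have e : g⁻¹ * a⁻¹ = (a * a)⁻¹ * (a * (g * a⁻¹)⁻¹ * a⁻¹) := by group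
          show g⁻¹ * a⁻¹ ∈ B
          rw [e]; exact B.mul_mem (B.inv_mem h1) (h2 _ (B.inv_mem hg)) }
  have hle : B ⊔ Subgroup.zpowers a ≤ N := by
    apply sup_le
    · intro b hb; exact Or.inl hb
    · rw [Subgroup.zpowers_le]
      right
      show a * a⁻¹ ∈ B
      rw [mul_inv_cancel]; exact B.one_mem
  have hN : Nat.card ↥N ≤ 2 * Nat.card ↥B := by
    have hsub : (N : Set T) ⊆ (B : Set T) ∪ (fun b => b * a) '' (B : Set T) := by
      rintro g (hg | hg)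
      · exact Or.inl hg
      · right; exact ⟨g * a⁻¹, hg, by group⟩
    calc Nat.card ↥N = (N : Set T).ncard := Nat.card_coe_set_eq _
      _ ≤ ((B : Set T) ∪ (fun b => b * a) '' (B : Set T)).ncard :=
          Set.ncard_le_ncard hsub (Set.toFinite _)
      _ ≤ (B : Set T).ncard + ((fun b => b * a) '' (B : Set T)).ncard := Set.ncard_union_le _ _
      _ ≤ (B : Set T).ncard + (B : Set T).ncard :=
          Nat.add_le_add_left (Set.ncard_image_le (Set.toFinite _)) _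
      _ = 2 * Nat.card ↥B := by rw [← Nat.card_coe_set_eq]; exact (two_mul _).symm
  exact (Subgroup.card_le_of_le hle).trans hN

theorem card_step [Finite T] (D B : Subgroup T) (hD : D ≤ Subgroup.center T) (hDB : D ≤ B)
    (a : T) (h1 : a * a ∈ D) (h2 : B ≤ cdSub D hD a) :
    Nat.card ↥(B ⊔ Subgroup.zpowers a) ≤ 2 * Nat.card ↥B := by
  apply card_sup_zpowers_le B a (hDB h1)
  intro b hb
  have e : a * b * a⁻¹ = ⁅a, b⁆ * b := by simp only [commutatorElement_def]; group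
  rw [e]
  exact B.mul_mem (hDB (h2 hb)) hb

theorem card_chain2 [Finite T] (d₁ d₂ : T) (s₁ : d₁ * d₁ = 1) (s₂ : d₂ * d₂ = 1)
    (k : ⁅d₂, d₁⁆ = 1) :
    Nat.card ↥(⊥ ⊔ Subgroup.zpowers d₁ ⊔ Subgroup.zpowers d₂ : Subgroup T) ≤ 4 := by
  have hD : (⊥ : Subgroup T) ≤ Subgroup.center T := bot_le
  have e₀ := card_step ⊥ ⊥ hD le_rfl d₁ (by rw [s₁]; exact Subgroup.one_mem _) bot_le
  have e₁ := card_step ⊥ (⊥ ⊔ Subgroup.zpowers d₁) hD bot_le d₂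
    (by rw [s₂]; exact Subgroup.one_mem _)
    (sup_le bot_le (Subgroup.zpowers_le.mpr (by rw [mem_cdSub, k]; exact Subgroup.one_mem _)))
  have e₂ : Nat.card ↥(⊥ : Subgroup T) = 1 := Subgroup.card_bot
  omega

theorem card_chain4 [Finite T] (D : Subgroup T) (hD : D ≤ Subgroup.center T) (a₀ a₁ a₂ a₃ : T)
    (s₀ : a₀ * a₀ ∈ D) (s₁ : a₁ * a₁ ∈ D) (s₂ : a₂ * a₂ ∈ D) (s₃ : a₃ * a₃ ∈ D)
    (k₁₀ : ⁅a₁, a₀⁆ ∈ D) (k₂₀ : ⁅a₂, a₀⁆ ∈ D) (k₂₁ : ⁅a₂, a₁⁆ ∈ D)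
    (k₃₀ : ⁅a₃, a₀⁆ ∈ D) (k₃₁ : ⁅a₃, a₁⁆ ∈ D) (k₃₂ : ⁅a₃, a₂⁆ ∈ D) :
    Nat.card ↥(D ⊔ Subgroup.zpowers a₀ ⊔ Subgroup.zpowers a₁ ⊔ Subgroup.zpowers a₂
      ⊔ Subgroup.zpowers a₃) ≤ 16 * Nat.card ↥D := by
  have e₀ := card_step D D hD le_rfl a₀ s₀ (le_cdSub D hD a₀)
  have e₁ := card_step D (D ⊔ Subgroup.zpowers a₀) hD le_sup_left a₁ s₁
    (sup_le (le_cdSub D hD a₁) (Subgroup.zpowers_le.mpr k₁₀))
  have e₂ := card_step D (D ⊔ Subgroup.zpowers a₀ ⊔ Subgroup.zpowers a₁) hD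
    (le_sup_left.trans le_sup_left) a₂ s₂
    (sup_le (sup_le (le_cdSub D hD a₂) (Subgroup.zpowers_le.mpr k₂₀))
      (Subgroup.zpowers_le.mpr k₂₁))
  have e₃ := card_step D (D ⊔ Subgroup.zpowers a₀ ⊔ Subgroup.zpowers a₁ ⊔ Subgroup.zpowers a₂) hD
    ((le_sup_left.trans le_sup_left).trans le_sup_left) a₃ s₃
    (sup_le (sup_le (sup_le (le_cdSub D hD a₃) (Subgroup.zpowers_le.mpr k₃₀))
      (Subgroup.zpowers_le.mpr k₃₁)) (Subgroup.zpowers_le.mpr k₃₂))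
  omega

end cbasics

/-- Fixed points of a map of order dividing 5 on a stable finite set, modulo 5. -/
theorem card_fix_mod5 {α : Type*} (A : α → α) (hA5 : ∀ a, A (A (A (A (A a)))) = a)
    (X : Finset α) (hX : ∀ a ∈ X, A a ∈ X) :
    X.card ≡ (X.filter (fun a => A a = a)).card [MOD 5] := by
  haveI : Fact (Nat.Prime 5) := ⟨by norm_num⟩
  let f : Function.End ↥X := fun x => ⟨A x.1, hX x.1 x.2⟩
  have hf : f ^ 5 ^ 1 = 1 := by
    rw [pow_one]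
    have h5 : f ^ 5 = f * f * f * f * f := by
      simp only [pow_succ, pow_zero, one_mul]
    rw [h5]
    funext x
    exact Subtype.ext (hA5 x.1)
  have h := Equiv.Perm.card_fixedPoints_modEq (f := f) (p := 5) (n := 1) hf
  have h2 : Nat.card ↥(Function.fixedPoints f) = (X.filter (fun a => A a = a)).card := by
    rw [← Fintype.card_coe (X.filter _), ← Nat.card_eq_fintype_card]
    apply Nat.card_congr
    exact
      { toFun := fun y => ⟨y.1.1, Finset.mem_filter.mpr ⟨y.1.2, congrArg Subtype.val y.2⟩⟩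
        invFun := fun z => ⟨⟨z.1, (Finset.mem_filter.mp z.2).1⟩,
          Subtype.ext (Finset.mem_filter.mp z.2).2⟩
        left_inv := fun y => rfl
        right_inv := fun z => rfl }
  rw [← h2]
  convert h using 1
  · rw [Fintype.card_coe]
  · rw [Nat.card_eq_fintype_card]

theorem card_4_or_64 {m : ℕ} (h1 : m ∣ 64) (h2 : m ≡ 4 [MOD 5]) : m = 4 ∨ m = 64 := by
  have h64 : (64 : ℕ) = 2 ^ 6 := by norm_num
  rw [h64] at h1
  obtain ⟨k, hk, rfl⟩ := (Nat.dvd_prime_pow Nat.prime_two).mp h1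
  interval_cases k <;> simp [Nat.ModEq] at h2 ⊢

/-- A stable subgroup and its subgroup of fixed points have the same order modulo 5. -/
theorem sub_fix_mod5 {T : Type*} [Group T] [Finite T] (σ : T → T)
    (h5 : ∀ y, σ (σ (σ (σ (σ y)))) = y) (M Z : Subgroup T) (hM : ∀ y ∈ M, σ y ∈ M)
    (hMZ : ∀ y, y ∈ Z ↔ y ∈ M ∧ σ y = y) : Nat.card ↥M ≡ Nat.card ↥Z [MOD 5] := by
  letI : Fintype T := Fintype.ofFinite T
  have hcM : Nat.card ↥M = (Finset.univ.filter (fun y => y ∈ M)).card := by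
    rw [Nat.card_eq_fintype_card, Fintype.card_subtype]
  have hcZ : Nat.card ↥Z = (Finset.univ.filter (fun y => y ∈ Z)).card := by
    rw [Nat.card_eq_fintype_card, Fintype.card_subtype]
  have hmod := card_fix_mod5 σ h5 (Finset.univ.filter (fun y => y ∈ M))
    (fun a ha => by
      rw [Finset.mem_filter] at ha ⊢
      exact ⟨Finset.mem_univ _, hM a ha.2⟩)
  have hfilt : (Finset.univ.filter (fun y => y ∈ M)).filter (fun a => σ a = a)
      = Finset.univ.filter (fun y => y ∈ Z) := by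
    ext a
    simp only [Finset.mem_filter, Finset.mem_univ, true_and]
    exact (hMZ a).symm
  rw [hfilt, ← hcM, ← hcZ] at hmod
  exact hmod

/-- A subgroup stable under a map of order 5 whose fixed points form a subgroup `Z` of order 4,
in a group of order 64: it is everything as soon as it properly contains `Z`. -/
theorem inv_sub_top {T : Type*} [Group T] [Finite T] (σ : T → T)
    (hcard : Nat.card T = 64) (Z : Subgroup T) (hZ : Nat.card ↥Z = 4)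
    (h5 : ∀ y, σ (σ (σ (σ (σ y)))) = y) (hfix : ∀ y, σ y = y ↔ y ∈ Z)
    (M : Subgroup T) (hZM : Z ≤ M) (hM : ∀ y ∈ M, σ y ∈ M) (hne : ∃ y ∈ M, y ∉ Z) : M = ⊤ := by
  letI : Fintype T := Fintype.ofFinite T
  have hcM : Nat.card ↥M = (Finset.univ.filter (fun y => y ∈ M)).card := by
    rw [Nat.card_eq_fintype_card, Fintype.card_subtype]
  have hcZ : Nat.card ↥Z = (Finset.univ.filter (fun y => y ∈ Z)).card := by
    rw [Nat.card_eq_fintype_card, Fintype.card_subtype]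
  have hmod := card_fix_mod5 σ h5 (Finset.univ.filter (fun y => y ∈ M))
    (fun a ha => by
      rw [Finset.mem_filter] at ha ⊢
      exact ⟨Finset.mem_univ _, hM a ha.2⟩)
  have hfilt : (Finset.univ.filter (fun y => y ∈ M)).filter (fun a => σ a = a)
      = Finset.univ.filter (fun y => y ∈ Z) := by
    ext a
    simp only [Finset.mem_filter, Finset.mem_univ, true_and]
    constructor
    · rintro ⟨-, h⟩; exact (hfix a).mp h
    · intro h; exact ⟨hZM h, (hfix a).mpr h⟩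
  rw [hfilt, ← hcM, ← hcZ, hZ] at hmod
  have hdvd : Nat.card ↥M ∣ 64 := by
    rw [← hcard]; exact Subgroup.card_subgroup_dvd_card M
  rcases card_4_or_64 hdvd hmod with h4 | h64
  · exfalso
    have : Z = M := Subgroup.eq_of_le_of_card_ge hZM (by omega)
    obtain ⟨y, hy, hyZ⟩ := hne
    exact hyZ (this ▸ hy)
  · exact Subgroup.eq_top_of_card_eq M (by omega)

/-- A group of order 64 with centre of order 4 and an automorphism of order 5 acting without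
fixed points on the central quotient (which is elementary abelian), with a marked element. -/
structure Sp5 {T : Type*} [Group T] (σ : MulAut T) (x c₁ c₂ : T) : Prop where
  card : Nat.card T = 64
  cardZ : Nat.card ↥(Subgroup.center T) = 4
  s5 : ∀ y, σ (σ (σ (σ (σ y)))) = y
  fix : ∀ z ∈ Subgroup.center T, σ z = z
  zsq : ∀ z ∈ Subgroup.center T, z * z = 1
  fpf : ∀ y, y⁻¹ * σ y ∈ Subgroup.center T → y ∈ Subgroup.center T
  sq : ∀ y, y * y ∈ Subgroup.center T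
  comm : ∀ y w : T, ⁅y, w⁆ ∈ Subgroup.center T
  hx : x ∉ Subgroup.center T
  hc₁ : ⁅x, σ x⁆ = c₁
  hc₂ : ⁅x, σ (σ x)⁆ = c₂

namespace Sp5

variable {T : Type*} [Group T] {σ : MulAut T} {x c₁ c₂ : T}

theorem finite (h : Sp5 σ x c₁ c₂) : Finite T :=
  Nat.finite_of_card_ne_zero (by rw [h.card]; norm_num)

theorem fixiff (h : Sp5 σ x c₁ c₂) (y : T) : σ y = y ↔ y ∈ Subgroup.center T := by
  constructor
  · intro hy
    apply h.fpf
    rw [hy, inv_mul_cancel]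
    exact Subgroup.one_mem _
  · exact h.fix y

theorem cc_fix (h : Sp5 σ x c₁ c₂) (y w : T) : ⁅σ y, σ w⁆ = ⁅y, w⁆ := by
  rw [← map_commutatorElement]
  exact h.fix _ (h.comm y w)

theorem tr_mem (h : Sp5 σ x c₁ c₂) (y : T) :
    y * σ y * σ (σ y) * σ (σ (σ y)) * σ (σ (σ (σ y))) ∈ Subgroup.center T := by
  set t := y * σ y * σ (σ y) * σ (σ (σ y)) * σ (σ (σ (σ y))) with ht
  have hσt : σ t = y⁻¹ * t * y := by
    simp only [ht, map_mul, h.s5]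
    group
  apply h.fpf
  have e : t⁻¹ * σ t = ⁅t⁻¹, y⁻¹⁆ := by
    rw [hσt, commutatorElement_def]
    group
  rw [e]
  exact h.comm _ _

theorem c₁_mem (h : Sp5 σ x c₁ c₂) : c₁ ∈ Subgroup.center T := h.hc₁ ▸ h.comm _ _

theorem c₂_mem (h : Sp5 σ x c₁ c₂) : c₂ ∈ Subgroup.center T := h.hc₂ ▸ h.comm _ _

theorem inv_c (h : Sp5 σ x c₁ c₂) {z : T} (hz : z ∈ Subgroup.center T) : z⁻¹ = z :=
  inv_eq_of_mul_eq_one_right (h.zsq z hz)

theorem sq_fix (h : Sp5 σ x c₁ c₂) (y : T) : σ y * σ y = y * y := by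
  rw [← map_mul]
  exact h.fix _ (h.sq y)

theorem k10 (h : Sp5 σ x c₁ c₂) : ⁅σ x, x⁆ = c₁ := by
  rw [← commutatorElement_inv, h.hc₁, h.inv_c h.c₁_mem]

theorem k20 (h : Sp5 σ x c₁ c₂) : ⁅σ (σ x), x⁆ = c₂ := by
  rw [← commutatorElement_inv, h.hc₂, h.inv_c h.c₂_mem]

theorem k21 (h : Sp5 σ x c₁ c₂) : ⁅σ (σ x), σ x⁆ = c₁ := by
  rw [h.cc_fix]; exact h.k10

theorem k30 (h : Sp5 σ x c₁ c₂) : ⁅σ (σ (σ x)), x⁆ = c₂ := by
  have e : ⁅σ (σ (σ x)), σ (σ (σ (σ (σ x))))⁆ = c₂ := by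
    rw [h.cc_fix, h.cc_fix, h.cc_fix]; exact h.hc₂
  rwa [h.s5] at e

theorem k31 (h : Sp5 σ x c₁ c₂) : ⁅σ (σ (σ x)), σ x⁆ = c₂ := by
  rw [h.cc_fix]; exact h.k20

theorem k32 (h : Sp5 σ x c₁ c₂) : ⁅σ (σ (σ x)), σ (σ x)⁆ = c₁ := by
  rw [h.cc_fix]; exact h.k21

theorem k03 (h : Sp5 σ x c₁ c₂) : ⁅x, σ (σ (σ x))⁆ = c₂ := by
  rw [← commutatorElement_inv, h.k30, h.inv_c h.c₂_mem]

theorem k04 (h : Sp5 σ x c₁ c₂) : ⁅x, σ (σ (σ (σ x)))⁆ = c₁ := by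
  have e : ⁅σ (σ (σ (σ (σ x)))), σ (σ (σ (σ x)))⁆ = c₁ := by
    rw [h.cc_fix, h.cc_fix, h.cc_fix, h.cc_fix]; exact h.k10
  rwa [h.s5] at e

theorem comm_aux (a b c : T) (hac : ∀ g : T, g * a = a * g) (hbc : ∀ g : T, g * b = b * g)
    (ha : a * a = 1) (hb : b * b = 1) : b * a * (c * b) * a * b = b * c := by
  calc b * a * (c * b) * a * b = a * (b * b) * c * a * b := by
        rw [← hbc a, hbc c]; group
    _ = a * c * a * b := by rw [hb, mul_one]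
    _ = c * (a * a) * b := by rw [← hac c]; group
    _ = b * c := by rw [ha, mul_one, hbc c]

theorem xsq (h : Sp5 σ x c₁ c₂) : x * x = c₁ * c₂ := by
  have hu := h.sq x
  have huu := h.zsq _ hu
  have h1 : σ x * σ x = x * x := h.sq_fix x
  have h2 : σ (σ x) * σ (σ x) = x * x := by rw [h.sq_fix, h1]
  have h3 : σ (σ (σ x)) * σ (σ (σ x)) = x * x := by rw [h.sq_fix, h2]
  have h4 : σ (σ (σ (σ x))) * σ (σ (σ (σ x))) = x * x := by rw [h.sq_fix, h3]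
  have ht := h.tr_mem x
  set P := x * σ x * σ (σ x) * σ (σ (σ x)) with hP
  set t := P * σ (σ (σ (σ x))) with htdef
  have htc := Subgroup.mem_center_iff.mp ht
  have e4 : σ (σ (σ (σ x))) = P⁻¹ * t := by rw [htdef]; group
  have hPP : P * P = c₁ * c₂ := by
    have a1 : (x * σ x) * (x * σ x) = (x * x) * (x * x) * c₁ := by
      rw [sq_mul_cc x (σ x) (h.comm _ _), h1, h.k10]
    have a2 : (x * σ x * σ (σ x)) * (x * σ x * σ (σ x))
        = (x * x) * (x * x) * c₁ * (x * x) * (c₂ * c₁) := by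
      rw [sq_mul_cc (x * σ x) (σ (σ x)) (h.comm _ _), a1, h2,
        cc_mul_right _ x (σ x) (h.comm _ _), h.k20, h.k21]
    have a3 : P * P = (x * x) * (x * x) * c₁ * (x * x) * (c₂ * c₁) * (x * x) * (c₂ * c₂ * c₁) := by
      rw [hP, sq_mul_cc (x * σ x * σ (σ x)) (σ (σ (σ x))) (h.comm _ _), a2, h3,
        cc_mul_right _ (x * σ x) (σ (σ x)) (h.comm _ _),
        cc_mul_right _ x (σ x) (h.comm _ _), h.k30, h.k31, h.k32]
    rw [a3, huu, one_mul, h.zsq c₂ h.c₂_mem, one_mul]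
    exact comm_aux (x * x) c₁ c₂ (Subgroup.mem_center_iff.mp hu)
      (Subgroup.mem_center_iff.mp h.c₁_mem) huu (h.zsq c₁ h.c₁_mem)
  have e5 : x * x = (P * P)⁻¹ := by
    rw [← h4, e4]
    rw [mul_assoc P⁻¹ t, ← htc (P⁻¹ * t), mul_assoc P⁻¹ t t, h.zsq t ht, mul_one]
    group
  rw [e5, hPP]
  exact h.inv_c (Subgroup.mul_mem _ h.c₁_mem h.c₂_mem)

theorem gen (h : Sp5 σ x c₁ c₂) (M : Subgroup T) (hZM : Subgroup.center T ≤ M)
    (hM : ∀ y ∈ M, σ y ∈ M) (hxM : x ∈ M) : M = ⊤ := by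
  haveI := h.finite
  exact inv_sub_top σ h.card (Subgroup.center T) h.cardZ h.s5 h.fixiff M hZM hM ⟨x, hxM, h.hx⟩

theorem gen5 (h : Sp5 σ x c₁ c₂) (N : Subgroup T) (hZ : Subgroup.center T ≤ N)
    (h0 : x ∈ N) (h1 : σ x ∈ N) (h2 : σ (σ x) ∈ N) (h3 : σ (σ (σ x)) ∈ N)
    (h4 : σ (σ (σ (σ x))) ∈ N) : N = ⊤ := by
  set M₀ : Subgroup T := Subgroup.closure {x, σ x, σ (σ x), σ (σ (σ x)), σ (σ (σ (σ x)))}
    ⊔ Subgroup.center T with hM₀
  have hle : M₀ ≤ N := by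
    apply sup_le _ hZ
    rw [Subgroup.closure_le]
    intro g hg
    simp only [Set.mem_insert_iff, Set.mem_singleton_iff] at hg
    rcases hg with rfl | rfl | rfl | rfl | rfl <;> assumption
  have hmem : ∀ g ∈ ({x, σ x, σ (σ x), σ (σ (σ x)), σ (σ (σ (σ x)))} : Set T), g ∈ M₀ :=
    fun g hg => Subgroup.mem_sup_left (Subgroup.subset_closure hg)
  have htop : M₀ = ⊤ := by
    apply h.gen M₀ le_sup_right
    · have : M₀ ≤ M₀.comap σ.toMonoidHom := by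
        apply sup_le
        · rw [Subgroup.closure_le]
          intro g hg
          show σ g ∈ M₀
          simp only [Set.mem_insert_iff, Set.mem_singleton_iff] at hg
          rcases hg with rfl | rfl | rfl | rfl | rfl
          · exact hmem _ (by simp)
          · exact hmem _ (by simp)
          · exact hmem _ (by simp)
          · exact hmem _ (by simp)
          · rw [h.s5]; exact hmem _ (by simp)
        · intro z hz
          show σ z ∈ M₀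
          rw [h.fix z hz]
          exact Subgroup.mem_sup_right hz
      exact fun y hy => this hy
    · exact hmem _ (by simp)
  rw [eq_top_iff, ← htop]
  exact hle

/-- all commutators lie in the subgroup generated by `c₁`, `c₂` -/
theorem comm_mem_W (h : Sp5 σ x c₁ c₂) (y w : T) :
    ⁅y, w⁆ ∈ Subgroup.zpowers c₁ ⊔ Subgroup.zpowers c₂ := by
  set W : Subgroup T := Subgroup.zpowers c₁ ⊔ Subgroup.zpowers c₂ with hWdef
  have hW : W ≤ Subgroup.center T :=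
    sup_le (Subgroup.zpowers_le.mpr h.c₁_mem) (Subgroup.zpowers_le.mpr h.c₂_mem)
  have hc₁W : c₁ ∈ W := Subgroup.mem_sup_left (Subgroup.mem_zpowers c₁)
  have hc₂W : c₂ ∈ W := Subgroup.mem_sup_right (Subgroup.mem_zpowers c₂)
  have hx : ∀ w, ⁅x, w⁆ ∈ W := by
    have : cdSub W hW x = ⊤ := by
      refine h.gen5 (cdSub W hW x) ?_ ?_ ?_ ?_ ?_ ?_
      · intro z hz
        rw [mem_cdSub, cc_central_right x z hz]
        exact W.one_mem
      · rw [mem_cdSub, commutatorElement_self]; exact W.one_mem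
      · rw [mem_cdSub, h.hc₁]; exact hc₁W
      · rw [mem_cdSub, h.hc₂]; exact hc₂W
      · rw [mem_cdSub, h.k03]; exact hc₂W
      · rw [mem_cdSub, h.k04]; exact hc₁W
    intro w
    have hw : w ∈ cdSub W hW x := this ▸ Subgroup.mem_top w
    exact hw
  let Y : Subgroup T :=
    { carrier := {y | ∀ w, ⁅y, w⁆ ∈ W}
      mul_mem' := by
        intro y y' hy hy' w
        rw [cc_mul_left y y' w (h.comm _ _)]
        exact W.mul_mem (hy w) (hy' w)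
      one_mem' := by
        intro w
        rw [commutatorElement_one_left]
        exact W.one_mem
      inv_mem' := by
        intro y hy w
        have e := cc_mul_left y y⁻¹ w (h.comm _ _)
        rw [mul_inv_cancel, commutatorElement_one_left] at e
        have e2 : ⁅y⁻¹, w⁆ = ⁅y, w⁆⁻¹ := (inv_eq_of_mul_eq_one_right e.symm).symm
        rw [e2]
        exact W.inv_mem (hy w) }
  have hY : Y = ⊤ := by
    apply h.gen Y
    · intro z hz w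
      rw [cc_central_left z w hz]
      exact W.one_mem
    · intro y hy w
      have e : ⁅σ y, σ (σ (σ (σ (σ w))))⁆ ∈ W := by
        rw [h.cc_fix]
        exact hy _
      rwa [h.s5] at e
    · exact hx
  have hy : y ∈ Y := hY ▸ Subgroup.mem_top y
  exact hy w

/-- with `c₁`, `c₂` independent, the centre is generated by them -/
theorem center_le (h : Sp5 σ x c₁ c₂) (hc₁ : c₁ ≠ 1) (hc₂ : c₂ ≠ 1) (hc₁₂ : c₁ ≠ c₂)
    (N : Subgroup T) (h1 : c₁ ∈ N) (h2 : c₂ ∈ N) : Subgroup.center T ≤ N := by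
  haveI := h.finite
  set W : Subgroup T := Subgroup.zpowers c₁ ⊔ Subgroup.zpowers c₂ with hWdef
  have hW : W ≤ Subgroup.center T :=
    sup_le (Subgroup.zpowers_le.mpr h.c₁_mem) (Subgroup.zpowers_le.mpr h.c₂_mem)
  have hc₁W : c₁ ∈ W := Subgroup.mem_sup_left (Subgroup.mem_zpowers c₁)
  have hc₂W : c₂ ∈ W := Subgroup.mem_sup_right (Subgroup.mem_zpowers c₂)
  have hWN : W ≤ N := sup_le (Subgroup.zpowers_le.mpr h1) (Subgroup.zpowers_le.mpr h2)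
  have hdvd : Nat.card ↥W ∣ 4 := by
    rw [← h.cardZ]; exact Subgroup.card_dvd_of_le hW
  have h3 : 3 ≤ Nat.card ↥W := by
    letI : Fintype ↥W := Fintype.ofFinite _
    rw [Nat.card_eq_fintype_card]
    have hs : ({(1 : ↥W), ⟨c₁, hc₁W⟩, ⟨c₂, hc₂W⟩} : Finset ↥W).card = 3 := by
      rw [Finset.card_eq_three]
      refine ⟨1, ⟨c₁, hc₁W⟩, ⟨c₂, hc₂W⟩, ?_, ?_, ?_, rfl⟩
      · intro e; exact hc₁ (congrArg Subtype.val e).symm
      · intro e; exact hc₂ (congrArg Subtype.val e).symm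
      · intro e; exact hc₁₂ (congrArg Subtype.val e)
    rw [← hs]
    exact Finset.card_le_univ _
  have h4 : Nat.card ↥W = 4 := by
    have hle := Nat.le_of_dvd (by norm_num) hdvd
    interval_cases hm : Nat.card ↥W
    · norm_num at hdvd
    · rfl
  have hWZ : W = Subgroup.center T :=
    Subgroup.eq_of_le_of_card_ge hW (by rw [h4, h.cardZ])
  rw [← hWZ]
  exact hWN

theorem normalize (h : Sp5 σ x c₁ c₂) : ∃ x', Sp5 σ x' c₁ c₂ ∧
    x' * σ x' * σ (σ x') * σ (σ (σ x')) * σ (σ (σ (σ x'))) = 1 := by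
  have ht := h.tr_mem x
  set t := x * σ x * σ (σ x) * σ (σ (σ x)) * σ (σ (σ (σ x))) with htdef
  have hσt : σ t = t := h.fix t ht
  have htt : t * t = 1 := h.zsq t ht
  have e1 : σ (x * t) = σ x * t := by rw [map_mul, hσt]
  have e2 : σ (σ (x * t)) = σ (σ x) * t := by rw [e1, map_mul, hσt]
  have e3 : σ (σ (σ (x * t))) = σ (σ (σ x)) * t := by rw [e2, map_mul, hσt]
  have e4 : σ (σ (σ (σ (x * t)))) = σ (σ (σ (σ x))) * t := by rw [e3, map_mul, hσt]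
  refine ⟨x * t, ⟨h.card, h.cardZ, h.s5, h.fix, h.zsq, h.fpf, h.sq, h.comm, ?_, ?_, ?_⟩, ?_⟩
  · intro hxt
    apply h.hx
    have : x = (x * t) * t⁻¹ := by group
    rw [this]
    exact Subgroup.mul_mem _ hxt (Subgroup.inv_mem _ ht)
  · rw [e1, cc_mul_central x (σ x) t t ht ht]
    exact h.hc₁
  · rw [e2, cc_mul_central x (σ (σ x)) t t ht ht]
    exact h.hc₂
  · rw [e4, e3, e2, e1, mul5_central x (σ x) (σ (σ x)) (σ (σ (σ x))) (σ (σ (σ (σ x)))) t ht,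
      ← htdef]
    have : t * (t * t * t * t * t) = (t * t) * (t * t) * (t * t) := by group
    rw [this, htt, one_mul, one_mul]

end Sp5

theorem prod_mem_center {T₁ T₂ : Type*} [Group T₁] [Group T₂] {a : T₁} {b : T₂}
    (ha : a ∈ Subgroup.center T₁) (hb : b ∈ Subgroup.center T₂) :
    (a, b) ∈ Subgroup.center (T₁ × T₂) := by
  rw [Subgroup.mem_center_iff]
  intro g
  exact Prod.ext (Subgroup.mem_center_iff.mp ha g.1) (Subgroup.mem_center_iff.mp hb g.2)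

theorem Sp5.iso_aux {T₁ T₂ : Type*} [Group T₁] [Group T₂] {σ₁ : MulAut T₁} {σ₂ : MulAut T₂}
    {x₁ c₁ c₂ : T₁} {x₂ d₁ d₂ : T₂} (h₁ : Sp5 σ₁ x₁ c₁ c₂) (h₂ : Sp5 σ₂ x₂ d₁ d₂)
    (n₁ : x₁ * σ₁ x₁ * σ₁ (σ₁ x₁) * σ₁ (σ₁ (σ₁ x₁)) * σ₁ (σ₁ (σ₁ (σ₁ x₁))) = 1)
    (n₂ : x₂ * σ₂ x₂ * σ₂ (σ₂ x₂) * σ₂ (σ₂ (σ₂ x₂)) * σ₂ (σ₂ (σ₂ (σ₂ x₂))) = 1)
    (hc₁ : c₁ ≠ 1) (hc₂ : c₂ ≠ 1) (hc₁₂ : c₁ ≠ c₂) (hd₁ : d₁ ≠ 1) (hd₂ : d₂ ≠ 1)
    (hd₁₂ : d₁ ≠ d₂) :
    ∃ Φ : T₁ ≃* T₂, ∀ y, Φ (σ₁ y) = σ₂ (Φ y) := by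
  haveI := h₁.finite
  haveI := h₂.finite
  set e₁ : T₁ × T₂ := (c₁, d₁) with he₁
  set e₂ : T₁ × T₂ := (c₂, d₂) with he₂
  have he₁c : e₁ ∈ Subgroup.center (T₁ × T₂) := prod_mem_center h₁.c₁_mem h₂.c₁_mem
  have he₂c : e₂ ∈ Subgroup.center (T₁ × T₂) := prod_mem_center h₁.c₂_mem h₂.c₂_mem
  have he₁s : e₁ * e₁ = 1 := Prod.ext (h₁.zsq _ h₁.c₁_mem) (h₂.zsq _ h₂.c₁_mem)
  have he₂s : e₂ * e₂ = 1 := Prod.ext (h₁.zsq _ h₁.c₂_mem) (h₂.zsq _ h₂.c₂_mem)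
  set D : Subgroup (T₁ × T₂) := ⊥ ⊔ Subgroup.zpowers e₁ ⊔ Subgroup.zpowers e₂ with hDdef
  have hD : D ≤ Subgroup.center (T₁ × T₂) :=
    sup_le (sup_le bot_le (Subgroup.zpowers_le.mpr he₁c)) (Subgroup.zpowers_le.mpr he₂c)
  have hcD : Nat.card ↥D ≤ 4 := card_chain2 e₁ e₂ he₁s he₂s (cc_central_left e₂ e₁ he₂c)
  have he₁D : e₁ ∈ D := Subgroup.mem_sup_left (Subgroup.mem_sup_right (Subgroup.mem_zpowers e₁))
  have he₂D : e₂ ∈ D := Subgroup.mem_sup_right (Subgroup.mem_zpowers e₂)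
  have he₁₂D : e₁ * e₂ ∈ D := D.mul_mem he₁D he₂D
  set g₀ : T₁ × T₂ := (x₁, x₂) with hg₀
  set g₁ : T₁ × T₂ := (σ₁ x₁, σ₂ x₂) with hg₁
  set g₂ : T₁ × T₂ := (σ₁ (σ₁ x₁), σ₂ (σ₂ x₂)) with hg₂
  set g₃ : T₁ × T₂ := (σ₁ (σ₁ (σ₁ x₁)), σ₂ (σ₂ (σ₂ x₂))) with hg₃
  set g₄ : T₁ × T₂ := (σ₁ (σ₁ (σ₁ (σ₁ x₁))), σ₂ (σ₂ (σ₂ (σ₂ x₂)))) with hg₄
  have s₀ : g₀ * g₀ = e₁ * e₂ := Prod.ext h₁.xsq h₂.xsq
  have s₁ : g₁ * g₁ = e₁ * e₂ :=
    Prod.ext ((h₁.sq_fix _).trans h₁.xsq) ((h₂.sq_fix _).trans h₂.xsq)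
  have s₂ : g₂ * g₂ = e₁ * e₂ :=
    Prod.ext ((h₁.sq_fix _).trans ((h₁.sq_fix _).trans h₁.xsq))
      ((h₂.sq_fix _).trans ((h₂.sq_fix _).trans h₂.xsq))
  have s₃ : g₃ * g₃ = e₁ * e₂ :=
    Prod.ext ((h₁.sq_fix _).trans ((h₁.sq_fix _).trans ((h₁.sq_fix _).trans h₁.xsq)))
      ((h₂.sq_fix _).trans ((h₂.sq_fix _).trans ((h₂.sq_fix _).trans h₂.xsq)))
  have k₁₀ : ⁅g₁, g₀⁆ = e₁ := Prod.ext h₁.k10 h₂.k10
  have k₂₀ : ⁅g₂, g₀⁆ = e₂ := Prod.ext h₁.k20 h₂.k20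
  have k₂₁ : ⁅g₂, g₁⁆ = e₁ := Prod.ext h₁.k21 h₂.k21
  have k₃₀ : ⁅g₃, g₀⁆ = e₂ := Prod.ext h₁.k30 h₂.k30
  have k₃₁ : ⁅g₃, g₁⁆ = e₂ := Prod.ext h₁.k31 h₂.k31
  have k₃₂ : ⁅g₃, g₂⁆ = e₁ := Prod.ext h₁.k32 h₂.k32
  set B : Subgroup (T₁ × T₂) := D ⊔ Subgroup.zpowers g₀ ⊔ Subgroup.zpowers g₁
    ⊔ Subgroup.zpowers g₂ ⊔ Subgroup.zpowers g₃ with hBdef
  have hcB : Nat.card ↥B ≤ 64 := by
    have h16 : Nat.card ↥B ≤ 16 * Nat.card ↥D :=
      card_chain4 D hD g₀ g₁ g₂ g₃ (s₀ ▸ he₁₂D) (s₁ ▸ he₁₂D) (s₂ ▸ he₁₂D) (s₃ ▸ he₁₂D)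
        (k₁₀ ▸ he₁D) (k₂₀ ▸ he₂D) (k₂₁ ▸ he₁D) (k₃₀ ▸ he₂D) (k₃₁ ▸ he₂D) (k₃₂ ▸ he₁D)
    omega
  have hDB : D ≤ B := le_sup_left.trans (le_sup_left.trans (le_sup_left.trans le_sup_left))
  have hg₀B : g₀ ∈ B :=
    Subgroup.mem_sup_left (Subgroup.mem_sup_left (Subgroup.mem_sup_left
      (Subgroup.mem_sup_right (Subgroup.mem_zpowers g₀))))
  have hg₁B : g₁ ∈ B :=
    Subgroup.mem_sup_left (Subgroup.mem_sup_left (Subgroup.mem_sup_right (Subgroup.mem_zpowers g₁)))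
  have hg₂B : g₂ ∈ B :=
    Subgroup.mem_sup_left (Subgroup.mem_sup_right (Subgroup.mem_zpowers g₂))
  have hg₃B : g₃ ∈ B := Subgroup.mem_sup_right (Subgroup.mem_zpowers g₃)
  have hg₄B : g₄ ∈ B := by
    have e : g₄ = (g₀ * g₁ * g₂ * g₃)⁻¹ := by
      have : g₀ * g₁ * g₂ * g₃ * g₄ = 1 := Prod.ext n₁ n₂
      exact eq_inv_of_mul_eq_one_right this
    rw [e]
    exact B.inv_mem (B.mul_mem (B.mul_mem (B.mul_mem hg₀B hg₁B) hg₂B) hg₃B)
  set τ : (T₁ × T₂) →* (T₁ × T₂) := MonoidHom.prodMap σ₁.toMonoidHom σ₂.toMonoidHom with hτ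
  have hinv : B ≤ B.comap τ := by
    have hDinv : D ≤ B.comap τ := by
      rw [hDdef]
      refine sup_le (sup_le bot_le ?_) ?_
      · rw [Subgroup.zpowers_le]
        show τ e₁ ∈ B
        have : τ e₁ = e₁ := Prod.ext (h₁.fix _ h₁.c₁_mem) (h₂.fix _ h₂.c₁_mem)
        rw [this]; exact hDB he₁D
      · rw [Subgroup.zpowers_le]
        show τ e₂ ∈ B
        have : τ e₂ = e₂ := Prod.ext (h₁.fix _ h₁.c₂_mem) (h₂.fix _ h₂.c₂_mem)
        rw [this]; exact hDB he₂D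
    refine sup_le (sup_le (sup_le (sup_le hDinv ?_) ?_) ?_) ?_
    · rw [Subgroup.zpowers_le]; exact hg₁B
    · rw [Subgroup.zpowers_le]; exact hg₂B
    · rw [Subgroup.zpowers_le]; exact hg₃B
    · rw [Subgroup.zpowers_le]; exact hg₄B
  have hp₁ : B.map (MonoidHom.fst T₁ T₂) = ⊤ := by
    apply h₁.gen5
    · apply h₁.center_le hc₁ hc₂ hc₁₂
      · exact ⟨e₁, hDB he₁D, rfl⟩
      · exact ⟨e₂, hDB he₂D, rfl⟩
    · exact ⟨g₀, hg₀B, rfl⟩
    · exact ⟨g₁, hg₁B, rfl⟩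
    · exact ⟨g₂, hg₂B, rfl⟩
    · exact ⟨g₃, hg₃B, rfl⟩
    · exact ⟨g₄, hg₄B, rfl⟩
  have hp₂ : B.map (MonoidHom.snd T₁ T₂) = ⊤ := by
    apply h₂.gen5
    · apply h₂.center_le hd₁ hd₂ hd₁₂
      · exact ⟨e₁, hDB he₁D, rfl⟩
      · exact ⟨e₂, hDB he₂D, rfl⟩
    · exact ⟨g₀, hg₀B, rfl⟩
    · exact ⟨g₁, hg₁B, rfl⟩
    · exact ⟨g₂, hg₂B, rfl⟩
    · exact ⟨g₃, hg₃B, rfl⟩
    · exact ⟨g₄, hg₄B, rfl⟩
  let p₁ : ↥B →* T₁ := (MonoidHom.fst T₁ T₂).comp B.subtype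
  let p₂ : ↥B →* T₂ := (MonoidHom.snd T₁ T₂).comp B.subtype
  have hs₁ : Function.Surjective p₁ := by
    intro y
    have : y ∈ B.map (MonoidHom.fst T₁ T₂) := hp₁ ▸ Subgroup.mem_top y
    obtain ⟨b, hb, rfl⟩ := this
    exact ⟨⟨b, hb⟩, rfl⟩
  have hs₂ : Function.Surjective p₂ := by
    intro y
    have : y ∈ B.map (MonoidHom.snd T₁ T₂) := hp₂ ▸ Subgroup.mem_top y
    obtain ⟨b, hb, rfl⟩ := this
    exact ⟨⟨b, hb⟩, rfl⟩
  have hb₁ : Function.Bijective p₁ := hs₁.bijective_of_nat_card_le (by rw [h₁.card]; exact hcB)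
  have hb₂ : Function.Bijective p₂ := hs₂.bijective_of_nat_card_le (by rw [h₂.card]; exact hcB)
  have hΦ : ∀ b : ↥B, ((MulEquiv.ofBijective p₁ hb₁).symm.trans (MulEquiv.ofBijective p₂ hb₂))
      b.1.1 = b.1.2 := by
    intro b
    have : (MulEquiv.ofBijective p₁ hb₁).symm b.1.1 = b := by
      rw [MulEquiv.symm_apply_eq]; rfl
    rw [MulEquiv.trans_apply, this]; rfl
  refine ⟨(MulEquiv.ofBijective p₁ hb₁).symm.trans (MulEquiv.ofBijective p₂ hb₂), ?_⟩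
  intro y
  obtain ⟨b, rfl⟩ := hs₁ y
  have hb' : τ b.1 ∈ B := hinv b.2
  have e1 := hΦ ⟨τ b.1, hb'⟩
  have e2 := hΦ b
  show ((MulEquiv.ofBijective p₁ hb₁).symm.trans (MulEquiv.ofBijective p₂ hb₂)) (σ₁ b.1.1)
    = σ₂ (((MulEquiv.ofBijective p₁ hb₁).symm.trans (MulEquiv.ofBijective p₂ hb₂)) b.1.1)
  rw [e2]
  exact e1

/-- Two such structures with independent commutators are equivariantly isomorphic. -/
theorem Sp5.iso {T₁ T₂ : Type*} [Group T₁] [Group T₂] {σ₁ : MulAut T₁} {σ₂ : MulAut T₂}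
    {x₁ c₁ c₂ : T₁} {x₂ d₁ d₂ : T₂} (h₁ : Sp5 σ₁ x₁ c₁ c₂) (h₂ : Sp5 σ₂ x₂ d₁ d₂)
    (hc₁ : c₁ ≠ 1) (hc₂ : c₂ ≠ 1) (hc₁₂ : c₁ ≠ c₂) (hd₁ : d₁ ≠ 1) (hd₂ : d₂ ≠ 1)
    (hd₁₂ : d₁ ≠ d₂) :
    ∃ Φ : T₁ ≃* T₂, ∀ y, Φ (σ₁ y) = σ₂ (Φ y) := by
  obtain ⟨x₁', h₁', n₁⟩ := h₁.normalize
  obtain ⟨x₂', h₂', n₂⟩ := h₂.normalize
  exact Sp5.iso_aux h₁' h₂' n₁ n₂ hc₁ hc₂ hc₁₂ hd₁ hd₂ hd₁₂

end Cfsg.Agent.H60
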