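import Mathlib
import Cfsg.Agent.H60.Sp5

/-!
# helper60: groups of order 64 with a fixed-point-free automorphism of order three

Generic facts on fixed-point-free automorphisms of order three (`Fpf3`), the structure of a
non-abelian group of order 64 admitting one (`T64`), and a recognition theorem (`R64.iso`): two
such groups, each containing two non-commuting involutions, are isomorphic.
-/

set_option autoImplicit false

namespace Cfsg.Agent.H60

open scoped Classical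

open scoped commutatorElement

/-- Fixed points of a map of order dividing 3 on a stable finite set, modulo 3. -/
theorem fix3_card {α : Type*} (A : α → α) (hA3 : ∀ a, A (A (A a)) = a)
    (X : Finset α) (hX : ∀ a ∈ X, A a ∈ X) :
    X.card ≡ (X.filter (fun a => A a = a)).card [MOD 3] := by
  haveI : Fact (Nat.Prime 3) := ⟨Nat.prime_three⟩
  let f : Function.End ↥X := fun x => ⟨A x.1, hX x.1 x.2⟩
  have hf : f ^ 3 ^ 1 = 1 := by
    rw [pow_one]
    have h3 : f ^ 3 = f * f * f := by rw [pow_succ, pow_two]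
    rw [h3]
    funext x
    exact Subtype.ext (hA3 x.1)
  have h := Equiv.Perm.card_fixedPoints_modEq (f := f) (p := 3) (n := 1) hf
  have h2 : Nat.card ↥(Function.fixedPoints f) = (X.filter (fun a => A a = a)).card := by
    rw [← Fintype.card_coe (X.filter _), ← Nat.card_eq_fintype_card]
    apply Nat.card_congr
    exact
      { toFun := fun y => ⟨y.1.1, Finset.mem_filter.mpr ⟨y.1.2, congrArg Subtype.val y.2⟩⟩
        invFun := fun z => ⟨⟨z.1, (Finset.mem_filter.mp z.2).1⟩,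
          Subtype.ext (Finset.mem_filter.mp z.2).2⟩
        left_inv := fun y => rfl
        right_inv := fun z => rfl }
  rw [← h2]
  convert h using 1
  · rw [Fintype.card_coe]
  · rw [Nat.card_eq_fintype_card]

/-- A fixed-point-free automorphism of order dividing three. -/
structure Fpf3 {T : Type*} [Group T] (ρ : MulAut T) : Prop where
  r3 : ∀ y, ρ (ρ (ρ y)) = y
  fp : ∀ y, ρ y = y → y = 1

/-- The subgroup `M` is stable under the automorphism `ρ`. -/
def RInv {T : Type*} [Group T] (ρ : MulAut T) (M : Subgroup T) : Prop := ∀ y ∈ M, ρ y ∈ M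

section rinv

variable {T : Type*} [Group T] {ρ : MulAut T}

theorem rinv_sup {M N : Subgroup T} (hM : RInv ρ M) (hN : RInv ρ N) : RInv ρ (M ⊔ N) := by
  intro y hy
  have hle : M ⊔ N ≤ (M ⊔ N).comap ρ.toMonoidHom :=
    sup_le (fun m hm => Subgroup.mem_sup_left (hM m hm))
      (fun n hn => Subgroup.mem_sup_right (hN n hn))
  exact hle hy

theorem rinv_inf {M N : Subgroup T} (hM : RInv ρ M) (hN : RInv ρ N) : RInv ρ (M ⊓ N) :=
  fun y hy => ⟨hM y hy.1, hN y hy.2⟩

theorem rinv_center : RInv ρ (Subgroup.center T) := by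
  intro z hz
  rw [Subgroup.mem_center_iff] at hz ⊢
  intro g
  have h := congrArg ρ (hz (ρ.symm g))
  simp only [map_mul, MulEquiv.apply_symm_apply] at h
  exact h

end rinv

namespace Fpf3

variable {T : Type*} [Group T] {ρ : MulAut T}

theorem tr [Finite T] (h : Fpf3 ρ) (y : T) : y * ρ y * ρ (ρ y) = 1 := by
  have hinj : Function.Injective (fun w : T => w⁻¹ * ρ w) := by
    intro w w' hww
    have hww' : w⁻¹ * ρ w = w'⁻¹ * ρ w' := hww
    have e : ρ (w' * w⁻¹) = w' * w⁻¹ := by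
      rw [map_mul, map_inv]
      have e' : ρ w' = w' * (w⁻¹ * ρ w) := by rw [hww']; group
      rw [e']; group
    have h1 := h.fp _ e
    exact (mul_inv_eq_one.mp h1).symm
  obtain ⟨w, hw⟩ := (Finite.surjective_of_injective hinj) y
  have hw' : y = w⁻¹ * ρ w := hw.symm
  rw [hw']
  simp only [map_mul, map_inv, h.r3]
  group

theorem sq (h : Fpf3 ρ) : Fpf3 (ρ * ρ) where
  r3 := fun y => by
    simp only [MulAut.mul_apply, h.r3]
  fp := fun y hy => by
    rw [MulAut.mul_apply] at hy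
    apply h.fp
    have h1 := congrArg ρ hy
    rw [h.r3] at h1
    exact h1.symm

theorem tr' [Finite T] (h : Fpf3 ρ) (y : T) : y * ρ (ρ y) * ρ y = 1 := by
  have h1 := h.sq.tr y
  simp only [MulAut.mul_apply, h.r3] at h1
  exact h1

theorem comm [Finite T] (h : Fpf3 ρ) (y : T) : y * ρ y = ρ y * y := by
  have h1 := h.tr y
  have h2 := h.tr' (ρ y)
  rw [h.r3] at h2
  exact mul_right_cancel (h1.trans h2.symm)

theorem rr [Finite T] (h : Fpf3 ρ) (y : T) : ρ (ρ y) = (y * ρ y)⁻¹ :=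
  eq_inv_of_mul_eq_one_right (h.tr y)

theorem rinv_pair [Finite T] (h : Fpf3 ρ) (y : T) : RInv ρ (Subgroup.closure {y, ρ y}) := by
  intro w hw
  have hle : Subgroup.closure {y, ρ y} ≤ (Subgroup.closure {y, ρ y}).comap ρ.toMonoidHom := by
    rw [Subgroup.closure_le]
    intro w hw
    rcases hw with hw | hw
    · show ρ w ∈ Subgroup.closure {y, ρ y}
      rw [hw]
      exact Subgroup.subset_closure (Or.inr rfl)
    · show ρ w ∈ Subgroup.closure {y, ρ y}
      rw [Set.mem_singleton_iff.mp hw, h.rr]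
      exact inv_mem (mul_mem (Subgroup.subset_closure (Or.inl rfl))
        (Subgroup.subset_closure (Or.inr rfl)))
  exact hle hw

theorem pair_le_centralizer [Finite T] (h : Fpf3 ρ) (y : T) :
    Subgroup.closure {y, ρ y} ≤ Subgroup.centralizer {y} := by
  rw [Subgroup.closure_le]
  intro w hw
  rcases hw with hw | hw
  · rw [hw]
    exact Subgroup.mem_centralizer_iff.mpr (fun g hg => by rw [Set.mem_singleton_iff.mp hg])
  · rw [Set.mem_singleton_iff.mp hw]
    exact Subgroup.mem_centralizer_iff.mpr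
      (fun g hg => by rw [Set.mem_singleton_iff.mp hg]; exact h.comm y)

theorem central_of_top [Finite T] (h : Fpf3 ρ) (a : T) (N : Subgroup T)
    (hN : N ≤ Subgroup.centralizer {a}) (htop : Subgroup.closure {a, ρ a} ⊔ N = ⊤) :
    a ∈ Subgroup.center T := by
  have hle : Subgroup.closure {a, ρ a} ⊔ N ≤ Subgroup.centralizer {a} :=
    sup_le (h.pair_le_centralizer a) hN
  rw [htop] at hle
  rw [Subgroup.mem_center_iff]
  intro g
  exact (Subgroup.mem_centralizer_iff.mp (hle (Subgroup.mem_top g)) a rfl).symm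

theorem card_mod [Finite T] (h : Fpf3 ρ) (M : Subgroup T) (hM : RInv ρ M) :
    Nat.card ↥M ≡ 1 [MOD 3] := by
  letI : Fintype T := Fintype.ofFinite T
  have hcM : Nat.card ↥M = (Finset.univ.filter (fun y => y ∈ M)).card := by
    rw [Nat.card_eq_fintype_card, Fintype.card_subtype]
  have hmod := fix3_card ρ h.r3 (Finset.univ.filter (fun y => y ∈ M))
    (fun a ha => by
      rw [Finset.mem_filter] at ha ⊢
      exact ⟨Finset.mem_univ _, hM a ha.2⟩)
  have hfilt : (Finset.univ.filter (fun y => y ∈ M)).filter (fun a => ρ a = a) = {1} := by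
    ext a
    simp only [Finset.mem_filter, Finset.mem_univ, true_and, Finset.mem_singleton]
    constructor
    · rintro ⟨-, h'⟩; exact h.fp a h'
    · intro ha; rw [ha]; exact ⟨M.one_mem, map_one ρ⟩
  rw [hfilt, ← hcM, Finset.card_singleton] at hmod
  exact hmod

theorem card_cases [Finite T] (h : Fpf3 ρ) (hT : Nat.card T = 64) (M : Subgroup T)
    (hM : RInv ρ M) :
    Nat.card ↥M = 1 ∨ Nat.card ↥M = 4 ∨ Nat.card ↥M = 16 ∨ Nat.card ↥M = 64 := by
  have hdvd : Nat.card ↥M ∣ 64 := by rw [← hT]; exact Subgroup.card_subgroup_dvd_card M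
  have hmod := h.card_mod M hM
  have h64 : (64 : ℕ) = 2 ^ 6 := by norm_num
  rw [h64] at hdvd
  obtain ⟨k, hk, hk'⟩ := (Nat.dvd_prime_pow Nat.prime_two).mp hdvd
  rw [hk'] at hmod ⊢
  interval_cases k <;> simp [Nat.ModEq] at hmod ⊢

theorem top_of_16 [Finite T] (h : Fpf3 ρ) (hT : Nat.card T = 64) (N : Subgroup T)
    (hN : RInv ρ N) (hcN : Nat.card ↥N = 16) (a : T) (ha : a ∉ N) :
    Subgroup.closure {a, ρ a} ⊔ N = ⊤ := by
  have hM : RInv ρ (Subgroup.closure {a, ρ a} ⊔ N) := rinv_sup (h.rinv_pair a) hN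
  have hNM : N ≤ Subgroup.closure {a, ρ a} ⊔ N := le_sup_right
  have haM : a ∈ Subgroup.closure {a, ρ a} ⊔ N :=
    Subgroup.mem_sup_left (Subgroup.subset_closure (Or.inl rfl))
  have hle : Nat.card ↥N ≤ Nat.card ↥(Subgroup.closure {a, ρ a} ⊔ N) :=
    Subgroup.card_le_of_le hNM
  rcases h.card_cases hT _ hM with h1 | h1 | h1 | h1
  · omega
  · omega
  · exfalso
    have e : N = Subgroup.closure {a, ρ a} ⊔ N := Subgroup.eq_of_le_of_card_ge hNM (by omega)
    exact ha (e ▸ haM)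
  · exact Subgroup.eq_top_of_card_eq _ (by omega)

theorem card_of_4 [Finite T] (h : Fpf3 ρ) (hT : Nat.card T = 64) (N : Subgroup T)
    (hN : RInv ρ N) (hcN : Nat.card ↥N = 4) (a : T) (ha : a ∉ N) :
    Nat.card ↥(Subgroup.closure {a, ρ a} ⊔ N) = 16 ∨ Subgroup.closure {a, ρ a} ⊔ N = ⊤ := by
  have hM : RInv ρ (Subgroup.closure {a, ρ a} ⊔ N) := rinv_sup (h.rinv_pair a) hN
  have hNM : N ≤ Subgroup.closure {a, ρ a} ⊔ N := le_sup_right
  have haM : a ∈ Subgroup.closure {a, ρ a} ⊔ N :=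
    Subgroup.mem_sup_left (Subgroup.subset_closure (Or.inl rfl))
  have hle : Nat.card ↥N ≤ Nat.card ↥(Subgroup.closure {a, ρ a} ⊔ N) :=
    Subgroup.card_le_of_le hNM
  rcases h.card_cases hT _ hM with h1 | h1 | h1 | h1
  · omega
  · exfalso
    have e : N = Subgroup.closure {a, ρ a} ⊔ N := Subgroup.eq_of_le_of_card_ge hNM (by omega)
    exact ha (e ▸ haM)
  · exact Or.inl h1
  · exact Or.inr (Subgroup.eq_top_of_card_eq _ (by omega))

/-- The centre has order 4. -/
theorem center_card [Finite T] (h : Fpf3 ρ) (hT : Nat.card T = 64) (a b : T)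
    (hab : a * b ≠ b * a) : Nat.card ↥(Subgroup.center T) = 4 := by
  haveI : Fact (Nat.Prime 2) := ⟨Nat.prime_two⟩
  have hp : IsPGroup 2 T := IsPGroup.of_card (n := 6) (by rw [hT]; norm_num)
  haveI : Nontrivial T := ⟨⟨a, b, fun e => hab (by rw [e])⟩⟩
  haveI := hp.center_nontrivial
  have h1 : 1 < Nat.card ↥(Subgroup.center T) := Finite.one_lt_card
  have haZ : a ∉ Subgroup.center T := fun hz => hab (Subgroup.mem_center_iff.mp hz b).symm
  rcases h.card_cases hT _ rinv_center with h' | h' | h' | h'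
  · omega
  · exact h'
  · exfalso
    have htop := h.top_of_16 hT _ rinv_center h' a haZ
    exact haZ (h.central_of_top a _ (Subgroup.center_le_centralizer _) htop)
  · exfalso
    have e : Subgroup.center T = ⊤ := Subgroup.eq_top_of_card_eq _ (by omega)
    exact haZ (e ▸ Subgroup.mem_top a)

/-- The centre has exponent 2. -/
theorem center_sq [Finite T] (h : Fpf3 ρ) (hT : Nat.card T = 64)
    (hZ : Nat.card ↥(Subgroup.center T) = 4) : ∀ z ∈ Subgroup.center T, z * z = 1 := by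
  let Ω : Subgroup T :=
    { carrier := {z | z ∈ Subgroup.center T ∧ z * z = 1}
      mul_mem' := by
        rintro z w ⟨hz, hz1⟩ ⟨hw, hw1⟩
        refine ⟨mul_mem hz hw, ?_⟩
        have hzw := Subgroup.mem_center_iff.mp hw z
        have e : z * w * (z * w) = (z * z) * (w * w) := by
          calc z * w * (z * w) = z * (w * z) * w := by group
            _ = z * (z * w) * w := by rw [← hzw]
            _ = (z * z) * (w * w) := by group
        rw [e, hz1, hw1, one_mul]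
      one_mem' := ⟨Subgroup.one_mem _, one_mul 1⟩
      inv_mem' := by
        rintro z ⟨hz, hz1⟩
        refine ⟨inv_mem hz, ?_⟩
        rw [← mul_inv_rev, hz1, inv_one] }
  have hΩ : RInv ρ Ω := by
    rintro z ⟨hz, hz1⟩
    exact ⟨rinv_center z hz, by rw [← map_mul, hz1, map_one]⟩
  have hΩle : Ω ≤ Subgroup.center T := fun z hz => hz.1
  haveI : Fact (Nat.Prime 2) := ⟨Nat.prime_two⟩
  obtain ⟨g, hg⟩ := exists_prime_orderOf_dvd_card' (G := ↥(Subgroup.center T)) 2
    (by rw [hZ]; norm_num)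
  have hg1 : g ≠ 1 := by
    intro e
    rw [e, orderOf_one] at hg
    omega
  have hg2 : g * g = 1 := by
    have e := pow_orderOf_eq_one g
    rw [hg, pow_two] at e
    exact e
  have hgΩ : g.1 ∈ Ω := ⟨g.2, by
    have e := congrArg Subtype.val hg2
    simpa using e⟩
  have hcΩ : Nat.card ↥Ω ≠ 1 := by
    intro h1
    have e := Subgroup.eq_bot_of_card_eq Ω h1
    rw [e, Subgroup.mem_bot] at hgΩ
    exact hg1 (Subtype.ext hgΩ)
  have hle := Subgroup.card_le_of_le hΩle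
  rcases h.card_cases hT Ω hΩ with h1 | h1 | h1 | h1
  · exact absurd h1 hcΩ
  · have e : Ω = Subgroup.center T := Subgroup.eq_of_le_of_card_ge hΩle (by omega)
    intro z hz
    rw [← e] at hz
    exact hz.2
  · omega
  · omega

/-- All commutators are central. -/
theorem comm_mem [Finite T] (h : Fpf3 ρ) (hT : Nat.card T = 64)
    (hZ : Nat.card ↥(Subgroup.center T) = 4) : ∀ y w : T, ⁅y, w⁆ ∈ Subgroup.center T := by
  haveI : Fact (Nat.Prime 2) := ⟨Nat.prime_two⟩
  have key : ∀ y w : T, ⁅y, w⁆ ∈ Subgroup.center T ↔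
      QuotientGroup.mk' (Subgroup.center T) y * QuotientGroup.mk' (Subgroup.center T) w
        = QuotientGroup.mk' (Subgroup.center T) w * QuotientGroup.mk' (Subgroup.center T) y := by
    intro y w
    rw [← commutatorElement_eq_one_iff_mul_comm, ← map_commutatorElement,
      QuotientGroup.mk'_apply, QuotientGroup.eq_one_iff]
  let Z₂ : Subgroup T :=
    (Subgroup.center (T ⧸ Subgroup.center T)).comap (QuotientGroup.mk' (Subgroup.center T))
  have hmem : ∀ y, y ∈ Z₂ ↔ ∀ w, ⁅y, w⁆ ∈ Subgroup.center T := by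
    intro y
    show QuotientGroup.mk' (Subgroup.center T) y ∈ Subgroup.center (T ⧸ Subgroup.center T) ↔ _
    rw [Subgroup.mem_center_iff]
    constructor
    · intro hy w
      exact (key y w).mpr (hy (QuotientGroup.mk' (Subgroup.center T) w)).symm
    · intro hy g
      obtain ⟨w, rfl⟩ := QuotientGroup.mk'_surjective (Subgroup.center T) g
      exact ((key y w).mp (hy w)).symm
  have hZ₂ : RInv ρ Z₂ := by
    intro y hy
    rw [hmem] at hy ⊢
    intro w
    have e : ⁅ρ y, w⁆ = ρ ⁅y, ρ.symm w⁆ := by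
      rw [map_commutatorElement, MulEquiv.apply_symm_apply]
    rw [e]
    exact rinv_center _ (hy _)
  have hZle : Subgroup.center T ≤ Z₂ := by
    intro z hz
    rw [hmem]
    intro w
    rw [cc_central_left z w hz]
    exact Subgroup.one_mem _
  have hcq : Nat.card (T ⧸ Subgroup.center T) = 16 := by
    have e := Subgroup.card_eq_card_quotient_mul_card_subgroup (Subgroup.center T)
    rw [hT, hZ] at e
    omega
  have hpq : IsPGroup 2 (T ⧸ Subgroup.center T) := IsPGroup.of_card (n := 4) (by rw [hcq]; norm_num)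
  haveI : Nontrivial (T ⧸ Subgroup.center T) :=
    Finite.one_lt_card_iff_nontrivial.mp (by rw [hcq]; norm_num)
  haveI := hpq.center_nontrivial
  obtain ⟨q, hq⟩ := exists_ne (1 : ↥(Subgroup.center (T ⧸ Subgroup.center T)))
  obtain ⟨y, hy⟩ := QuotientGroup.mk'_surjective (Subgroup.center T) q.1
  have hyZ₂ : y ∈ Z₂ := by
    show QuotientGroup.mk' (Subgroup.center T) y ∈ Subgroup.center (T ⧸ Subgroup.center T)
    rw [hy]
    exact q.2
  have hyZ : y ∉ Subgroup.center T := by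
    intro hyz
    apply hq
    apply Subtype.ext
    rw [← hy]
    exact (QuotientGroup.eq_one_iff y).mpr hyz
  have hle := Subgroup.card_le_of_le hZle
  have hne4 : Nat.card ↥Z₂ ≠ 4 := by
    intro h4
    have e : Subgroup.center T = Z₂ := Subgroup.eq_of_le_of_card_ge hZle (by omega)
    exact hyZ (e ▸ hyZ₂)
  rcases h.card_cases hT Z₂ hZ₂ with h1 | h1 | h1 | h1
  · omega
  · exact absurd h1 hne4
  · exfalso
    have hex : ∃ y', y' ∉ Z₂ := by
      by_contra hcon
      push Not at hcon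
      have e : Z₂ = ⊤ := (Subgroup.eq_top_iff' Z₂).mpr hcon
      rw [e, Subgroup.card_top, hT] at h1
      omega
    obtain ⟨y', hy'⟩ := hex
    have htop := h.top_of_16 hT Z₂ hZ₂ h1 y' hy'
    have hle' : Subgroup.closure {y', ρ y'} ⊔ Z₂ ≤ cdSub (Subgroup.center T) le_rfl y' := by
      apply sup_le
      · rw [Subgroup.closure_le]
        intro w hw
        rcases hw with hw | hw
        · rw [hw]
          show ⁅y', y'⁆ ∈ Subgroup.center T
          rw [commutatorElement_self]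
          exact Subgroup.one_mem _
        · rw [Set.mem_singleton_iff.mp hw]
          show ⁅y', ρ y'⁆ ∈ Subgroup.center T
          rw [commutatorElement_eq_one_iff_mul_comm.mpr (h.comm y')]
          exact Subgroup.one_mem _
      · intro n hn
        show ⁅y', n⁆ ∈ Subgroup.center T
        rw [← commutatorElement_inv]
        exact inv_mem ((hmem n).mp hn y')
    rw [htop] at hle'
    apply hy'
    rw [hmem]
    intro w
    exact hle' (Subgroup.mem_top w)
  · have e : Z₂ = ⊤ := Subgroup.eq_top_of_card_eq _ (by omega)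
    intro y w
    have hy' : y ∈ Z₂ := e ▸ Subgroup.mem_top y
    exact (hmem y).mp hy' w

/-- All squares are central. -/
theorem sq_mem [Finite T] (h : Fpf3 ρ) (hT : Nat.card T = 64)
    (hZ : Nat.card ↥(Subgroup.center T) = 4)
    (hzsq : ∀ z ∈ Subgroup.center T, z * z = 1)
    (hcomm : ∀ y w : T, ⁅y, w⁆ ∈ Subgroup.center T) :
    ∀ y : T, y * y ∈ Subgroup.center T := by
  intro y
  by_cases hy : y ∈ Subgroup.center T
  · rw [hzsq y hy]; exact Subgroup.one_mem _
  let K₂ : Subgroup T :=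
    { carrier := {t | t * t ∈ Subgroup.center T}
      mul_mem' := by
        intro t s ht hs
        show (t * s) * (t * s) ∈ Subgroup.center T
        rw [sq_mul_cc t s (hcomm s t)]
        exact mul_mem (mul_mem ht hs) (hcomm s t)
      one_mem' := by
        show (1 : T) * 1 ∈ Subgroup.center T
        rw [one_mul]; exact Subgroup.one_mem _
      inv_mem' := by
        intro t ht
        show t⁻¹ * t⁻¹ ∈ Subgroup.center T
        rw [← mul_inv_rev]; exact inv_mem ht }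
  have hK₂ : RInv ρ K₂ := fun t ht => by
    show ρ t * ρ t ∈ Subgroup.center T
    rw [← map_mul]; exact rinv_center _ ht
  have hMinv : RInv ρ (Subgroup.closure {y, ρ y} ⊔ Subgroup.center T) :=
    rinv_sup (h.rinv_pair y) rinv_center
  have hyM : y ∈ Subgroup.closure {y, ρ y} ⊔ Subgroup.center T :=
    Subgroup.mem_sup_left (Subgroup.subset_closure (Or.inl rfl))
  have hZM : Subgroup.center T ≤ Subgroup.closure {y, ρ y} ⊔ Subgroup.center T := le_sup_right
  rcases h.card_of_4 hT _ rinv_center hZ y hy with hc | htop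
  · have hrel : (Subgroup.center T).relIndex (Subgroup.closure {y, ρ y} ⊔ Subgroup.center T)
        = 4 := by
      have e1 := Subgroup.relIndex_mul_index hZM
      have e2 := Subgroup.card_mul_index (Subgroup.center T)
      have e3 := Subgroup.card_mul_index (Subgroup.closure {y, ρ y} ⊔ Subgroup.center T)
      rw [hT] at e2 e3
      rw [hZ] at e2
      rw [hc] at e3
      have e4 : (Subgroup.center T).index = 16 := by omega
      have e5 : (Subgroup.closure {y, ρ y} ⊔ Subgroup.center T).index = 4 := by omega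
      rw [e4, e5] at e1
      omega
    have hy4 : y ^ 4 ∈ Subgroup.center T := by
      have e := Subgroup.pow_index_mem
        ((Subgroup.center T).subgroupOf (Subgroup.closure {y, ρ y} ⊔ Subgroup.center T))
        (⟨y, hyM⟩ : ↥(Subgroup.closure {y, ρ y} ⊔ Subgroup.center T))
      rw [show ((Subgroup.center T).subgroupOf
        (Subgroup.closure {y, ρ y} ⊔ Subgroup.center T)).index = 4 from hrel] at e
      rw [Subgroup.mem_subgroupOf] at e
      simpa using e
    have hy2K : y * y ∈ (Subgroup.closure {y, ρ y} ⊔ Subgroup.center T) ⊓ K₂ := by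
      refine ⟨mul_mem hyM hyM, ?_⟩
      show (y * y) * (y * y) ∈ Subgroup.center T
      have e : (y * y) * (y * y) = y ^ 4 := by
        simp only [pow_succ, pow_zero, one_mul, mul_assoc]
      rw [e]; exact hy4
    have hinv : RInv ρ ((Subgroup.closure {y, ρ y} ⊔ Subgroup.center T) ⊓ K₂) :=
      rinv_inf hMinv hK₂
    have hZle : Subgroup.center T ≤ (Subgroup.closure {y, ρ y} ⊔ Subgroup.center T) ⊓ K₂ :=
      le_inf hZM (fun z hz => by
        show z * z ∈ Subgroup.center T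
        rw [hzsq z hz]; exact Subgroup.one_mem _)
    have hle1 := Subgroup.card_le_of_le hZle
    have hle2 := Subgroup.card_le_of_le
      (inf_le_left : (Subgroup.closure {y, ρ y} ⊔ Subgroup.center T) ⊓ K₂ ≤ _)
    rcases h.card_cases hT _ hinv with h1 | h1 | h1 | h1
    · omega
    · have e : Subgroup.center T = (Subgroup.closure {y, ρ y} ⊔ Subgroup.center T) ⊓ K₂ :=
        Subgroup.eq_of_le_of_card_ge hZle (by omega)
      rw [e]; exact hy2K
    · have e : (Subgroup.closure {y, ρ y} ⊔ Subgroup.center T) ⊓ K₂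
          = Subgroup.closure {y, ρ y} ⊔ Subgroup.center T :=
        Subgroup.eq_of_le_of_card_ge inf_le_left (by omega)
      have hyK : y ∈ (Subgroup.closure {y, ρ y} ⊔ Subgroup.center T) ⊓ K₂ := by
        rw [e]; exact hyM
      exact hyK.2
    · omega
  · exact absurd (h.central_of_top y _ (Subgroup.center_le_centralizer _) htop) hy

end Fpf3

/-- A non-abelian group of order 64 with a fixed-point-free automorphism of order three. -/
structure T64 {T : Type*} [Group T] (ρ : MulAut T) : Prop where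
  card : Nat.card T = 64
  fpf : Fpf3 ρ
  cardZ : Nat.card ↥(Subgroup.center T) = 4
  zsq : ∀ z ∈ Subgroup.center T, z * z = 1
  comm : ∀ y w : T, ⁅y, w⁆ ∈ Subgroup.center T
  sq : ∀ y : T, y * y ∈ Subgroup.center T

theorem T64.of_fpf {T : Type*} [Group T] [Finite T] {ρ : MulAut T} (h : Fpf3 ρ)
    (hT : Nat.card T = 64) (a b : T) (hab : a * b ≠ b * a) : T64 ρ := by
  have hZ := h.center_card hT a b hab
  have hzsq := h.center_sq hT hZ
  have hcomm := h.comm_mem hT hZ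
  exact ⟨hT, h, hZ, hzsq, hcomm, h.sq_mem hT hZ hzsq hcomm⟩

/-- Pure algebra in the centre: the commutator identity. -/
theorem ab3_aux {T : Type*} [Group T] (ρ : MulAut T) (c d e : T)
    (hc : c ∈ Subgroup.center T) (hd : d ∈ Subgroup.center T)
    (hsq : ∀ z ∈ Subgroup.center T, z * z = 1)
    (trc : c * ρ c * ρ (ρ c) = 1) (trd : d * ρ d * ρ (ρ d) = 1)
    (h1 : c * d * e = 1) (h2 : c * ρ e * ρ (ρ d) = 1) : d = ρ (ρ c) := by
  have hinv : ∀ z ∈ Subgroup.center T, z⁻¹ = z := fun z hz =>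
    inv_eq_of_mul_eq_one_right (hsq z hz)
  have hρc : ρ c ∈ Subgroup.center T := rinv_center c hc
  have hρd : ρ d ∈ Subgroup.center T := rinv_center d hd
  have he' : e = c * d := by
    rw [← hinv _ (mul_mem hc hd)]; exact eq_inv_of_mul_eq_one_right h1
  have hrc : ρ (ρ c) = c * ρ c := by
    rw [← hinv _ (mul_mem hc hρc)]; exact eq_inv_of_mul_eq_one_right trc
  have hrd : ρ (ρ d) = d * ρ d := by
    rw [← hinv _ (mul_mem hd hρd)]; exact eq_inv_of_mul_eq_one_right trd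
  rw [he', map_mul, hrd] at h2
  have sw : ρ d * d = d * ρ d := Subgroup.mem_center_iff.mp hd (ρ d)
  have e3 : c * (ρ c * ρ d) * (d * ρ d) = (c * ρ c) * d * (ρ d * ρ d) := by
    calc c * (ρ c * ρ d) * (d * ρ d) = c * ρ c * (ρ d * d) * ρ d := by group
      _ = c * ρ c * (d * ρ d) * ρ d := by rw [sw]
      _ = (c * ρ c) * d * (ρ d * ρ d) := by group
  rw [e3, hsq _ hρd, mul_one] at h2
  rw [hrc, ← hinv _ (mul_mem hc hρc)]
  exact eq_inv_of_mul_eq_one_right h2

namespace T64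

variable {T : Type*} [Group T] {ρ : MulAut T}

theorem finite (h : T64 ρ) : Finite T :=
  Nat.finite_of_card_ne_zero (by rw [h.card]; norm_num)

theorem inv_c (h : T64 ρ) {z : T} (hz : z ∈ Subgroup.center T) : z⁻¹ = z :=
  inv_eq_of_mul_eq_one_right (h.zsq z hz)

/-- The key identity: the commutator is semilinear. -/
theorem cc_rho (h : T64 ρ) (u v : T) : ⁅u, ρ v⁆ = ρ (ρ ⁅u, v⁆) := by
  haveI := h.finite
  have h1 : ⁅u, v⁆ * ⁅u, ρ v⁆ * ⁅u, ρ (ρ v)⁆ = 1 := by
    rw [← cc_mul_right u v (ρ v) (h.comm _ _),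
      ← cc_mul_right u (v * ρ v) (ρ (ρ v)) (h.comm _ _), h.fpf.tr v,
      commutatorElement_one_right]
  have h2 : ⁅u, v⁆ * ρ ⁅u, ρ (ρ v)⁆ * ρ (ρ ⁅u, ρ v⁆) = 1 := by
    have e1 : ρ ⁅u, ρ (ρ v)⁆ = ⁅ρ u, v⁆ := by rw [map_commutatorElement, h.fpf.r3]
    have e2 : ρ (ρ ⁅u, ρ v⁆) = ⁅ρ (ρ u), v⁆ := by
      rw [map_commutatorElement, map_commutatorElement, h.fpf.r3]
    rw [e1, e2, ← cc_mul_left u (ρ u) v (h.comm _ _),
      ← cc_mul_left (u * ρ u) (ρ (ρ u)) v (h.comm _ _), h.fpf.tr u,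
      commutatorElement_one_left]
  exact ab3_aux ρ ⁅u, v⁆ ⁅u, ρ v⁆ ⁅u, ρ (ρ v)⁆ (h.comm _ _) (h.comm _ _) h.zsq
    (h.fpf.tr _) (h.fpf.tr _) h1 h2

theorem cc_rho2 (h : T64 ρ) (u v : T) : ⁅u, ρ (ρ v)⁆ = ρ ⁅u, v⁆ := by
  rw [h.cc_rho u (ρ v), h.cc_rho u v, h.fpf.r3]

theorem cc_rho_left (h : T64 ρ) (u v : T) : ⁅ρ u, v⁆ = ρ (ρ ⁅u, v⁆) := by
  rw [← commutatorElement_inv v (ρ u), h.cc_rho v u, ← map_inv, ← map_inv,
    commutatorElement_inv]

theorem cc_rho_left2 (h : T64 ρ) (u v : T) : ⁅ρ (ρ u), v⁆ = ρ ⁅u, v⁆ := by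
  rw [h.cc_rho_left (ρ u) v, h.cc_rho_left u v, h.fpf.r3]

/-- `ρ² z = z * ρ z` on the centre. -/
theorem rr_c (h : T64 ρ) {z : T} (hz : z ∈ Subgroup.center T) : ρ (ρ z) = z * ρ z := by
  haveI := h.finite
  rw [h.fpf.rr z, h.inv_c (mul_mem hz (rinv_center z hz))]

end T64

/-- A group of order 64 with a fixed-point-free automorphism of order three and two
non-commuting involutions. -/
structure R64 {T : Type*} [Group T] (ρ : MulAut T) (a b : T) : Prop where
  t64 : T64 ρ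
  asq : a * a = 1
  bsq : b * b = 1
  ab : ⁅a, b⁆ ≠ 1

namespace R64

variable {T : Type*} [Group T] {ρ : MulAut T} {a b : T}

theorem cmem (h : R64 ρ a b) : ⁅a, b⁆ ∈ Subgroup.center T := h.t64.comm a b

theorem k10 (h : R64 ρ a b) : ⁅ρ a, a⁆ = 1 := by
  haveI := h.t64.finite
  exact commutatorElement_eq_one_iff_mul_comm.mpr (h.t64.fpf.comm a).symm

theorem k20 (h : R64 ρ a b) : ⁅b, a⁆ = ⁅a, b⁆ := by
  rw [← commutatorElement_inv a b, h.t64.inv_c h.cmem]

theorem k21 (h : R64 ρ a b) : ⁅b, ρ a⁆ = ⁅a, b⁆ * ρ ⁅a, b⁆ := by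
  rw [h.t64.cc_rho b a, h.k20, h.t64.rr_c h.cmem]

theorem k30 (h : R64 ρ a b) : ⁅ρ b, a⁆ = ⁅a, b⁆ * ρ ⁅a, b⁆ := by
  rw [h.t64.cc_rho_left b a, h.k20, h.t64.rr_c h.cmem]

theorem k31 (h : R64 ρ a b) : ⁅ρ b, ρ a⁆ = ρ ⁅a, b⁆ := by
  rw [← map_commutatorElement, h.k20]

theorem k32 (h : R64 ρ a b) : ⁅ρ b, b⁆ = 1 := by
  haveI := h.t64.finite
  exact commutatorElement_eq_one_iff_mul_comm.mpr (h.t64.fpf.comm b).symm

theorem gen (h : R64 ρ a b) (B : Subgroup T) (ha : a ∈ B) (ha' : ρ a ∈ B) (hb : b ∈ B)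
    (hb' : ρ b ∈ B) (hc : ⁅a, b⁆ ∈ B) (hc' : ρ ⁅a, b⁆ ∈ B) : B = ⊤ := by
  haveI := h.t64.finite
  have hf := h.t64.fpf
  have hT := h.t64.card
  have hZ := h.t64.cardZ
  -- the centre is generated by the commutator and its image
  have hZc : Subgroup.closure {⁅a, b⁆, ρ ⁅a, b⁆} = Subgroup.center T := by
    have hle : Subgroup.closure {⁅a, b⁆, ρ ⁅a, b⁆} ≤ Subgroup.center T := by
      rw [Subgroup.closure_le]
      intro w hw
      rcases hw with hw | hw
      · rw [hw]; exact h.cmem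
      · rw [Set.mem_singleton_iff.mp hw]; exact rinv_center _ h.cmem
    have hcl := Subgroup.card_le_of_le hle
    have hne : Nat.card ↥(Subgroup.closure {⁅a, b⁆, ρ ⁅a, b⁆}) ≠ 1 := by
      intro h1
      have e := Subgroup.eq_bot_of_card_eq _ h1
      have hm : ⁅a, b⁆ ∈ Subgroup.closure {⁅a, b⁆, ρ ⁅a, b⁆} :=
        Subgroup.subset_closure (Or.inl rfl)
      rw [e, Subgroup.mem_bot] at hm
      exact h.ab hm
    rcases hf.card_cases hT _ (hf.rinv_pair ⁅a, b⁆) with h1 | h1 | h1 | h1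
    · exact absurd h1 hne
    · exact Subgroup.eq_of_le_of_card_ge hle (by omega)
    · omega
    · omega
  have hZB : Subgroup.center T ≤ B := by
    rw [← hZc, Subgroup.closure_le]
    intro w hw
    rcases hw with hw | hw
    · rw [hw]; exact hc
    · rw [Set.mem_singleton_iff.mp hw]; exact hc'
  have hab : a * b ≠ b * a := fun e => h.ab (commutatorElement_eq_one_iff_mul_comm.mpr e)
  have haZ : a ∉ Subgroup.center T := fun hz => hab (Subgroup.mem_center_iff.mp hz b).symm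
  have hNle : Subgroup.closure {a, ρ a} ⊔ Subgroup.center T ≤ Subgroup.centralizer {a} :=
    sup_le (hf.pair_le_centralizer a) (Subgroup.center_le_centralizer _)
  have hbN : b ∉ Subgroup.closure {a, ρ a} ⊔ Subgroup.center T := by
    intro hb
    exact hab (Subgroup.mem_centralizer_iff.mp (hNle hb) a rfl)
  have hNB : Subgroup.closure {a, ρ a} ⊔ Subgroup.center T ≤ B := by
    apply sup_le _ hZB
    rw [Subgroup.closure_le]
    intro w hw
    rcases hw with hw | hw
    · rw [hw]; exact ha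
    · rw [Set.mem_singleton_iff.mp hw]; exact ha'
  rcases hf.card_of_4 hT _ rinv_center hZ a haZ with hc16 | htop
  · have htop := hf.top_of_16 hT _ (rinv_sup (hf.rinv_pair a) rinv_center) hc16 b hbN
    have hle : Subgroup.closure {b, ρ b} ⊔ (Subgroup.closure {a, ρ a} ⊔ Subgroup.center T)
        ≤ B := by
      apply sup_le _ hNB
      rw [Subgroup.closure_le]
      intro w hw
      rcases hw with hw | hw
      · rw [hw]; exact hb
      · rw [Set.mem_singleton_iff.mp hw]; exact hb'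
    rw [htop] at hle
    exact top_le_iff.mp hle
  · rw [htop] at hNB
    exact top_le_iff.mp hNB

/-- Recognition: two such groups are isomorphic. -/
theorem iso {T₁ T₂ : Type*} [Group T₁] [Group T₂] {ρ₁ : MulAut T₁} {ρ₂ : MulAut T₂}
    {a₁ b₁ : T₁} {a₂ b₂ : T₂} (h₁ : R64 ρ₁ a₁ b₁) (h₂ : R64 ρ₂ a₂ b₂) :
    Nonempty (T₁ ≃* T₂) := by
  haveI := h₁.t64.finite
  haveI := h₂.t64.finite
  set e₁ : T₁ × T₂ := (⁅a₁, b₁⁆, ⁅a₂, b₂⁆) with he₁
  set e₂ : T₁ × T₂ := (ρ₁ ⁅a₁, b₁⁆, ρ₂ ⁅a₂, b₂⁆) with he₂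
  have he₁c : e₁ ∈ Subgroup.center (T₁ × T₂) := prod_mem_center h₁.cmem h₂.cmem
  have he₂c : e₂ ∈ Subgroup.center (T₁ × T₂) :=
    prod_mem_center (rinv_center _ h₁.cmem) (rinv_center _ h₂.cmem)
  have he₁s : e₁ * e₁ = 1 := Prod.ext (h₁.t64.zsq _ h₁.cmem) (h₂.t64.zsq _ h₂.cmem)
  have he₂s : e₂ * e₂ = 1 :=
    Prod.ext (h₁.t64.zsq _ (rinv_center _ h₁.cmem)) (h₂.t64.zsq _ (rinv_center _ h₂.cmem))
  set D : Subgroup (T₁ × T₂) := ⊥ ⊔ Subgroup.zpowers e₁ ⊔ Subgroup.zpowers e₂ with hDdef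
  have hD : D ≤ Subgroup.center (T₁ × T₂) :=
    sup_le (sup_le bot_le (Subgroup.zpowers_le.mpr he₁c)) (Subgroup.zpowers_le.mpr he₂c)
  have hcD : Nat.card ↥D ≤ 4 := card_chain2 e₁ e₂ he₁s he₂s (cc_central_left e₂ e₁ he₂c)
  have he₁D : e₁ ∈ D := Subgroup.mem_sup_left (Subgroup.mem_sup_right (Subgroup.mem_zpowers e₁))
  have he₂D : e₂ ∈ D := Subgroup.mem_sup_right (Subgroup.mem_zpowers e₂)
  have he₁₂D : e₁ * e₂ ∈ D := D.mul_mem he₁D he₂D
  set g₀ : T₁ × T₂ := (a₁, a₂) with hg₀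
  set g₁ : T₁ × T₂ := (ρ₁ a₁, ρ₂ a₂) with hg₁
  set g₂ : T₁ × T₂ := (b₁, b₂) with hg₂
  set g₃ : T₁ × T₂ := (ρ₁ b₁, ρ₂ b₂) with hg₃
  have s₀ : g₀ * g₀ = 1 := Prod.ext h₁.asq h₂.asq
  have s₁ : g₁ * g₁ = 1 :=
    Prod.ext (by show ρ₁ a₁ * ρ₁ a₁ = 1; rw [← map_mul, h₁.asq, map_one])
      (by show ρ₂ a₂ * ρ₂ a₂ = 1; rw [← map_mul, h₂.asq, map_one])
  have s₂ : g₂ * g₂ = 1 := Prod.ext h₁.bsq h₂.bsq
  have s₃ : g₃ * g₃ = 1 :=
    Prod.ext (by show ρ₁ b₁ * ρ₁ b₁ = 1; rw [← map_mul, h₁.bsq, map_one])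
      (by show ρ₂ b₂ * ρ₂ b₂ = 1; rw [← map_mul, h₂.bsq, map_one])
  have k₁₀ : ⁅g₁, g₀⁆ = 1 := Prod.ext h₁.k10 h₂.k10
  have k₂₀ : ⁅g₂, g₀⁆ = e₁ := Prod.ext h₁.k20 h₂.k20
  have k₂₁ : ⁅g₂, g₁⁆ = e₁ * e₂ := Prod.ext h₁.k21 h₂.k21
  have k₃₀ : ⁅g₃, g₀⁆ = e₁ * e₂ := Prod.ext h₁.k30 h₂.k30
  have k₃₁ : ⁅g₃, g₁⁆ = e₂ := Prod.ext h₁.k31 h₂.k31
  have k₃₂ : ⁅g₃, g₂⁆ = 1 := Prod.ext h₁.k32 h₂.k32
  set B : Subgroup (T₁ × T₂) := D ⊔ Subgroup.zpowers g₀ ⊔ Subgroup.zpowers g₁
    ⊔ Subgroup.zpowers g₂ ⊔ Subgroup.zpowers g₃ with hBdef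
  have hcB : Nat.card ↥B ≤ 64 := by
    have h16 : Nat.card ↥B ≤ 16 * Nat.card ↥D :=
      card_chain4 D hD g₀ g₁ g₂ g₃ (s₀ ▸ D.one_mem) (s₁ ▸ D.one_mem) (s₂ ▸ D.one_mem)
        (s₃ ▸ D.one_mem) (k₁₀ ▸ D.one_mem) (k₂₀ ▸ he₁D) (k₂₁ ▸ he₁₂D) (k₃₀ ▸ he₁₂D)
        (k₃₁ ▸ he₂D) (k₃₂ ▸ D.one_mem)
    omega
  have hDB : D ≤ B := le_sup_left.trans (le_sup_left.trans (le_sup_left.trans le_sup_left))
  have hg₀B : g₀ ∈ B :=
    Subgroup.mem_sup_left (Subgroup.mem_sup_left (Subgroup.mem_sup_left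
      (Subgroup.mem_sup_right (Subgroup.mem_zpowers g₀))))
  have hg₁B : g₁ ∈ B :=
    Subgroup.mem_sup_left (Subgroup.mem_sup_left (Subgroup.mem_sup_right (Subgroup.mem_zpowers g₁)))
  have hg₂B : g₂ ∈ B :=
    Subgroup.mem_sup_left (Subgroup.mem_sup_right (Subgroup.mem_zpowers g₂))
  have hg₃B : g₃ ∈ B := Subgroup.mem_sup_right (Subgroup.mem_zpowers g₃)
  have hp₁ : B.map (MonoidHom.fst T₁ T₂) = ⊤ :=
    h₁.gen _ ⟨g₀, hg₀B, rfl⟩ ⟨g₁, hg₁B, rfl⟩ ⟨g₂, hg₂B, rfl⟩ ⟨g₃, hg₃B, rfl⟩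
      ⟨e₁, hDB he₁D, rfl⟩ ⟨e₂, hDB he₂D, rfl⟩
  have hp₂ : B.map (MonoidHom.snd T₁ T₂) = ⊤ :=
    h₂.gen _ ⟨g₀, hg₀B, rfl⟩ ⟨g₁, hg₁B, rfl⟩ ⟨g₂, hg₂B, rfl⟩ ⟨g₃, hg₃B, rfl⟩
      ⟨e₁, hDB he₁D, rfl⟩ ⟨e₂, hDB he₂D, rfl⟩
  let p₁ : ↥B →* T₁ := (MonoidHom.fst T₁ T₂).comp B.subtype
  let p₂ : ↥B →* T₂ := (MonoidHom.snd T₁ T₂).comp B.subtype
  have hs₁ : Function.Surjective p₁ := by
    intro y
    have hy : y ∈ B.map (MonoidHom.fst T₁ T₂) := hp₁ ▸ Subgroup.mem_top y
    obtain ⟨b, hb, rfl⟩ := hy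
    exact ⟨⟨b, hb⟩, rfl⟩
  have hs₂ : Function.Surjective p₂ := by
    intro y
    have hy : y ∈ B.map (MonoidHom.snd T₁ T₂) := hp₂ ▸ Subgroup.mem_top y
    obtain ⟨b, hb, rfl⟩ := hy
    exact ⟨⟨b, hb⟩, rfl⟩
  have hb₁ : Function.Bijective p₁ :=
    hs₁.bijective_of_nat_card_le (by rw [h₁.t64.card]; exact hcB)
  have hb₂ : Function.Bijective p₂ :=
    hs₂.bijective_of_nat_card_le (by rw [h₂.t64.card]; exact hcB)
  exact ⟨(MulEquiv.ofBijective p₁ hb₁).symm.trans (MulEquiv.ofBijective p₂ hb₂)⟩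

end R64

end Cfsg.Agent.H60
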