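import Mathlib
import Cfsg.Agent.H60.Fpf3

/-!
# helper60: the Sylow 2-subgroup of `PSL₃(4)`

The Heisenberg group `Heis F` (upper unitriangular `3 × 3` matrices), its embedding into
`PSL₃(F)`; for `|F| = 4` the image is a Sylow 2-subgroup (`heis_sylow`), and `Heis F` carries a
fixed-point-free automorphism of order three and two non-commuting involutions (`heis_r64`).
-/

set_option autoImplicit false

namespace Cfsg.Agent.H60

open scoped Classical

open scoped commutatorElement

/-- The Heisenberg group over `F`: upper unitriangular `3 × 3` matrices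
`[1, p, r; 0, 1, s; 0, 0, 1]`. -/
@[ext] structure Heis (F : Type*) where
  p : F
  s : F
  r : F

section heis

variable {F : Type*} [Field F]

instance : Group (Heis F) where
  mul g g' := ⟨g.p + g'.p, g.s + g'.s, g.r + g'.r + g.p * g'.s⟩
  one := ⟨0, 0, 0⟩
  inv g := ⟨-g.p, -g.s, -g.r + g.p * g.s⟩
  mul_assoc g g' g'' := by
    apply Heis.ext
    · show g.p + g'.p + g''.p = g.p + (g'.p + g''.p)
      ring
    · show g.s + g'.s + g''.s = g.s + (g'.s + g''.s)
      ring
    · show g.r + g'.r + g.p * g'.s + g''.r + (g.p + g'.p) * g''.s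
        = g.r + (g'.r + g''.r + g'.p * g''.s) + g.p * (g'.s + g''.s)
      ring
  one_mul g := by
    apply Heis.ext
    · show 0 + g.p = g.p
      ring
    · show 0 + g.s = g.s
      ring
    · show 0 + g.r + 0 * g.s = g.r
      ring
  mul_one g := by
    apply Heis.ext
    · show g.p + 0 = g.p
      ring
    · show g.s + 0 = g.s
      ring
    · show g.r + 0 + g.p * 0 = g.r
      ring
  inv_mul_cancel g := by
    apply Heis.ext
    · show -g.p + g.p = 0
      ring
    · show -g.s + g.s = 0
      ring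
    · show -g.r + g.p * g.s + g.r + -g.p * g.s = 0
      ring

@[simp] theorem Heis.mul_p (g g' : Heis F) : (g * g').p = g.p + g'.p := rfl
@[simp] theorem Heis.mul_s (g g' : Heis F) : (g * g').s = g.s + g'.s := rfl
@[simp] theorem Heis.mul_r (g g' : Heis F) : (g * g').r = g.r + g'.r + g.p * g'.s := rfl
@[simp] theorem Heis.one_p : (1 : Heis F).p = 0 := rfl
@[simp] theorem Heis.one_s : (1 : Heis F).s = 0 := rfl
@[simp] theorem Heis.one_r : (1 : Heis F).r = 0 := rfl

/-- The matrix of an element of the Heisenberg group. -/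
def hmat (g : Heis F) : Matrix (Fin 3) (Fin 3) F := !![1, g.p, g.r; 0, 1, g.s; 0, 0, 1]

theorem hmat_det (g : Heis F) : (hmat g).det = 1 := by
  rw [Matrix.det_fin_three]
  simp [hmat]

theorem hmat_mul (g g' : Heis F) : hmat g * hmat g' = hmat (g * g') := by
  ext i j
  fin_cases i <;> fin_cases j <;>
    simp [hmat, Matrix.mul_apply, Fin.sum_univ_three] <;> ring

theorem hmat_one : hmat (1 : Heis F) = 1 := by
  ext i j
  fin_cases i <;> fin_cases j <;> simp [hmat]

/-- The embedding into `SL₃`. -/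
def heisSL : Heis F →* Matrix.SpecialLinearGroup (Fin 3) F where
  toFun g := ⟨hmat g, hmat_det g⟩
  map_one' := Subtype.ext hmat_one
  map_mul' g g' := Subtype.ext (hmat_mul g g').symm

/-- The map into `PSL₃`. -/
def heisPSL : Heis F →* Matrix.ProjectiveSpecialLinearGroup (Fin 3) F :=
  (QuotientGroup.mk' (Subgroup.center (Matrix.SpecialLinearGroup (Fin 3) F))).comp heisSL

theorem heisPSL_injective : Function.Injective (heisPSL (F := F)) := by
  rw [injective_iff_map_eq_one]
  intro g hg
  have hg' : heisSL g ∈ Subgroup.center (Matrix.SpecialLinearGroup (Fin 3) F) :=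
    (QuotientGroup.eq_one_iff (heisSL g)).mp hg
  rw [Matrix.SpecialLinearGroup.mem_center_iff] at hg'
  obtain ⟨c, -, hsc⟩ := hg'
  have hm : Matrix.scalar (Fin 3) c = hmat g := hsc
  have h01 := congrFun (congrFun hm 0) 1
  have h02 := congrFun (congrFun hm 0) 2
  have h12 := congrFun (congrFun hm 1) 2
  simp [hmat, Matrix.scalar_apply, Matrix.diagonal] at h01 h02 h12
  apply Heis.ext
  · rw [← h01]; rfl
  · rw [← h12]; rfl
  · rw [← h02]; rfl

theorem heis_card [Fintype F] (hF : Fintype.card F = 4) : Nat.card (Heis F) = 64 := by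
  have e : Heis F ≃ F × F × F :=
    { toFun := fun g => (g.p, g.s, g.r)
      invFun := fun t => ⟨t.1, t.2.1, t.2.2⟩
      left_inv := fun g => rfl
      right_inv := fun t => rfl }
  rw [Nat.card_congr e, Nat.card_prod, Nat.card_prod, Nat.card_eq_fintype_card, hF]

theorem gl3_f4_card [Fintype F] (hF : Fintype.card F = 4) :
    Nat.card (GL (Fin 3) F) = 181440 := by
  rw [Matrix.card_GL_field, hF]
  simp [Fin.prod_univ_three]

/-- For `|F| = 4`, the image of the Heisenberg group is a Sylow 2-subgroup of `PSL₃(F)`. -/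
theorem heis_sylow [Fintype F] (hF : Fintype.card F = 4) :
    ∃ S : Sylow 2 (Matrix.ProjectiveSpecialLinearGroup (Fin 3) F),
      Nonempty (Heis F ≃* ↥(S : Subgroup (Matrix.ProjectiveSpecialLinearGroup (Fin 3) F))) := by
  haveI : Fact (Nat.Prime 2) := ⟨Nat.prime_two⟩
  haveI : Finite (Heis F) := Nat.finite_of_card_ne_zero (by rw [heis_card hF]; norm_num)
  have hinj := heisPSL_injective (F := F)
  have e : Heis F ≃* ↥(heisPSL (F := F)).range := MonoidHom.ofInjective hinj
  have hcU : Nat.card ↥(heisPSL (F := F)).range = 64 := by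
    rw [← Nat.card_congr e.toEquiv, heis_card hF]
  have hpU : IsPGroup 2 ↥(heisPSL (F := F)).range :=
    IsPGroup.of_card (n := 6) (by rw [hcU]; norm_num)
  have hcPSL : Nat.card (Matrix.ProjectiveSpecialLinearGroup (Fin 3) F) ∣ 181440 := by
    rw [← gl3_f4_card hF]
    exact (Subgroup.card_quotient_dvd_card _).trans
      (Subgroup.card_dvd_of_injective _ Matrix.SpecialLinearGroup.toGL_injective)
  have hmax : ∀ Q : Subgroup (Matrix.ProjectiveSpecialLinearGroup (Fin 3) F),
      IsPGroup 2 ↥Q → (heisPSL (F := F)).range ≤ Q → Q = (heisPSL (F := F)).range := by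
    intro Q hQ hUQ
    obtain ⟨k, hk⟩ := IsPGroup.iff_card.mp hQ
    have hdvd : 2 ^ k ∣ 181440 := by
      rw [← hk]; exact (Subgroup.card_subgroup_dvd_card Q).trans hcPSL
    have hk6 : k ≤ 6 := by
      by_contra hlt
      push Not at hlt
      have h7 : 2 ^ 7 ∣ 181440 := (pow_dvd_pow 2 hlt).trans hdvd
      norm_num at h7
    have hle : Nat.card ↥Q ≤ Nat.card ↥(heisPSL (F := F)).range := by
      rw [hk, hcU]
      calc 2 ^ k ≤ 2 ^ 6 := Nat.pow_le_pow_right (by norm_num) hk6
        _ = 64 := by norm_num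
    exact (Subgroup.eq_of_le_of_card_ge hUQ hle).symm
  exact ⟨⟨(heisPSL (F := F)).range, hpU, fun {Q} hQ hUQ => hmax Q hQ hUQ⟩, ⟨e⟩⟩

/-- The dilation automorphism `(p, s, r) ↦ (u p, u s, u² r)`. -/
def Heis.dil (u : Fˣ) : MulAut (Heis F) where
  toFun g := ⟨u * g.p, u * g.s, (u : F) ^ 2 * g.r⟩
  invFun g := ⟨(u⁻¹ : Fˣ) * g.p, (u⁻¹ : Fˣ) * g.s, ((u⁻¹ : Fˣ) : F) ^ 2 * g.r⟩
  left_inv g := by
    apply Heis.ext
    · show ((u⁻¹ : Fˣ) : F) * (u * g.p) = g.p
      rw [Units.inv_mul_cancel_left]
    · show ((u⁻¹ : Fˣ) : F) * (u * g.s) = g.s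
      rw [Units.inv_mul_cancel_left]
    · show ((u⁻¹ : Fˣ) : F) ^ 2 * ((u : F) ^ 2 * g.r) = g.r
      rw [← mul_assoc, ← mul_pow, Units.inv_mul, one_pow, one_mul]
  right_inv g := by
    apply Heis.ext
    · show (u : F) * (((u⁻¹ : Fˣ) : F) * g.p) = g.p
      rw [Units.mul_inv_cancel_left]
    · show (u : F) * (((u⁻¹ : Fˣ) : F) * g.s) = g.s
      rw [Units.mul_inv_cancel_left]
    · show (u : F) ^ 2 * (((u⁻¹ : Fˣ) : F) ^ 2 * g.r) = g.r
      rw [← mul_assoc, ← mul_pow, Units.mul_inv, one_pow, one_mul]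
  map_mul' g g' := by
    apply Heis.ext
    · show (u : F) * (g.p + g'.p) = u * g.p + u * g'.p
      ring
    · show (u : F) * (g.s + g'.s) = u * g.s + u * g'.s
      ring
    · show (u : F) ^ 2 * (g.r + g'.r + g.p * g'.s)
        = (u : F) ^ 2 * g.r + (u : F) ^ 2 * g'.r + (u * g.p) * (u * g'.s)
      ring

/-- For `|F| = 4`, the Heisenberg group has a fixed-point-free automorphism of order three and
two non-commuting involutions. -/
theorem heis_r64 [Fintype F] (hF : Fintype.card F = 4) :
    ∃ (ρ : MulAut (Heis F)) (a b : Heis F), R64 ρ a b := by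
  haveI : Finite (Heis F) := Nat.finite_of_card_ne_zero (by rw [heis_card hF]; norm_num)
  have h2 : (2 : F) = 0 := by
    have h4 : (4 : F) = 0 := by
      have e := Nat.cast_card_eq_zero F
      rw [hF] at e
      exact_mod_cast e
    have e : (2 : F) * 2 = 0 := by rw [← h4]; norm_num
    exact mul_self_eq_zero.mp e
  obtain ⟨ω, hω0, hω1⟩ : ∃ ω : F, ω ≠ 0 ∧ ω ≠ 1 := by
    by_contra hcon
    push Not at hcon
    have hle : Fintype.card F ≤ 2 := by
      calc Fintype.card F = (Finset.univ : Finset F).card := Finset.card_univ.symm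
        _ ≤ ({0, 1} : Finset F).card := Finset.card_le_card (fun y _ => by
            by_cases hy : y = 0
            · simp [hy]
            · simp [hcon y hy])
        _ ≤ 2 := Finset.card_le_two
    omega
  have hω3 : ω ^ 3 = 1 := by
    have e := FiniteField.pow_card_sub_one_eq_one ω hω0
    rw [hF] at e
    exact e
  have hfp3 : Fpf3 (Heis.dil (Units.mk0 ω hω0)) :=
    { r3 := fun g => by
        apply Heis.ext
        · show ω * (ω * (ω * g.p)) = g.p
          linear_combination g.p * hω3
        · show ω * (ω * (ω * g.s)) = g.s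
          linear_combination g.s * hω3
        · show ω ^ 2 * (ω ^ 2 * (ω ^ 2 * g.r)) = g.r
          linear_combination (ω ^ 3 + 1) * g.r * hω3
      fp := fun g hg => by
        have hp : ω * g.p = g.p := congrArg Heis.p hg
        have hs : ω * g.s = g.s := congrArg Heis.s hg
        have hr : ω ^ 2 * g.r = g.r := congrArg Heis.r hg
        have hω1' : ω - 1 ≠ 0 := sub_ne_zero.mpr hω1
        have hω2 : ω ^ 2 - 1 ≠ 0 := by
          intro e
          apply hω1
          linear_combination hω3 - ω * e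
        apply Heis.ext
        · show g.p = 0
          have e : (ω - 1) * g.p = 0 := by linear_combination hp
          exact (mul_eq_zero.mp e).resolve_left hω1'
        · show g.s = 0
          have e : (ω - 1) * g.s = 0 := by linear_combination hs
          exact (mul_eq_zero.mp e).resolve_left hω1'
        · show g.r = 0
          have e : (ω ^ 2 - 1) * g.r = 0 := by linear_combination hr
          exact (mul_eq_zero.mp e).resolve_left hω2 }
  have hab : (⟨1, 0, 0⟩ : Heis F) * ⟨0, 1, 0⟩ ≠ ⟨0, 1, 0⟩ * ⟨1, 0, 0⟩ := by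
    intro e
    have hr : (0 : F) + 0 + 1 * 1 = 0 + 0 + 0 * 0 := congrArg Heis.r e
    norm_num at hr
  refine ⟨Heis.dil (Units.mk0 ω hω0), ⟨1, 0, 0⟩, ⟨0, 1, 0⟩,
    T64.of_fpf hfp3 (heis_card hF) _ _ hab, ?_, ?_,
    fun e => hab (commutatorElement_eq_one_iff_mul_comm.mp e)⟩
  · apply Heis.ext
    · show (1 : F) + 1 = 0
      linear_combination h2
    · show (0 : F) + 0 = 0
      ring
    · show (0 : F) + 0 + 1 * 0 = 0
      ring
  · apply Heis.ext
    · show (0 : F) + 0 = 0
      ring
    · show (1 : F) + 1 = 0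
      linear_combination h2
    · show (0 : F) + 0 + 0 * 1 = 0
      ring

end heis

end Cfsg.Agent.H60
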