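import Mathlib

/-!
# The Möbius group of a field as a permutation group of the projective line (helper60)

`mobGroup K` is the group of permutations of `OnePoint K` induced by `GL (Fin 2) K` (Mathlib's
action by Möbius transformations).  `mob_eq`: a permutation group of `OnePoint K` that contains
the affine maps and the inversion, and whose elements fixing `∞` are affine, is `mobGroup K`.
`mob_ker`: the kernel of the action is the centre, so `mobGroup K ≃* PGL(2, K)`.
In characteristic `2` (finite field) `PGL(2, K) ≃* PSL(2, K) ≃* SL(2, K)`.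
-/

set_option autoImplicit false

namespace Cfsg.Agent.H60

open OnePoint Matrix

section Mob
variable {K : Type*} [Field K] [DecidableEq K]

/-- The subgroup of permutations of `OnePoint K` induced by `GL (Fin 2) K`. -/
def mobGroup (K : Type*) [Field K] [DecidableEq K] : Subgroup (Equiv.Perm (OnePoint K)) :=
  (MulAction.toPermHom (GL (Fin 2) K) (OnePoint K)).range

theorem mem_mobGroup (σ : Equiv.Perm (OnePoint K)) :
    σ ∈ mobGroup K ↔ ∃ g : GL (Fin 2) K, ∀ x, σ x = g • x := by
  constructor
  · rintro ⟨g, rfl⟩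
    exact ⟨g, fun x => rfl⟩
  · rintro ⟨g, hg⟩
    exact ⟨g, Equiv.ext fun x => (hg x).symm⟩

/-- The matrix of an affine map. -/
noncomputable def affMat (a b : K) (ha : a ≠ 0) : GL (Fin 2) K :=
  Matrix.GeneralLinearGroup.mkOfDetNeZero !![a, b; 0, 1] (by simp [Matrix.det_fin_two, ha])

theorem affMat_smul_infty (a b : K) (ha : a ≠ 0) : affMat a b ha • (∞ : OnePoint K) = ∞ := by
  rw [OnePoint.smul_infty_eq_self_iff]
  simp [affMat, Matrix.GeneralLinearGroup.mkOfDetNeZero]

theorem affMat_smul_coe (a b : K) (ha : a ≠ 0) (x : K) :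
    affMat a b ha • (x : OnePoint K) = ((a * x + b : K) : OnePoint K) := by
  rw [OnePoint.smul_some_eq_ite]
  simp [affMat, Matrix.GeneralLinearGroup.mkOfDetNeZero]

/-- The matrix of the inversion. -/
noncomputable def invMat (K : Type*) [Field K] : GL (Fin 2) K :=
  Matrix.GeneralLinearGroup.mkOfDetNeZero !![0, 1; 1, 0] (by simp [Matrix.det_fin_two])

theorem invMat_smul_infty : invMat K • (∞ : OnePoint K) = ((0 : K) : OnePoint K) := by
  rw [OnePoint.smul_infty_eq_ite]
  simp [invMat, Matrix.GeneralLinearGroup.mkOfDetNeZero]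

theorem invMat_smul_zero : invMat K • ((0 : K) : OnePoint K) = ∞ := by
  rw [OnePoint.smul_some_eq_ite]
  simp [invMat, Matrix.GeneralLinearGroup.mkOfDetNeZero]

theorem invMat_smul_coe (x : K) (hx : x ≠ 0) :
    invMat K • (x : OnePoint K) = ((x⁻¹ : K) : OnePoint K) := by
  rw [OnePoint.smul_some_eq_ite]
  simp [invMat, Matrix.GeneralLinearGroup.mkOfDetNeZero, hx]

/-- A permutation group of the projective line containing the affine maps and the inversion, all
of whose elements fixing `∞` are affine, is the Möbius group. -/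
theorem mob_eq (G : Subgroup (Equiv.Perm (OnePoint K)))
    (F1 : ∀ a b : K, a ≠ 0 → ∃ σ ∈ G, σ ∞ = ∞ ∧ ∀ x : K, σ x = ((a * x + b : K) : OnePoint K))
    (F2 : ∀ g ∈ G, g ∞ = ∞ →
      ∃ a b : K, a ≠ 0 ∧ ∀ x : K, g x = ((a * x + b : K) : OnePoint K))
    (F3 : ∃ t ∈ G, t ∞ = ((0 : K) : OnePoint K) ∧ t ((0 : K) : OnePoint K) = ∞ ∧
      ∀ x : K, x ≠ 0 → t x = ((x⁻¹ : K) : OnePoint K)) :
    G = mobGroup K := by
  obtain ⟨t, htG, ht1, ht2, ht3⟩ := F3
  -- elements fixing `∞` are Möbius
  have hA : ∀ g ∈ G, g ∞ = ∞ → g ∈ mobGroup K := by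
    intro g hg hgi
    obtain ⟨a, b, ha, hab⟩ := F2 g hg hgi
    rw [mem_mobGroup]
    refine ⟨affMat a b ha, fun p => ?_⟩
    cases p with
    | infty => rw [hgi, affMat_smul_infty]
    | coe x => rw [hab, affMat_smul_coe]
  have hT : t ∈ mobGroup K := by
    rw [mem_mobGroup]
    refine ⟨invMat K, fun p => ?_⟩
    cases p with
    | infty => rw [ht1, invMat_smul_infty]
    | coe x =>
      by_cases hx : x = 0
      · subst hx; rw [ht2, invMat_smul_zero]
      · rw [ht3 x hx, invMat_smul_coe x hx]
  apply le_antisymm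
  · intro σ hσ
    cases h : σ ∞ with
    | infty => exact hA σ hσ h
    | coe c =>
      obtain ⟨τ, hτG, hτi, hτ⟩ := F1 1 (-c) one_ne_zero
      have h1 : (t * τ * σ) ∞ = ∞ := by
        simp only [Equiv.Perm.coe_mul, Function.comp_apply]
        rw [h, hτ c]
        have : (1 : K) * c + -c = 0 := by ring
        rw [this, ht2]
      have h2 : t * τ * σ ∈ mobGroup K := hA _ (G.mul_mem (G.mul_mem htG hτG) hσ) h1
      have h3 : τ ∈ mobGroup K := hA τ hτG hτi
      have h4 : σ = τ⁻¹ * t⁻¹ * (t * τ * σ) := by group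
      rw [h4]
      exact (mobGroup K).mul_mem ((mobGroup K).mul_mem ((mobGroup K).inv_mem h3)
        ((mobGroup K).inv_mem hT)) h2
  · rintro σ ⟨g, rfl⟩
    have hdet : g 0 0 * g 1 1 - g 0 1 * g 1 0 ≠ 0 := by
      have := g.det_ne_zero
      rwa [Matrix.det_fin_two] at this
    by_cases hc : g 1 0 = 0
    · have hd : g 1 1 ≠ 0 := by
        intro h; apply hdet; rw [hc, h]; ring
      have ha : g 0 0 ≠ 0 := by
        intro h; apply hdet; rw [hc, h]; ring
      obtain ⟨σ₀, hσ₀G, hσ₀i, hσ₀⟩ := F1 (g 0 0 / g 1 1) (g 0 1 / g 1 1) (div_ne_zero ha hd)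
      have : MulAction.toPermHom (GL (Fin 2) K) (OnePoint K) g = σ₀ := by
        ext p
        cases p with
        | infty =>
          rw [hσ₀i]
          exact OnePoint.smul_infty_eq_self_iff.mpr hc
        | coe x =>
          rw [hσ₀ x]
          change g • (x : OnePoint K) = _
          rw [OnePoint.smul_some_eq_ite, hc, zero_mul, zero_add, if_neg hd]
          congr 1
          field_simp
      rw [this]; exact hσ₀G
    · obtain ⟨A₁, hA₁G, hA₁i, hA₁⟩ := F1 (g 1 0) (g 1 1) hc
      have hne : (g 0 1 * g 1 0 - g 0 0 * g 1 1) / g 1 0 ≠ 0 := by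
        apply div_ne_zero _ hc
        intro h; apply hdet
        have : g 0 0 * g 1 1 - g 0 1 * g 1 0 = -(g 0 1 * g 1 0 - g 0 0 * g 1 1) := by ring
        rw [this, h, neg_zero]
      obtain ⟨A₂, hA₂G, hA₂i, hA₂⟩ := F1 ((g 0 1 * g 1 0 - g 0 0 * g 1 1) / g 1 0)
        (g 0 0 / g 1 0) hne
      have : MulAction.toPermHom (GL (Fin 2) K) (OnePoint K) g = A₂ * t * A₁ := by
        ext p
        simp only [Equiv.Perm.coe_mul, Function.comp_apply]
        cases p with
        | infty =>
          rw [hA₁i, ht1, hA₂]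
          change g • (∞ : OnePoint K) = _
          rw [OnePoint.smul_infty_eq_ite, if_neg hc]
          congr 1
          ring
        | coe x =>
          change g • (x : OnePoint K) = _
          rw [OnePoint.smul_some_eq_ite, hA₁ x]
          by_cases hx : g 1 0 * x + g 1 1 = 0
          · rw [if_pos hx, hx, ht2, hA₂i]
          · rw [if_neg hx, ht3 _ hx, hA₂]
            congr 1
            have hD : g 0 0 * x + g 0 1 =
                ((g 0 1 * g 1 0 - g 0 0 * g 1 1) / g 1 0) + g 0 0 / g 1 0 * (g 1 0 * x + g 1 1) := by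
              field_simp
              ring
            rw [hD, add_div, mul_div_assoc, div_self hx, mul_one, div_eq_mul_inv]
      rw [this]
      exact G.mul_mem (G.mul_mem hA₂G htG) hA₁G

/-- The kernel of the Möbius action is the centre of `GL (Fin 2) K`. -/
theorem mob_ker : (MulAction.toPermHom (GL (Fin 2) K) (OnePoint K)).ker =
    Subgroup.center (GL (Fin 2) K) := by
  ext g
  rw [MonoidHom.mem_ker, Matrix.GeneralLinearGroup.center_eq_range_scalar, MonoidHom.mem_range]
  constructor
  · intro h
    have hp : ∀ p : OnePoint K, g • p = p := fun p => by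
      have := congrArg (fun σ : Equiv.Perm (OnePoint K) => σ p) h
      exact this
    have h10 : g 1 0 = 0 := OnePoint.smul_infty_eq_self_iff.mp (hp ∞)
    have h0 := hp ((0 : K) : OnePoint K)
    rw [OnePoint.smul_some_eq_ite] at h0
    have h1 := hp ((1 : K) : OnePoint K)
    rw [OnePoint.smul_some_eq_ite] at h1
    simp only [h10, mul_zero, zero_add, mul_one] at h0 h1
    have h11 : g 1 1 ≠ 0 := by
      intro h11
      rw [if_pos h11] at h0
      exact OnePoint.infty_ne_coe _ h0
    rw [if_neg h11] at h0 h1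
    have h01 : g 0 1 = 0 := by
      have := OnePoint.coe_injective h0
      rcases div_eq_zero_iff.mp this with h | h
      · exact h
      · exact absurd h h11
    have h00 : g 0 0 = g 1 1 := by
      have := OnePoint.coe_injective h1
      rw [h01, add_zero] at this
      exact (div_eq_one_iff_eq h11).mp this
    refine ⟨Units.mk0 (g 1 1) h11, ?_⟩
    apply Matrix.GeneralLinearGroup.ext
    intro i j
    fin_cases i <;> fin_cases j <;>
      simp [Matrix.GeneralLinearGroup.coe_scalar, h10, h01, h00]
  · rintro ⟨u, rfl⟩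
    ext p
    change (Matrix.GeneralLinearGroup.scalar (Fin 2) u) • p = p
    cases p with
    | infty =>
      rw [OnePoint.smul_infty_eq_self_iff]
      simp [Matrix.GeneralLinearGroup.coe_scalar]
    | coe x =>
      rw [OnePoint.smul_some_eq_ite]
      simp [Matrix.GeneralLinearGroup.coe_scalar]

/-- The Möbius group is `PGL(2, K)`. -/
theorem nonempty_mobGroup_mulEquiv_pgl :
    Nonempty (mobGroup K ≃* Matrix.ProjGenLinGroup (Fin 2) K) :=
  ⟨(QuotientGroup.quotientKerEquivRange
      (MulAction.toPermHom (GL (Fin 2) K) (OnePoint K))).symm.trans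
    (QuotientGroup.quotientMulEquivOfEq mob_ker)⟩

end Mob

section CharTwo

variable (F : Type*) [Field F]

/-- Over a finite field of characteristic `2`, `PSL(2, F) ≃* PGL(2, F)`. -/
theorem nonempty_psl_mulEquiv_pgl_of_char_two [Fintype F] (h2 : ringChar F = 2) :
    Nonempty (Matrix.ProjectiveSpecialLinearGroup (Fin 2) F ≃* Matrix.ProjGenLinGroup (Fin 2) F) := by
  refine ⟨MulEquiv.ofBijective Matrix.ProjectiveSpecialLinearGroup.toPGL
    ⟨Matrix.ProjectiveSpecialLinearGroup.toPGL_injective,
      Matrix.ProjectiveSpecialLinearGroup.toPGL_surj_of_roots fun r => ?_⟩⟩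
  obtain ⟨s, hs⟩ := FiniteField.isSquare_of_char_two h2 (r : F)
  have hs0 : s ≠ 0 := by
    rintro rfl
    rw [mul_zero] at hs
    exact r.ne_zero hs
  refine ⟨Units.mk0 s hs0, ?_⟩
  apply Units.ext
  simp [hs, sq]

/-- Over a finite field of characteristic `2`, `SL(2, F) ≃* PSL(2, F)`. -/
theorem nonempty_sl_mulEquiv_psl_of_char_two (h2 : ringChar F = 2) :
    Nonempty (Matrix.SpecialLinearGroup (Fin 2) F ≃* Matrix.ProjectiveSpecialLinearGroup (Fin 2) F) := by
  have hchar : CharP F 2 := ringChar.of_eq h2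
  have hc : Subgroup.center (Matrix.SpecialLinearGroup (Fin 2) F) = ⊥ := by
    rw [eq_bot_iff]
    intro A hA
    rw [Matrix.SpecialLinearGroup.mem_center_iff] at hA
    obtain ⟨r, hr, hrA⟩ := hA
    rw [Fintype.card_fin] at hr
    have h1 : (r + 1) ^ 2 = 0 := by rw [CharTwo.add_sq, hr, one_pow, CharTwo.add_self_eq_zero]
    have h3 : r = 1 := by
      have h4 : r + 1 = 0 := by simpa using h1
      have h5 : r = -1 := eq_neg_of_add_eq_zero_left h4
      rw [h5, CharTwo.neg_eq]
    rw [Subgroup.mem_bot]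
    apply Matrix.SpecialLinearGroup.ext
    intro i j
    rw [← hrA, h3]
    simp
  exact ⟨(QuotientGroup.quotientBot (G := Matrix.SpecialLinearGroup (Fin 2) F)).symm.trans
    (QuotientGroup.quotientMulEquivOfEq hc.symm)⟩

end CharTwo

end Cfsg.Agent.H60
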