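import Mathlib

set_option autoImplicit false

namespace Cfsg.Agent.H60

open Finset Polynomial

open scoped Classical

/-- Hypotheses: `F` is a field with `(2^n)^2` elements, `n ≥ 1`. -/
class SuzFin (F : Type*) [Field F] [Fintype F] (n : ℕ) : Prop where
  card : Fintype.card F = (2 ^ n) ^ 2
  pos : 1 ≤ n

section field

variable (F : Type*) [Field F] [Fintype F] (n : ℕ)

/-- The fixed field of the Frobenius involution `c ↦ c ^ (2^n)`, as a finset. -/
noncomputable def K0 : Finset F := univ.filter (fun c => c ^ (2 ^ n) = c)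

variable {F} {n} in
theorem mem_K0 {c : F} : c ∈ K0 F n ↔ c ^ (2 ^ n) = c := by simp [K0]

variable [hS : SuzFin F n]

include hS

theorem suz_two : (2 : F) = 0 := by
  have h1 : Fintype.card F % 2 = 0 := by
    rw [hS.card]
    have : Even ((2 ^ n) ^ 2) := by
      rw [← pow_mul]
      exact (Nat.even_pow.mpr ⟨even_two, by have := hS.pos; omega⟩)
    exact Nat.even_iff.mp this
  have h2 : ringChar F = 2 := FiniteField.even_card_iff_char_two.mpr h1
  haveI : CharP F 2 := ringChar.of_eq h2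
  exact_mod_cast CharP.cast_eq_zero F 2

theorem suz_charP : CharP F 2 :=
  CharTwo.of_one_ne_zero_of_two_eq_zero one_ne_zero (suz_two F n)

theorem suz_q_gt : 1 < 2 ^ n := Nat.one_lt_two_pow (by have := hS.pos; omega)

variable {F}

theorem suz_add_self (a : F) : a + a = 0 := by
  linear_combination a * suz_two F n

theorem suz_add (a b : F) : (a + b) ^ (2 ^ n) = a ^ (2 ^ n) + b ^ (2 ^ n) := by
  haveI : CharP F 2 := suz_charP F n
  exact add_pow_char_pow a b 2 n

theorem suz_frob (a : F) : (a ^ (2 ^ n)) ^ (2 ^ n) = a := by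
  rw [← pow_mul, ← sq, ← hS.card]
  exact FiniteField.pow_card a

theorem suz_frob_inj {a b : F} (h : a ^ (2 ^ n) = b ^ (2 ^ n)) : a = b := by
  rw [← suz_frob n a, ← suz_frob n b, h]

theorem suz_sq_inj {a b : F} (h : a ^ 2 = b ^ 2) : a = b := by
  have h2 := suz_two F n
  have : (a - b) ^ 2 = 0 := by linear_combination h - a * b * h2 + b ^ 2 * h2
  have := pow_eq_zero_iff (two_ne_zero) |>.mp this
  linear_combination this

theorem tr_mem_K0 (a : F) : a + a ^ (2 ^ n) ∈ K0 F n := by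
  rw [mem_K0, suz_add, suz_frob, add_comm]

theorem norm_mem_K0 (a : F) : a ^ (2 ^ n + 1) ∈ K0 F n := by
  rw [mem_K0]
  calc (a ^ (2 ^ n + 1)) ^ (2 ^ n) = (a ^ (2 ^ n) * a) ^ (2 ^ n) := by rw [pow_succ]
    _ = (a ^ (2 ^ n)) ^ (2 ^ n) * a ^ (2 ^ n) := mul_pow _ _ _
    _ = a * a ^ (2 ^ n) := by rw [suz_frob]
    _ = a ^ (2 ^ n + 1) := by rw [pow_succ, mul_comm]

theorem zero_mem_K0 : (0 : F) ∈ K0 F n := by
  rw [mem_K0]; exact zero_pow (by have := suz_q_gt F n; omega)

theorem one_mem_K0 : (1 : F) ∈ K0 F n := by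
  rw [mem_K0]; exact one_pow _

theorem add_mem_K0 {c d : F} (hc : c ∈ K0 F n) (hd : d ∈ K0 F n) : c + d ∈ K0 F n := by
  rw [mem_K0] at *; rw [suz_add, hc, hd]

theorem mul_mem_K0 {c d : F} (hc : c ∈ K0 F n) (hd : d ∈ K0 F n) : c * d ∈ K0 F n := by
  rw [mem_K0] at *; rw [mul_pow, hc, hd]

theorem K0_card_le : (K0 F n).card ≤ 2 ^ n := by
  have hq : 1 < 2 ^ n := suz_q_gt F n
  have hsub : K0 F n ⊆ (X ^ (2 ^ n) - X : F[X]).roots.toFinset := by
    intro c hc
    rw [Multiset.mem_toFinset, mem_roots (FiniteField.X_pow_card_sub_X_ne_zero F hq)]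
    simp [mem_K0.mp hc]
  calc (K0 F n).card ≤ (X ^ (2 ^ n) - X : F[X]).roots.toFinset.card := card_le_card hsub
    _ ≤ Multiset.card (X ^ (2 ^ n) - X : F[X]).roots := Multiset.toFinset_card_le _
    _ ≤ (X ^ (2 ^ n) - X : F[X]).natDegree := card_roots' _
    _ = 2 ^ n := FiniteField.X_pow_card_sub_X_natDegree_eq F hq

theorem tr_eq_iff (a a' : F) :
    a + a ^ (2 ^ n) = a' + a' ^ (2 ^ n) ↔ a + a' ∈ K0 F n := by
  rw [mem_K0, suz_add]
  have h2 := suz_two F n
  constructor
  · intro h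
    linear_combination h + (a' ^ (2 ^ n) - a) * h2
  · intro h
    linear_combination h + (a - a' ^ (2 ^ n)) * h2

theorem K0_card_aux : (K0 F n).card = 2 ^ n ∧
    (univ.image (fun a : F => a + a ^ (2 ^ n))) = K0 F n := by
  set T : F → F := fun a => a + a ^ (2 ^ n) with hT
  have himg : univ.image T ⊆ K0 F n := by
    intro c hc
    obtain ⟨a, -, rfl⟩ := mem_image.mp hc
    exact tr_mem_K0 n a
  have hfib : ∀ c ∈ univ.image T, (univ.filter (fun x => T x = c)).card ≤ (K0 F n).card := by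
    intro c hc
    obtain ⟨a0, -, rfl⟩ := mem_image.mp hc
    apply card_le_card_of_injOn (fun x => x + a0)
    · intro x hx
      have hx' : T x = T a0 := (mem_filter.mp hx).2
      exact (tr_eq_iff n x a0).mp hx'
    · intro x _ y _ hxy
      exact add_right_cancel hxy
  have h1 := card_le_mul_card_image (univ : Finset F) (K0 F n).card hfib
  have hcard : (univ : Finset F).card = (2 ^ n) ^ 2 := by rw [card_univ, hS.card]
  have h2 := card_le_card himg
  have h3 := K0_card_le (F := F) n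
  have hq := suz_q_gt F n
  rw [hcard] at h1
  have hk : (K0 F n).card = 2 ^ n := by nlinarith
  refine ⟨hk, eq_of_subset_of_card_le himg ?_⟩
  rw [hk] at h1 ⊢
  nlinarith

theorem K0_card : (K0 F n).card = 2 ^ n := (K0_card_aux n).1

/-- The trace `a ↦ a + a^q` is onto the fixed field. -/
theorem tr_surj {c : F} (hc : c ∈ K0 F n) : ∃ a : F, a + a ^ (2 ^ n) = c := by
  rw [← (K0_card_aux n).2] at hc
  obtain ⟨a, -, ha⟩ := mem_image.mp hc
  exact ⟨a, ha⟩

/-- There is an element not fixed by the Frobenius involution. -/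
theorem exists_not_mem_K0 : ∃ w : F, w ^ (2 ^ n) ≠ w := by
  by_contra hcon
  push Not at hcon
  have h1 : K0 F n = univ := by
    ext c; simp [mem_K0, hcon c]
  have h2 := K0_card (F := F) n
  rw [h1, card_univ, hS.card] at h2
  have hq := suz_q_gt F n
  nlinarith

/-- The norm `a ↦ a^(q+1)` is onto the nonzero elements of the fixed field. -/
theorem norm_surj {c : F} (hc : c ∈ K0 F n) (hc0 : c ≠ 0) : ∃ a : F, a ^ (2 ^ n + 1) = c := by
  classical
  set N : F → F := fun a => a ^ (2 ^ n + 1) with hN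
  set s : Finset F := univ.erase 0 with hs
  have himg : s.image N ⊆ (K0 F n).erase 0 := by
    intro d hd
    obtain ⟨a, ha, rfl⟩ := mem_image.mp hd
    rw [mem_erase]
    exact ⟨pow_ne_zero _ (ne_of_mem_erase ha), norm_mem_K0 n a⟩
  have hfib : ∀ d ∈ s.image N, (s.filter (fun x => N x = d)).card ≤ 2 ^ n + 1 := by
    intro d _
    have hsub : s.filter (fun x => N x = d) ⊆ (nthRoots (2 ^ n + 1) d).toFinset := by
      intro x hx
      rw [Multiset.mem_toFinset, mem_nthRoots (Nat.succ_pos _)]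
      exact (mem_filter.mp hx).2
    calc (s.filter (fun x => N x = d)).card ≤ (nthRoots (2 ^ n + 1) d).toFinset.card :=
          card_le_card hsub
      _ ≤ Multiset.card (nthRoots (2 ^ n + 1) d) := Multiset.toFinset_card_le _
      _ ≤ 2 ^ n + 1 := card_nthRoots _ _
  have h1 := card_le_mul_card_image s (2 ^ n + 1) hfib
  have hcard : s.card = (2 ^ n) ^ 2 - 1 := by
    rw [hs, card_erase_of_mem (mem_univ _), card_univ, hS.card]
  have h2 := card_le_card himg
  have h3 : ((K0 F n).erase 0).card = 2 ^ n - 1 := by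
    rw [card_erase_of_mem (zero_mem_K0 n), K0_card]
  have hq := suz_q_gt F n
  have heq : s.image N = (K0 F n).erase 0 := by
    apply eq_of_subset_of_card_le himg
    rw [h3]
    rw [hcard] at h1
    have h4 : (2 ^ n) ^ 2 - 1 = (2 ^ n + 1) * (2 ^ n - 1) := by
      obtain ⟨m, hm⟩ : ∃ m, 2 ^ n = m + 1 := ⟨2 ^ n - 1, by omega⟩
      rw [hm]
      have : (m + 1) ^ 2 = (m + 1 + 1) * m + 1 := by ring
      rw [this]; simp
    rw [h4] at h1
    exact Nat.le_of_mul_le_mul_left h1 (Nat.succ_pos _)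
  have hc' : c ∈ s.image N := by
    rw [heq, mem_erase]; exact ⟨hc0, hc⟩
  obtain ⟨a, -, ha⟩ := mem_image.mp hc'
  exact ⟨a, ha⟩

/-- Square roots in the fixed field. -/
theorem sqrt_mem_K0 {c : F} (hc : c ∈ K0 F n) : ∃ e ∈ K0 F n, e ^ 2 = c := by
  obtain ⟨m, hm⟩ : ∃ m, n = m + 1 := ⟨n - 1, by have := hS.pos; omega⟩
  refine ⟨c ^ (2 ^ m), ?_, ?_⟩
  · rw [mem_K0, ← pow_mul, mul_comm, pow_mul, mem_K0.mp hc]
  · rw [← pow_mul, ← pow_succ, ← hm, mem_K0.mp hc]

end field

end Cfsg.Agent.H60
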