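import Mathlib
import Cfsg.Agent.H60.SuzField

set_option autoImplicit false

namespace Cfsg.Agent.H60

open Finset

open scoped Classical

open scoped commutatorElement

/-- The model of a Sylow 2-subgroup of `SU_3(2^n)`: pairs `(a, b)` with `b + b^q = a^(q+1)`,
multiplied by `(a, b) (a', b') = (a + a', b + b' + a^q a')`. -/
@[ext] structure Par (F : Type*) [Field F] (n : ℕ) where
  a : F
  b : F
  h : b + b ^ (2 ^ n) = a ^ (2 ^ n + 1)

section par

variable {F : Type*} [Field F] [Fintype F] {n : ℕ} [hS : SuzFin F n]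

instance : Group (Par F n) where
  mul x y := ⟨x.a + y.a, x.b + y.b + x.a ^ (2 ^ n) * y.a, by
    have hx := x.h
    have hy := y.h
    rw [pow_succ] at hx hy ⊢
    rw [suz_add, suz_add, suz_add, mul_pow, suz_frob]
    linear_combination hx + hy⟩
  one := ⟨0, 0, by
    have := suz_q_gt F n
    rw [zero_pow (by omega), zero_pow (by omega), add_zero]⟩
  inv x := ⟨x.a, x.b + x.a ^ (2 ^ n + 1), by
    have hx := x.h
    have h2 := suz_two F n
    rw [suz_add, mem_K0.mp (norm_mem_K0 n x.a)]
    linear_combination hx + x.a ^ (2 ^ n + 1) * h2⟩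
  mul_assoc x y z := by
    apply Par.ext
    · show x.a + y.a + z.a = x.a + (y.a + z.a)
      ring
    · show x.b + y.b + x.a ^ (2 ^ n) * y.a + z.b + (x.a + y.a) ^ (2 ^ n) * z.a
        = x.b + (y.b + z.b + y.a ^ (2 ^ n) * z.a) + x.a ^ (2 ^ n) * (y.a + z.a)
      rw [suz_add]
      ring
  one_mul x := by
    have := suz_q_gt F n
    apply Par.ext
    · show 0 + x.a = x.a
      ring
    · show 0 + x.b + 0 ^ (2 ^ n) * x.a = x.b
      rw [zero_pow (by omega)]
      ring
  mul_one x := by
    apply Par.ext
    · show x.a + 0 = x.a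
      ring
    · show x.b + 0 + x.a ^ (2 ^ n) * 0 = x.b
      ring
  inv_mul_cancel x := by
    have h2 := suz_two F n
    apply Par.ext
    · show x.a + x.a = 0
      exact suz_add_self n x.a
    · show x.b + x.a ^ (2 ^ n + 1) + x.b + x.a ^ (2 ^ n) * x.a = 0
      rw [pow_succ]
      linear_combination (x.b + x.a ^ (2 ^ n) * x.a) * h2

@[simp] theorem Par.mul_a (x y : Par F n) : (x * y).a = x.a + y.a := rfl
@[simp] theorem Par.mul_b (x y : Par F n) : (x * y).b = x.b + y.b + x.a ^ (2 ^ n) * y.a := rfl
@[simp] theorem Par.one_a : (1 : Par F n).a = 0 := rfl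
@[simp] theorem Par.one_b : (1 : Par F n).b = 0 := rfl
@[simp] theorem Par.inv_a (x : Par F n) : (x⁻¹).a = x.a := rfl
@[simp] theorem Par.inv_b (x : Par F n) : (x⁻¹).b = x.b + x.a ^ (2 ^ n + 1) := rfl

theorem Par.zero_pow_q : (0 : F) ^ (2 ^ n) = 0 := by
  have := suz_q_gt F n
  exact zero_pow (by omega)

/-- A chosen element of the model with prescribed first coordinate. -/
noncomputable def Par.lift (a : F) : Par F n :=
  ⟨a, Classical.choose (tr_surj n (norm_mem_K0 n a)),
    Classical.choose_spec (tr_surj n (norm_mem_K0 n a))⟩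

@[simp] theorem Par.lift_a (a : F) : (Par.lift a : Par F n).a = a := rfl

/-- The central element attached to an element of the fixed field. -/
def Par.zc (c : F) (hc : c ^ (2 ^ n) = c) : Par F n :=
  ⟨0, c, by
    have := suz_q_gt F n
    rw [hc, zero_pow (by omega)]
    exact suz_add_self n c⟩

@[simp] theorem Par.zc_a (c : F) (hc : c ^ (2 ^ n) = c) : (Par.zc c hc : Par F n).a = 0 := rfl
@[simp] theorem Par.zc_b (c : F) (hc : c ^ (2 ^ n) = c) : (Par.zc c hc : Par F n).b = c := rfl

theorem Par.b_fixed_of_a_zero {x : Par F n} (hx : x.a = 0) : x.b ^ (2 ^ n) = x.b := by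
  have h := x.h
  have h2 := suz_two F n
  have := suz_q_gt F n
  rw [hx, zero_pow (by omega)] at h
  linear_combination h - x.b * h2

theorem Par.eq_zc_of_a_zero {x : Par F n} (hx : x.a = 0) :
    x = Par.zc x.b (Par.b_fixed_of_a_zero hx) := by
  apply Par.ext
  · exact hx
  · rfl

theorem Par.mul_self_a (x : Par F n) : (x * x).a = 0 := suz_add_self n x.a

theorem Par.mul_self_b (x : Par F n) : (x * x).b = x.a ^ (2 ^ n + 1) := by
  have h2 := suz_two F n
  rw [Par.mul_b, pow_succ]
  linear_combination x.b * h2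

theorem Par.mul_self_eq_one_iff (x : Par F n) : x * x = 1 ↔ x.a = 0 := by
  constructor
  · intro h
    have hb := congrArg Par.b h
    rw [Par.mul_self_b, Par.one_b] at hb
    exact (pow_eq_zero_iff (Nat.succ_ne_zero _)).mp hb
  · intro h
    apply Par.ext
    · exact Par.mul_self_a x
    · rw [Par.mul_self_b, h, Par.one_b]
      exact zero_pow (Nat.succ_ne_zero _)

theorem Par.mem_center_iff (x : Par F n) : x ∈ Subgroup.center (Par F n) ↔ x.a = 0 := by
  rw [Subgroup.mem_center_iff]
  constructor
  · intro h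
    obtain ⟨w, hw⟩ := exists_not_mem_K0 (F := F) n
    have h1 := congrArg Par.b (h (Par.lift 1))
    have hw' := congrArg Par.b (h (Par.lift w))
    simp only [Par.mul_b, Par.lift_a, one_pow, mul_one, one_mul] at h1 hw'
    have e1 : x.a ^ (2 ^ n) = x.a := by linear_combination -h1
    rw [e1] at hw'
    have e2 : x.a * (w ^ (2 ^ n) - w) = 0 := by linear_combination hw'
    rcases mul_eq_zero.mp e2 with h0 | h0
    · exact h0
    · exact absurd (sub_eq_zero.mp h0) hw
  · intro h g
    apply Par.ext
    · simp [h]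
    · simp only [Par.mul_b, h, Par.zero_pow_q]
      ring

theorem Par.zc_mem_center (c : F) (hc : c ^ (2 ^ n) = c) :
    (Par.zc c hc : Par F n) ∈ Subgroup.center (Par F n) :=
  (Par.mem_center_iff _).mpr rfl

theorem Par.zc_mul (c d : F) (hc : c ^ (2 ^ n) = c) (hd : d ^ (2 ^ n) = d) :
    (Par.zc c hc : Par F n) * Par.zc d hd
      = Par.zc (c + d) (by rw [suz_add, hc, hd]) := by
  apply Par.ext
  · simp
  · simp

theorem Par.zc_zero : (Par.zc (0 : F) Par.zero_pow_q : Par F n) = 1 := by
  apply Par.ext <;> rfl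

theorem Par.zc_inj {c d : F} {hc : c ^ (2 ^ n) = c} {hd : d ^ (2 ^ n) = d}
    (h : (Par.zc c hc : Par F n) = Par.zc d hd) : c = d := congrArg Par.b h

/-- central elements have order at most two -/
theorem Par.zc_mul_self (c : F) (hc : c ^ (2 ^ n) = c) :
    (Par.zc c hc : Par F n) * Par.zc c hc = 1 :=
  (Par.mul_self_eq_one_iff _).mpr rfl

theorem Par.commutator_a (x y : Par F n) : (⁅x, y⁆).a = 0 := by
  rw [commutatorElement_def]
  simp only [Par.mul_a, Par.inv_a]
  have h2 := suz_two F n
  linear_combination (x.a + y.a) * h2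

theorem Par.commutator_mem_center (x y : Par F n) : ⁅x, y⁆ ∈ Subgroup.center (Par F n) :=
  (Par.mem_center_iff _).mpr (Par.commutator_a x y)

/-- every central element is a commutator -/
theorem Par.exists_commutator_eq {z : Par F n} (hz : z ∈ Subgroup.center (Par F n)) :
    ∃ x y : Par F n, ⁅x, y⁆ = z := by
  have hza := (Par.mem_center_iff z).mp hz
  obtain ⟨c', hc'⟩ := tr_surj n (mem_K0.mpr (Par.b_fixed_of_a_zero hza))
  refine ⟨Par.lift 1, Par.lift c', ?_⟩
  have key : (Par.lift 1 : Par F n) * Par.lift c' = z * (Par.lift c' * Par.lift 1) := by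
    have h2 := suz_two F n
    apply Par.ext
    · simp [hza]; ring
    · simp only [Par.mul_b, Par.mul_a, Par.lift_a, hza, Par.zero_pow_q, one_pow, mul_one, one_mul,
        zero_mul, add_zero]
      linear_combination -hc' + (c' - z.b) * h2
  rw [commutatorElement_def, key]
  group

theorem Par.card_eq : Nat.card (Par F n) = (2 ^ n) ^ 3 := by
  have h2 := suz_two F n
  let e : Par F n ≃ F × ↥(K0 F n) :=
    { toFun := fun x => (x.a, ⟨x.b + (Par.lift x.a : Par F n).b,
        (tr_eq_iff n _ _).mp (x.h.trans (Par.lift x.a : Par F n).h.symm)⟩)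
      invFun := fun p => ⟨p.1, p.2.1 + (Par.lift p.1 : Par F n).b, by
        have h1 := (Par.lift p.1 : Par F n).h
        have h3 := mem_K0.mp p.2.2
        simp only [Par.lift_a] at h1
        rw [suz_add, h3]
        linear_combination h1 + (p.2 : F) * h2⟩
      left_inv := by
        intro x
        apply Par.ext
        · rfl
        · show x.b + (Par.lift x.a : Par F n).b + (Par.lift x.a : Par F n).b = x.b
          linear_combination (Par.lift x.a : Par F n).b * h2
      right_inv := by
        rintro ⟨a, c, hc⟩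
        apply Prod.ext
        · rfl
        · apply Subtype.ext
          show c + (Par.lift a : Par F n).b + (Par.lift a : Par F n).b = c
          linear_combination (Par.lift a : Par F n).b * h2 }
  rw [Nat.card_congr e, Nat.card_prod, Nat.card_eq_fintype_card, Nat.card_eq_fintype_card,
    hS.card, Fintype.card_coe, K0_card]
  ring

instance : Finite (Par F n) :=
  Nat.finite_of_card_ne_zero (by rw [Par.card_eq]; positivity)

theorem Par.card_center : Nat.card (Subgroup.center (Par F n)) = 2 ^ n := by
  let e : ↥(Subgroup.center (Par F n)) ≃ ↥(K0 F n) :=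
    { toFun := fun x => ⟨x.1.b, mem_K0.mpr (Par.b_fixed_of_a_zero ((Par.mem_center_iff _).mp x.2))⟩
      invFun := fun c => ⟨Par.zc c.1 (mem_K0.mp c.2), Par.zc_mem_center _ _⟩
      left_inv := by
        intro x
        apply Subtype.ext
        exact (Par.eq_zc_of_a_zero ((Par.mem_center_iff _).mp x.2)).symm
      right_inv := by
        intro c
        rfl }
  rw [Nat.card_congr e, Nat.card_eq_fintype_card, Fintype.card_coe, K0_card]

theorem Par.isPGroup : IsPGroup 2 (Par F n) :=
  IsPGroup.of_card (n := 3 * n) (by rw [Par.card_eq, ← pow_mul, mul_comm])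

theorem Par.not_comm : ∃ x y : Par F n, x * y ≠ y * x := by
  obtain ⟨w, hw⟩ := exists_not_mem_K0 (F := F) n
  by_contra hcon
  push Not at hcon
  have : (Par.lift w : Par F n) ∈ Subgroup.center (Par F n) := by
    rw [Subgroup.mem_center_iff]
    intro g
    exact hcon g _
  have h0 := (Par.mem_center_iff _).mp this
  simp only [Par.lift_a] at h0
  apply hw
  rw [h0, Par.zero_pow_q]

end par

end Cfsg.Agent.H60
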