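import Mathlib
import Cfsg.Agent.S0683
import Cfsg.Agent.H60.Sharp3Mob

/-!
# Sharply 3-transitive groups of odd degree are Möbius groups (helper60)

`sharp3_core`: a sharply 3-transitive permutation group `G` of `OnePoint T`, `T` finite of even
size, is the Möbius group `mobGroup T` for a suitable field structure on `T`.

The stabiliser of `∞` is sharply 2-transitive on `T`, hence the affine group of a near-field
(`Cfsg.Agent.S0683.result`, helper15).  The element `t` swapping `0, ∞` and fixing `1` inverts the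
two-point stabiliser (every element of its coset is an involution, because the degree is odd), so
the multiplication is commutative, the near-field is a field and `t` is `x ↦ x⁻¹`.
-/

set_option autoImplicit false

namespace Cfsg.Agent.H60

open OnePoint

section Ext
variable {T : Type*}

/-- Extension of a permutation of `T` to `OnePoint T`, fixing `∞`. -/
def extP (σ : Equiv.Perm T) : Equiv.Perm (OnePoint T) := Equiv.optionCongr σ

theorem extP_infty (σ : Equiv.Perm T) : extP σ ∞ = ∞ := rfl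

theorem extP_coe (σ : Equiv.Perm T) (x : T) :
    extP σ (x : OnePoint T) = ((σ x : T) : OnePoint T) := rfl

theorem extP_mul (σ τ : Equiv.Perm T) : extP (σ * τ) = extP σ * extP τ := by
  ext p
  cases p with
  | infty => rfl
  | coe x => rfl

theorem extP_one : extP (1 : Equiv.Perm T) = 1 := by
  ext p
  cases p with
  | infty => rfl
  | coe x => rfl

theorem extP_injective : Function.Injective (extP : Equiv.Perm T → Equiv.Perm (OnePoint T)) := by
  intro σ τ h
  ext x
  have := congrArg (fun ρ : Equiv.Perm (OnePoint T) => ρ (x : OnePoint T)) h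
  simp only [extP_coe] at this
  exact OnePoint.coe_injective this

/-- `extP` as a group homomorphism. -/
def extHom (T : Type*) : Equiv.Perm T →* Equiv.Perm (OnePoint T) where
  toFun := extP
  map_one' := extP_one
  map_mul' := extP_mul

theorem exists_extP_of_fix_infty (g : Equiv.Perm (OnePoint T)) (hg : g ∞ = ∞) :
    ∃ σ : Equiv.Perm T, g = extP σ := by
  have hne : ∀ x : T, ∃ y : T, g (x : OnePoint T) = (y : OnePoint T) := by
    intro x
    cases h : g (x : OnePoint T) with
    | infty =>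
      exfalso
      rw [← hg] at h
      exact OnePoint.coe_ne_infty x (g.injective h)
    | coe y => exact ⟨y, rfl⟩
  refine ⟨Equiv.removeNone g, ?_⟩
  ext p
  cases p with
  | infty => rw [hg]; rfl
  | coe x =>
    obtain ⟨y, hy⟩ := hne x
    exact (Equiv.removeNone_some g ⟨y, hy⟩).symm

end Ext

/-- An involution of a set of odd size with two fixed points has a third one. -/
theorem invol_two_fix {Ω : Type*} [Fintype Ω] [DecidableEq Ω] (hodd : Odd (Fintype.card Ω))
    (g : Equiv.Perm Ω) (hgg : g * g = 1) (x y : Ω) (hxy : x ≠ y) (hx : g x = x) (hy : g y = y) :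
    ∃ z, z ≠ x ∧ z ≠ y ∧ g z = z := by
  have hσ : g ^ 2 ^ 1 = 1 := by rw [pow_one, sq, hgg]
  have hp2 : Fact (Nat.Prime 2) := ⟨Nat.prime_two⟩
  have hmod := Equiv.Perm.card_compl_support_modEq hσ
  by_contra hcon
  have hsub : g.supportᶜ = {x, y} := by
    ext z
    simp only [Finset.mem_compl, Equiv.Perm.mem_support, not_not, Finset.mem_insert,
      Finset.mem_singleton]
    constructor
    · intro hz
      by_contra h
      rw [not_or] at h
      exact hcon ⟨z, h.1, h.2, hz⟩
    · rintro (rfl | rfl) <;> assumption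
  rw [hsub, Finset.card_pair hxy] at hmod
  have h0 : Fintype.card Ω % 2 = 0 := by
    have := hmod
    unfold Nat.ModEq at this
    omega
  rcases hodd with ⟨k, hk⟩
  omega

theorem nf_zero_mul {T : Type*} [Cfsg.NearField T] (a : T) : (0 : T) * a = 0 := by
  have h := Cfsg.NearField.right_distrib (0 : T) 0 a
  rw [add_zero] at h
  exact add_eq_left.mp h.symm

section NF
variable {T : Type*} [Fintype T] [DecidableEq T]

/-- The near-field stage of `sharp3_core`. -/
theorem core_nf [nf : Cfsg.NearField T] (G : Subgroup (Equiv.Perm (OnePoint T)))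
    (h3 : ∀ a b c a' b' c' : OnePoint T, a ≠ b → a ≠ c → b ≠ c → a' ≠ b' → a' ≠ c' → b' ≠ c' →
      ∃ g ∈ G, g a = a' ∧ g b = b' ∧ g c = c')
    (hs : ∀ g ∈ G, ∀ a b c : OnePoint T, a ≠ b → a ≠ c → b ≠ c → g a = a → g b = b → g c = c →
      g = 1)
    (hodd : Odd (Fintype.card (OnePoint T)))
    (hH : ∀ σ : Equiv.Perm T, extP σ ∈ G ↔ ∃ a b : T, a ≠ 0 ∧ ∀ x : T, σ x = x * a + b) :
    ∃ (_ : Field T), G = mobGroup T := by
  classical
  have h01 : (0 : T) ≠ 1 := Cfsg.NearField.zero_ne_one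
  have hzm : ∀ a : T, (0 : T) * a = 0 := nf_zero_mul
  have hmz : ∀ a : T, a * 0 = 0 := Cfsg.NearField.mul_zero
  have hrd : ∀ a b c : T, (a + b) * c = a * c + b * c := Cfsg.NearField.right_distrib
  have hinv : ∀ a : T, a ≠ 0 → ∃ b : T, a * b = 1 ∧ b * a = 1 := Cfsg.NearField.exists_inv
  -- (P1) affine maps
  have P1 : ∀ a b : T, a ≠ 0 → ∃ σ : Equiv.Perm T, extP σ ∈ G ∧ ∀ x : T, σ x = x * a + b := by
    intro a b ha
    obtain ⟨a', h1, h2⟩ := hinv a ha
    let σ : Equiv.Perm T :=
      { toFun := fun x => x * a + b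
        invFun := fun y => (y - b) * a'
        left_inv := fun x => by
          show (x * a + b - b) * a' = x
          rw [add_sub_cancel_right, mul_assoc, h1, mul_one]
        right_inv := fun y => by
          show (y - b) * a' * a + b = y
          rw [mul_assoc, h2, mul_one, sub_add_cancel] }
    exact ⟨σ, (hH σ).mpr ⟨a, b, ha, fun x => rfl⟩, fun x => rfl⟩
  -- (P2) elements fixing `∞` are affine
  have P2 : ∀ g ∈ G, g ∞ = ∞ →
      ∃ a b : T, a ≠ 0 ∧ ∀ x : T, g (x : OnePoint T) = ((x * a + b : T) : OnePoint T) := by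
    intro g hg hgi
    obtain ⟨σ, rfl⟩ := exists_extP_of_fix_infty g hgi
    obtain ⟨a, b, ha, hab⟩ := (hH σ).mp hg
    exact ⟨a, b, ha, fun x => by rw [extP_coe, hab]⟩
  -- the element `t`
  have hi0 : (∞ : OnePoint T) ≠ ((0 : T) : OnePoint T) := OnePoint.infty_ne_coe _
  have hi1 : (∞ : OnePoint T) ≠ ((1 : T) : OnePoint T) := OnePoint.infty_ne_coe _
  have h01' : ((0 : T) : OnePoint T) ≠ ((1 : T) : OnePoint T) :=
    fun h => h01 (OnePoint.coe_injective h)
  obtain ⟨t, htG, ht1, ht2, ht3⟩ :=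
    h3 ∞ (0 : T) (1 : T) (0 : T) ∞ (1 : T) hi0 hi1 h01' hi0.symm h01' hi1
  have htt : t * t = 1 := by
    apply hs (t * t) (G.mul_mem htG htG) ∞ (0 : T) (1 : T) hi0 hi1 h01'
    · show t (t ∞) = ∞; rw [ht1, ht2]
    · show t (t _) = _; rw [ht2, ht1]
    · show t (t _) = _; rw [ht3, ht3]
  have htt' : ∀ p, t (t p) = p := fun p => by
    have := congrArg (fun σ : Equiv.Perm (OnePoint T) => σ p) htt
    exact this
  -- `t` on nonzero points
  have ht4 : ∀ x : T, x ≠ 0 → ∃ y : T, y ≠ 0 ∧ t (x : OnePoint T) = (y : OnePoint T) := by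
    intro x hx
    cases h : t (x : OnePoint T) with
    | infty =>
      exfalso
      rw [← ht2] at h
      exact hx (OnePoint.coe_injective (t.injective h))
    | coe y =>
      refine ⟨y, ?_, rfl⟩
      rintro rfl
      rw [← ht1] at h
      exact OnePoint.coe_ne_infty x (t.injective h)
  -- involutions of `G` with two fixed points are trivial
  have hinvol : ∀ g ∈ G, g * g = 1 → ∀ x y : OnePoint T, x ≠ y → g x = x → g y = y → g = 1 := by
    intro g hg hgg x y hxy hx hy
    obtain ⟨z, hzx, hzy, hz⟩ := invol_two_fix hodd g hgg x y hxy hx hy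
    exact hs g hg x y z hxy (Ne.symm hzx) (Ne.symm hzy) hx hy hz
  -- the multiplications `M_a`
  have hM : ∀ a : T, a ≠ 0 → ∃ M ∈ G, M ∞ = ∞ ∧
      ∀ x : T, M (x : OnePoint T) = ((x * a : T) : OnePoint T) := by
    intro a ha
    obtain ⟨σ, hσG, hσ⟩ := P1 a 0 ha
    refine ⟨extP σ, hσG, extP_infty σ, fun x => ?_⟩
    rw [extP_coe, hσ, add_zero]
  -- `t * M` is an involution as soon as it has a fixed point
  have hsq : ∀ a : T, a ≠ 0 → ∀ M ∈ G, M ∞ = ∞ →
      (∀ x : T, M (x : OnePoint T) = ((x * a : T) : OnePoint T)) →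
      ∀ x : T, x ≠ 0 → t ((x * a : T) : OnePoint T) = (x : OnePoint T) →
      (t * M) * (t * M) = 1 ∧ (t * M) ∞ = ((0 : T) : OnePoint T) ∧
        (t * M) (x : OnePoint T) = (x : OnePoint T) := by
    intro a ha M hMG hMi hM' x hx hfx
    have hsG : t * M ∈ G := G.mul_mem htG hMG
    have e1 : (t * M) ∞ = ((0 : T) : OnePoint T) := by
      show t (M ∞) = _; rw [hMi, ht1]
    have e2 : (t * M) ((0 : T) : OnePoint T) = ∞ := by
      show t (M _) = _; rw [hM', hzm, ht2]
    have e3 : (t * M) (x : OnePoint T) = (x : OnePoint T) := by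
      show t (M _) = _; rw [hM', hfx]
    have hx0 : ((0 : T) : OnePoint T) ≠ ((x : T) : OnePoint T) :=
      fun h => hx (OnePoint.coe_injective h).symm
    refine ⟨?_, e1, e3⟩
    apply hs _ (G.mul_mem hsG hsG) ∞ (0 : T) (x : T) hi0 (OnePoint.infty_ne_coe _) hx0
    · show (t * M) ((t * M) ∞) = ∞; rw [e1, e2]
    · show (t * M) ((t * M) _) = _; rw [e2, e1]
    · show (t * M) ((t * M) _) = _; rw [e3, e3]
  -- every `t * M_a` has a fixed point
  have hex : ∀ x : {x : T // x ≠ 0}, ∃ a : {a : T // a ≠ 0},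
      t ((x.1 * a.1 : T) : OnePoint T) = (x.1 : OnePoint T) := by
    rintro ⟨x, hx⟩
    obtain ⟨y, hy0, hy⟩ := ht4 x hx
    obtain ⟨x', hx1, hx2⟩ := hinv x hx
    have hxy : x * (x' * y) = y := by rw [← mul_assoc, hx1, one_mul]
    refine ⟨⟨x' * y, ?_⟩, ?_⟩
    · intro h
      apply hy0
      rw [h, hmz] at hxy
      exact hxy.symm
    · show t ((x * (x' * y) : T) : OnePoint T) = (x : OnePoint T)
      rw [hxy, ← hy, htt']
  choose f hf using hex
  have hfinj : Function.Injective f := by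
    intro x₁ x₂ h12
    by_contra hne
    obtain ⟨M, hMG, hMi, hM'⟩ := hM (f x₁).1 (f x₁).2
    obtain ⟨hss, e1, e3⟩ := hsq _ (f x₁).2 M hMG hMi hM' x₁.1 x₁.2 (hf x₁)
    have hf2 := hf x₂
    rw [← h12] at hf2
    obtain ⟨-, -, e4⟩ := hsq _ (f x₁).2 M hMG hMi hM' x₂.1 x₂.2 hf2
    have hx12 : ((x₁.1 : T) : OnePoint T) ≠ ((x₂.1 : T) : OnePoint T) :=
      fun h => hne (Subtype.ext (OnePoint.coe_injective h))
    have h1 := hinvol _ (G.mul_mem htG hMG) hss _ _ hx12 e3 e4
    rw [h1] at e1
    exact hi0 e1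
  have hfsurj : Function.Surjective f := Finite.injective_iff_surjective.mp hfinj
  -- `M_a t M_a = t`
  have hMtM : ∀ a : T, a ≠ 0 → ∀ M ∈ G, M ∞ = ∞ →
      (∀ x : T, M (x : OnePoint T) = ((x * a : T) : OnePoint T)) → ∀ p, M (t (M p)) = t p := by
    intro a ha M hMG hMi hM' p
    obtain ⟨x, hx⟩ := hfsurj ⟨a, ha⟩
    have hfx : t ((x.1 * a : T) : OnePoint T) = (x.1 : OnePoint T) := by
      have := hf x
      rw [hx] at this
      exact this
    obtain ⟨hss, -, -⟩ := hsq a ha M hMG hMi hM' x.1 x.2 hfx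
    have h1 : t (M (t (M p))) = p := by
      have := congrArg (fun σ : Equiv.Perm (OnePoint T) => σ p) hss
      exact this
    calc M (t (M p)) = t (t (M (t (M p)))) := (htt' _).symm
      _ = t p := by rw [h1]
  -- the two identities for the inversion
  have I2 : ∀ x a : T, x ≠ 0 → a ≠ 0 → ∀ y z : T, t (x : OnePoint T) = (y : OnePoint T) →
      t ((x * a : T) : OnePoint T) = (z : OnePoint T) → z * a = y := by
    intro x a _ ha y z hy hz
    obtain ⟨M, hMG, hMi, hM'⟩ := hM a ha
    have := hMtM a ha M hMG hMi hM' (x : OnePoint T)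
    rw [hM', hz, hM', hy] at this
    exact OnePoint.coe_injective this
  have I1 : ∀ a : T, a ≠ 0 → ∀ y : T, t (a : OnePoint T) = (y : OnePoint T) → y * a = 1 := by
    intro a ha y hy
    exact I2 1 a h01.symm ha 1 y ht3 (by rw [one_mul]; exact hy)
  -- commutativity
  have hcomm0 : ∀ x a : T, x ≠ 0 → a ≠ 0 → x * a = a * x := by
    intro x a hx ha
    have hxa : x * a ≠ 0 := by
      intro h
      obtain ⟨a', ha1, ha2⟩ := hinv a ha
      have h' : x = x * a * a' := by rw [mul_assoc, ha1, mul_one]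
      rw [h, hzm] at h'
      exact hx h'
    obtain ⟨y, hy0, hy⟩ := ht4 x hx
    obtain ⟨z, hz0, hz⟩ := ht4 (x * a) hxa
    have e1 : z * a = y := I2 x a hx ha y z hy hz
    have e2 : z * (x * a) = 1 := I1 (x * a) hxa z hz
    have e3 : y * x = 1 := I1 x hx y hy
    have e4 : z * (a * x) = 1 := by rw [← mul_assoc, e1, e3]
    obtain ⟨w, hw1, hw2⟩ := hinv z hz0
    calc x * a = w * (z * (x * a)) := by rw [← mul_assoc, hw2, one_mul]
      _ = w * (z * (a * x)) := by rw [e2, e4]
      _ = a * x := by rw [← mul_assoc, hw2, one_mul]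
  have hcomm : ∀ x a : T, x * a = a * x := by
    intro x a
    by_cases hx : x = 0
    · rw [hx, hzm, hmz]
    by_cases ha : a = 0
    · rw [ha, hzm, hmz]
    exact hcomm0 x a hx ha
  have hld : ∀ a b c : T, a * (b + c) = a * b + a * c := by
    intro a b c
    rw [hcomm a (b + c), hrd, hcomm b a, hcomm c a]
  -- the three inputs of `mob_eq`
  have P1' : ∀ a b : T, a ≠ 0 → ∃ σ ∈ G, σ ∞ = ∞ ∧
      ∀ x : T, σ (x : OnePoint T) = ((a * x + b : T) : OnePoint T) := by
    intro a b ha
    obtain ⟨σ, hσG, hσ⟩ := P1 a b ha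
    exact ⟨extP σ, hσG, extP_infty σ, fun x => by rw [extP_coe, hσ, hcomm]⟩
  have P2' : ∀ g ∈ G, g ∞ = ∞ →
      ∃ a b : T, a ≠ 0 ∧ ∀ x : T, g (x : OnePoint T) = ((a * x + b : T) : OnePoint T) := by
    intro g hg hgi
    obtain ⟨a, b, ha, hab⟩ := P2 g hg hgi
    exact ⟨a, b, ha, fun x => by rw [hab, hcomm]⟩
  have P3' : ∀ x y : T, x * y = 1 → t (x : OnePoint T) = (y : OnePoint T) := by
    intro x y hxy
    have hx : x ≠ 0 := by
      rintro rfl
      rw [hzm] at hxy
      exact h01 hxy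
    obtain ⟨z, hz0, hz⟩ := ht4 x hx
    have e := I1 x hx z hz
    have hzy : z = y := by
      calc z = z * (x * y) := by rw [hxy, mul_one]
        _ = y := by rw [← mul_assoc, e, one_mul]
    rw [hz, hzy]
  -- the field
  let cr : CommRing T :=
    CommRing.ofMinimalAxioms add_assoc zero_add neg_add_cancel mul_assoc hcomm one_mul hld
  have hisf : IsField T :=
    ⟨⟨0, 1, h01⟩, hcomm, fun {a} ha => by
      obtain ⟨b, hb, -⟩ := hinv a ha
      exact ⟨b, hb⟩⟩
  let F : Field T := hisf.toField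
  exact ⟨F, mob_eq G P1' P2' ⟨t, htG, ht1, ht2, fun x hx => P3' x x⁻¹ (mul_inv_cancel₀ hx)⟩⟩

/-- A sharply 3-transitive permutation group of `OnePoint T`, with `T` finite of even size, is
the Möbius group of a field structure on `T`. -/
theorem sharp3_core (G : Subgroup (Equiv.Perm (OnePoint T)))
    (h3 : ∀ a b c a' b' c' : OnePoint T, a ≠ b → a ≠ c → b ≠ c → a' ≠ b' → a' ≠ c' → b' ≠ c' →
      ∃ g ∈ G, g a = a' ∧ g b = b' ∧ g c = c')
    (hs : ∀ g ∈ G, ∀ a b c : OnePoint T, a ≠ b → a ≠ c → b ≠ c → g a = a → g b = b → g c = c →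
      g = 1)
    (hodd : Odd (Fintype.card (OnePoint T))) (h2 : 2 ≤ Fintype.card T) :
    ∃ (_ : Field T), G = mobGroup T := by
  classical
  let H : Subgroup (Equiv.Perm T) := G.comap (extHom T)
  have hHmem : ∀ σ : Equiv.Perm T, σ ∈ H ↔ extP σ ∈ G := fun σ => Iff.rfl
  have hsharp2 : ∀ σ : Equiv.Perm T, σ ∈ H → ∀ a b : T, a ≠ b → σ a = a → σ b = b → σ = 1 := by
    intro σ hσ a b hab ha hb
    apply extP_injective
    rw [extP_one]
    apply hs (extP σ) hσ ∞ (a : T) (b : T) (OnePoint.infty_ne_coe _) (OnePoint.infty_ne_coe _)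
      (fun h => hab (OnePoint.coe_injective h)) (extP_infty σ)
    · rw [extP_coe, ha]
    · rw [extP_coe, hb]
  have h2t : MulAction.IsMultiplyPretransitive H T 2 := by
    rw [MulAction.is_two_pretransitive_iff]
    intro a b c d hab hcd
    obtain ⟨g, hgG, hg1, hg2, hg3⟩ := h3 ∞ (a : T) (b : T) ∞ (c : T) (d : T)
      (OnePoint.infty_ne_coe _) (OnePoint.infty_ne_coe _)
      (fun h => hab (OnePoint.coe_injective h)) (OnePoint.infty_ne_coe _)
      (OnePoint.infty_ne_coe _) (fun h => hcd (OnePoint.coe_injective h))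
    obtain ⟨σ, rfl⟩ := exists_extP_of_fix_infty g hg1
    refine ⟨⟨σ, hgG⟩, ?_, ?_⟩
    · show σ a = c
      rw [extP_coe] at hg2
      exact OnePoint.coe_injective hg2
    · show σ b = d
      rw [extP_coe] at hg3
      exact OnePoint.coe_injective hg3
  have hsharp : ∀ x : Fin 2 ↪ T, MulAction.stabilizer H x = ⊥ := by
    intro x
    rw [eq_bot_iff]
    intro g hg
    rw [MulAction.mem_stabilizer_iff] at hg
    have h0 : (g : Equiv.Perm T) (x 0) = x 0 := by
      have := congrArg (fun y : Fin 2 ↪ T => y 0) hg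
      exact this
    have h1 : (g : Equiv.Perm T) (x 1) = x 1 := by
      have := congrArg (fun y : Fin 2 ↪ T => y 1) hg
      exact this
    have hne : x 0 ≠ x 1 := fun h => by
      have := x.injective h
      exact absurd this (by decide)
    rw [Subgroup.mem_bot]
    exact Subtype.ext (hsharp2 g.1 g.2 _ _ hne h0 h1)
  obtain ⟨nf, hnf⟩ := Cfsg.Agent.S0683.result H hsharp h2
  exact @core_nf T _ _ nf G h3 hs hodd (fun σ => (hHmem σ).symm.trans (hnf σ))

end NF

end Cfsg.Agent.H60
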