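import Mathlib
import Cfsg.Agent.H60.Sharp3Core

/-!
# Sharply 3-transitive groups of odd degree: abstract form (helper60)

`sharp3_abstract`: a group acting sharply 3-transitively on a finite set of size `q + 1`, `q`
even, is isomorphic to `PGL(2, F) ≅ PSL(2, F) ≅ SL(2, F)` for a field structure `F` on `Fin q`.
-/

set_option autoImplicit false

namespace Cfsg.Agent.H60

open OnePoint

theorem card_onePoint (T : Type*) [Fintype T] :
    Fintype.card (OnePoint T) = Fintype.card T + 1 :=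
  Fintype.card_option

/-- An embedding `Fin 3 ↪ α` from three distinct points. -/
def triEmb {α : Type*} (a b c : α) (hab : a ≠ b) (hac : a ≠ c) (hbc : b ≠ c) : Fin 3 ↪ α where
  toFun := ![a, b, c]
  inj' := by
    intro i j h
    fin_cases i <;> fin_cases j <;> simp_all

theorem triEmb_zero {α : Type*} (a b c : α) (hab : a ≠ b) (hac : a ≠ c) (hbc : b ≠ c) :
    triEmb a b c hab hac hbc 0 = a := rfl

theorem triEmb_one {α : Type*} (a b c : α) (hab : a ≠ b) (hac : a ≠ c) (hbc : b ≠ c) :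
    triEmb a b c hab hac hbc 1 = b := rfl

theorem triEmb_two {α : Type*} (a b c : α) (hab : a ≠ b) (hac : a ≠ c) (hbc : b ≠ c) :
    triEmb a b c hab hac hbc 2 = c := rfl

/-- A group acting sharply 3-transitively on a finite set of size `q + 1` with `q` even is
`PGL(2, F) ≅ PSL(2, F) ≅ SL(2, F)` for a field structure on `Fin q`. -/
theorem sharp3_abstract {G : Type*} [Group G] {Ω : Type*} [Fintype Ω] [MulAction G Ω]
    (h3 : ∀ a b c a' b' c' : Ω, a ≠ b → a ≠ c → b ≠ c → a' ≠ b' → a' ≠ c' → b' ≠ c' →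
      ∃ g : G, g • a = a' ∧ g • b = b' ∧ g • c = c')
    (hs : ∀ (g : G) (a b c : Ω), a ≠ b → a ≠ c → b ≠ c → g • a = a → g • b = b → g • c = c →
      g = 1)
    (q : ℕ) (hcard : Fintype.card Ω = q + 1) (hq : Even q) (hq2 : 2 ≤ q) :
    ∃ (_ : Field (Fin q)), Nonempty (G ≃* Matrix.ProjGenLinGroup (Fin 2) (Fin q)) ∧
      Nonempty (G ≃* Matrix.ProjectiveSpecialLinearGroup (Fin 2) (Fin q)) ∧
      Nonempty (G ≃* Matrix.SpecialLinearGroup (Fin 2) (Fin q)) := by
  classical
  have hc : Fintype.card Ω = Fintype.card (OnePoint (Fin q)) := by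
    rw [card_onePoint, Fintype.card_fin, hcard]
  let e : Ω ≃ OnePoint (Fin q) := Fintype.equivOfCardEq hc
  let φ : G →* Equiv.Perm (OnePoint (Fin q)) :=
    (e.permCongrHom : Equiv.Perm Ω →* Equiv.Perm (OnePoint (Fin q))).comp
      (MulAction.toPermHom G Ω)
  have hφ : ∀ (g : G) (p : OnePoint (Fin q)), φ g p = e (g • e.symm p) := fun g p => rfl
  let z0 : Fin q := ⟨0, by omega⟩
  let z1 : Fin q := ⟨1, by omega⟩
  have h01 : z0 ≠ z1 := by
    intro h
    have := congrArg Fin.val h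
    simp [z0, z1] at this
  have hφinj : Function.Injective φ := by
    rw [injective_iff_map_eq_one]
    intro g hg
    have hfix : ∀ p : OnePoint (Fin q), g • e.symm p = e.symm p := by
      intro p
      have h1 : φ g p = p := by rw [hg]; rfl
      rw [hφ] at h1
      exact (Equiv.eq_symm_apply e).mpr h1
    exact hs g (e.symm ∞) (e.symm (z0 : OnePoint (Fin q))) (e.symm (z1 : OnePoint (Fin q)))
      (e.symm.injective.ne (OnePoint.infty_ne_coe _)) (e.symm.injective.ne (OnePoint.infty_ne_coe _))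
      (e.symm.injective.ne (fun h => h01 (OnePoint.coe_injective h))) (hfix _) (hfix _) (hfix _)
  have h3₀ : ∀ a b c a' b' c' : OnePoint (Fin q), a ≠ b → a ≠ c → b ≠ c → a' ≠ b' → a' ≠ c' →
      b' ≠ c' → ∃ σ ∈ φ.range, σ a = a' ∧ σ b = b' ∧ σ c = c' := by
    intro a b c a' b' c' hab hac hbc hab' hac' hbc'
    obtain ⟨g, hg1, hg2, hg3⟩ := h3 (e.symm a) (e.symm b) (e.symm c) (e.symm a') (e.symm b')
      (e.symm c') (e.symm.injective.ne hab) (e.symm.injective.ne hac) (e.symm.injective.ne hbc)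
      (e.symm.injective.ne hab') (e.symm.injective.ne hac') (e.symm.injective.ne hbc')
    refine ⟨φ g, ⟨g, rfl⟩, ?_, ?_, ?_⟩
    · rw [hφ, hg1, Equiv.apply_symm_apply]
    · rw [hφ, hg2, Equiv.apply_symm_apply]
    · rw [hφ, hg3, Equiv.apply_symm_apply]
  have hs₀ : ∀ σ ∈ φ.range, ∀ a b c : OnePoint (Fin q), a ≠ b → a ≠ c → b ≠ c → σ a = a →
      σ b = b → σ c = c → σ = 1 := by
    rintro _ ⟨g, rfl⟩ a b c hab hac hbc ha hb hc
    rw [hφ] at ha hb hc
    have hg : g = 1 := hs g (e.symm a) (e.symm b) (e.symm c) (e.symm.injective.ne hab)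
      (e.symm.injective.ne hac) (e.symm.injective.ne hbc) ((Equiv.eq_symm_apply e).mpr ha)
      ((Equiv.eq_symm_apply e).mpr hb) ((Equiv.eq_symm_apply e).mpr hc)
    rw [hg, map_one]
  have hodd : Odd (Fintype.card (OnePoint (Fin q))) := by
    rw [card_onePoint, Fintype.card_fin]
    exact hq.add_one
  have h2 : 2 ≤ Fintype.card (Fin q) := by rw [Fintype.card_fin]; exact hq2
  obtain ⟨F, hF⟩ := sharp3_core φ.range h3₀ hs₀ hodd h2
  refine ⟨F, ?_⟩
  obtain ⟨ψ⟩ := nonempty_mobGroup_mulEquiv_pgl (K := Fin q)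
  have h2c : ringChar (Fin q) = 2 := by
    rw [FiniteField.even_card_iff_char_two, Fintype.card_fin]
    exact Nat.even_iff.mp hq
  obtain ⟨e1⟩ := nonempty_psl_mulEquiv_pgl_of_char_two (Fin q) h2c
  obtain ⟨e2⟩ := nonempty_sl_mulEquiv_psl_of_char_two (Fin q) h2c
  have ψ' : G ≃* Matrix.ProjGenLinGroup (Fin 2) (Fin q) :=
    (MonoidHom.ofInjective hφinj).trans ((MulEquiv.subgroupCongr hF).trans ψ)
  exact ⟨⟨ψ'⟩, ⟨ψ'.trans e1.symm⟩, ⟨(ψ'.trans e1.symm).trans e2.symm⟩⟩

end Cfsg.Agent.H60
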