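import Cfsg.Agent.H60.ZD8Comb
import Cfsg.Agent.H60.SylowQuot
import Mathlib.GroupTheory.Sylow
import Mathlib.GroupTheory.Perm.Cycle.Type
import Mathlib.GroupTheory.SpecificGroups.Cyclic

/-!
# No non-abelian simple group has Sylow 2-subgroups `Z₂ × D₈` (helper60)

Thompson's transfer lemma (the proof via the sign of the permutation action on cosets is the one
of `Cfsg.Agent.S0111`, copied here so that this file is self-contained), Burnside's fusion theorem
and extremal conjugation feed the combinatorial statement `zd_no_fusion`.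
-/

set_option autoImplicit false

namespace Cfsg.Agent.H60

open Equiv

/-- A fixed-point-free involution of a finite set with `2 * m` elements, `m` odd, is an odd
permutation. -/
theorem sign_eq_neg_one_of_fpf_involution {α : Type*} [Fintype α] [DecidableEq α] (σ : Perm α)
    (h2 : σ * σ = 1) (hfix : ∀ a, σ a ≠ a) (m : ℕ) (hm : Fintype.card α = 2 * m) (hodd : Odd m) :
    Perm.sign σ = -1 := by
  have hne : σ ≠ 1 := by
    intro h1
    have hpos : 0 < Fintype.card α := by
      rw [hm]; rcases hodd with ⟨k, rfl⟩; omega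
    obtain ⟨a⟩ := Fintype.card_pos_iff.mp hpos
    exact hfix a (by rw [h1]; rfl)
  have hord : orderOf σ = 2 := by
    apply orderOf_eq_prime
    · rw [pow_two]; exact h2
    · exact hne
  have hprime : (orderOf σ).Prime := by rw [hord]; exact Nat.prime_two
  obtain ⟨n, hn⟩ := Perm.cycleType_prime_order hprime
  rw [hord] at hn
  have hsupp : σ.support = Finset.univ := by
    ext a
    simp [Perm.mem_support, hfix a]
  have hsum : σ.cycleType.sum = Fintype.card α := by
    rw [Perm.sum_cycleType, hsupp, Finset.card_univ]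
  rw [hn, Multiset.sum_replicate, smul_eq_mul, hm] at hsum
  have hnm : n + 1 = m := by omega
  rw [Perm.sign_of_cycleType, hn, Multiset.sum_replicate, Multiset.card_replicate, smul_eq_mul, hnm]
  have : Odd (m * 2 + m) := by
    rcases hodd with ⟨k, rfl⟩
    exact ⟨3 * k + 1, by ring⟩
  exact this.neg_one_pow

/-- **Thompson's transfer lemma.** -/
theorem thompson_transfer {G : Type*} [Group G] [Finite G] (P : Sylow 2 G) (Q : Subgroup G)
    (hQP : Q ≤ (P : Subgroup G)) (hQi : Q.relIndex (P : Subgroup G) = 2) (u : G)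
    (hu : orderOf u = 2) (huQ : ∀ g : G, g * u * g⁻¹ ∉ Q) :
    ∃ M : Subgroup G, M.Normal ∧ M.index = 2 ∧ u ∉ M := by
  classical
  have : Fintype (G ⧸ Q) := Fintype.ofFinite _
  let s : G →* ℤˣ := (Perm.sign).comp (MulAction.toPermHom G (G ⧸ Q))
  have hidx : Q.index = 2 * (P : Subgroup G).index := by
    rw [← Subgroup.relIndex_mul_index hQP, hQi]
  have hodd : Odd (P : Subgroup G).index := by
    rw [← Nat.not_even_iff_odd, even_iff_two_dvd]
    have : Fact (Nat.Prime 2) := ⟨Nat.prime_two⟩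
    exact P.not_dvd_index
  have hsu : s u = -1 := by
    apply sign_eq_neg_one_of_fpf_involution _ _ _ (P : Subgroup G).index _ hodd
    · ext q
      simp only [MulAction.toPermHom_apply, Perm.coe_mul, Function.comp_apply,
        MulAction.toPerm_apply, Perm.coe_one, id_eq]
      rw [smul_smul]
      have : u * u = 1 := by rw [← pow_two, ← hu, pow_orderOf_eq_one]
      rw [this, one_smul]
    · intro q hq
      induction q using QuotientGroup.induction_on with
      | H g =>
        simp only [MulAction.toPermHom_apply, MulAction.toPerm_apply] at hq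
        rw [MulAction.Quotient.smul_mk, QuotientGroup.eq] at hq
        have h1 : g⁻¹ * u * (g⁻¹)⁻¹ ∈ Q := by
          have := Q.inv_mem hq
          simpa [mul_assoc] using this
        exact huQ g⁻¹ h1
    · rw [← hidx, Subgroup.index, Nat.card_eq_fintype_card]
  refine ⟨s.ker, inferInstance, ?_, ?_⟩
  · rw [Subgroup.index_ker]
    have hr : s.range = ⊤ := by
      rw [MonoidHom.range_eq_top]
      intro y
      rcases Int.units_eq_one_or y with rfl | rfl
      · exact ⟨1, map_one s⟩
      · exact ⟨u, hsu⟩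
    rw [hr, Subgroup.card_top, Nat.card_eq_fintype_card, Fintype.card_units_int]
  · rw [MonoidHom.mem_ker, hsu]
    decide

/-- Thompson's transfer lemma in a non-abelian simple group: an involution of a Sylow
`2`-subgroup `P` outside a maximal subgroup `Q` of `P` is conjugate into `Q`. -/
theorem thompson_transfer_simple {G : Type*} [Group G] [Finite G] [IsSimpleGroup G]
    (hG : ¬ IsMulCommutative G) (P : Sylow 2 G) (Q : Subgroup G) (hQP : Q ≤ (P : Subgroup G))
    (hQi : Q.relIndex (P : Subgroup G) = 2) (u : G) (hu : orderOf u = 2) :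
    ∃ g : G, g * u * g⁻¹ ∈ Q := by
  by_contra hcon
  push Not at hcon
  obtain ⟨M, hMn, hMi, -⟩ := thompson_transfer P Q hQP hQi u hu hcon
  rcases hMn.eq_bot_or_eq_top with h | h
  · rw [h, Subgroup.index_bot] at hMi
    haveI : Fact (Nat.Prime 2) := ⟨Nat.prime_two⟩
    have hcyc : IsCyclic G := isCyclic_of_prime_card hMi
    exact hG inferInstance
  · rw [h, Subgroup.index_top] at hMi; omega

/-- A `p`-element of the normalizer of a Sylow `p`-subgroup lies in the Sylow subgroup. -/
theorem mem_sylow_of_mem_normalizer_of_pow {G : Type*} [Group G] {p : ℕ} [Fact p.Prime]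
    (S : Sylow p G) (u : G) (hu : u ∈ Subgroup.normalizer ((S : Subgroup G) : Set G)) (j : ℕ)
    (huj : u ^ p ^ j = 1) : u ∈ (S : Subgroup G) := by
  have hz : IsPGroup p (Subgroup.zpowers u) := by
    rintro ⟨v, hv⟩
    obtain ⟨i, rfl⟩ := Subgroup.mem_zpowers_iff.mp hv
    refine ⟨j, Subtype.ext ?_⟩
    show (u ^ i) ^ p ^ j = 1
    rw [← zpow_natCast, ← zpow_mul, mul_comm, zpow_mul, zpow_natCast, huj, one_zpow]
  have hle : Subgroup.zpowers u ≤ Subgroup.normalizer ((S : Subgroup G) : Set G) := by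
    rw [Subgroup.zpowers_le]; exact hu
  have hsup : IsPGroup p ((S : Subgroup G) ⊔ Subgroup.zpowers u : Subgroup G) :=
    S.isPGroup'.to_sup_of_normal_left' hz hle
  have := S.is_maximal' hsup le_sup_left
  rw [← this]
  exact le_sup_right (a := (S : Subgroup G)) (Subgroup.mem_zpowers u)

/-- The normalizer of a Sylow `2`-subgroup `S ≅ Z₂ × D₈` centralizes `Z(S)`. -/
theorem zd_normalizer_centralizes_center {G : Type*} [Group G] [Finite G] (S : Sylow 2 G)
    (ι : ZD →* G) (hι : Function.Injective ι) (hιS : ∀ x, ι x ∈ (S : Subgroup G))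
    (hSι : ∀ s ∈ (S : Subgroup G), ∃ x, ι x = s) (n : G)
    (hn : n ∈ Subgroup.normalizer ((S : Subgroup G) : Set G)) (x : ZD)
    (hx : ∀ s : ZD, s * x = x * s) : n⁻¹ * ι x * n = ι x := by
  haveI : Fact (Nat.Prime 2) := ⟨Nat.prime_two⟩
  have hzc : ∀ s : ZD, s * zdZ = zdZ * s := by decide
  -- conjugation by `n⁻¹` and by `n` preserve `S`
  have hT : ∀ y : ZD, ∃ w : ZD, ι w = n⁻¹ * ι y * n := by
    intro y
    have hn' := Subgroup.inv_mem _ hn
    have := (Subgroup.mem_normalizer_iff.mp hn' (ι y)).mp (hιS y)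
    rw [inv_inv] at this
    exact hSι _ this
  have hT' : ∀ y : ZD, ∃ w : ZD, ι w = n * ι y * n⁻¹ := by
    intro y
    exact hSι _ ((Subgroup.mem_normalizer_iff.mp hn (ι y)).mp (hιS y))
  have hmul : ∀ v w : G, n⁻¹ * (v * w) * n = (n⁻¹ * v * n) * (n⁻¹ * w * n) := by
    intro v w; group
  -- Claim 1
  have h1 : n⁻¹ * ι (zdA ^ 2) * n = ι (zdA ^ 2) := by
    obtain ⟨s, hs⟩ := hT zdA
    have h : n⁻¹ * ι (zdA ^ 2) * n = ι (s ^ 2) := by
      rw [sq, sq, map_mul, map_mul, hmul, hs]
    have hsq : ∀ s : ZD, s ^ 2 = 1 ∨ s ^ 2 = zdA ^ 2 := by decide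
    rcases hsq s with h' | h'
    · exfalso
      rw [h', map_one] at h
      have h2 : ι (zdA ^ 2) = 1 := by
        have : ι (zdA ^ 2) = n * (n⁻¹ * ι (zdA ^ 2) * n) * n⁻¹ := by group
        rw [this, h]; group
      have h3 : zdA ^ 2 = (1 : ZD) := hι (h2.trans (map_one ι).symm)
      revert h3; decide
    · rw [h, h']
  -- Claim 2
  have h2 : n⁻¹ * ι zdZ * n = ι zdZ ∨ n⁻¹ * ι zdZ * n = ι (zdZ * zdA ^ 2) := by
    obtain ⟨w, hw⟩ := hT zdZ
    have hwc : ∀ s : ZD, s * w = w * s := by
      intro s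
      obtain ⟨s', hs'⟩ := hT' s
      apply hι
      have e1 : ι s = n⁻¹ * ι s' * n := by rw [hs']; group
      rw [map_mul, map_mul, hw, e1, ← hmul, ← hmul, ← map_mul, ← map_mul, hzc s']
    have hw2 : w ^ 2 = 1 := by
      apply hι
      rw [sq, map_mul, hw, ← hmul, ← map_mul, map_one]
      have : zdZ * zdZ = 1 := by decide
      rw [this, map_one]; group
    have hw1 : w ≠ 1 := by
      rintro rfl
      rw [map_one] at hw
      have h2 : ι zdZ = 1 := by
        have : ι zdZ = n * (n⁻¹ * ι zdZ * n) * n⁻¹ := by group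
        rw [this, ← hw]; group
      have h3 : zdZ = (1 : ZD) := hι (h2.trans (map_one ι).symm)
      revert h3; decide
    have hcl : ∀ w : ZD, (∀ s : ZD, s * w = w * s) → w ^ 2 = 1 → w ≠ 1 →
        w = zdZ ∨ w = zdA ^ 2 ∨ w = zdZ * zdA ^ 2 := by decide
    rcases hcl w hwc hw2 hw1 with rfl | rfl | rfl
    · exact Or.inl hw.symm
    · exfalso
      have h3 : n⁻¹ * ι zdZ * n = n⁻¹ * ι (zdA ^ 2) * n := by rw [← hw, h1]
      have h4 : ι zdZ = ι (zdA ^ 2) := by
        have e1 : ι zdZ = n * (n⁻¹ * ι zdZ * n) * n⁻¹ := by group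
        rw [e1, h3]; group
      have h5 := hι h4
      revert h5; decide
    · exact Or.inr hw.symm
  -- Claim 3
  have h3 : n⁻¹ * ι zdZ * n = ι zdZ := by
    rcases h2 with h | h
    · exact h
    · exfalso
      have hback : n⁻¹ * ι (zdZ * zdA ^ 2) * n = ι zdZ := by
        rw [map_mul, hmul, h, h1, ← map_mul]
        congr 1
      have hpow : ∀ k : ℕ, (n ^ k)⁻¹ * ι zdZ * n ^ k =
          if Even k then ι zdZ else ι (zdZ * zdA ^ 2) := by
        intro k
        induction k with
        | zero => simp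
        | succ k ih =>
          have e1 : (n ^ (k + 1))⁻¹ * ι zdZ * n ^ (k + 1) =
              n⁻¹ * ((n ^ k)⁻¹ * ι zdZ * n ^ k) * n := by
            rw [pow_succ]; group
          rw [e1, ih]
          by_cases hk : Even k
          · have hk' : ¬ Even (k + 1) := by
              rw [Nat.even_add_one]; exact not_not.mpr hk
            rw [if_pos hk, if_neg hk', h]
          · have hk' : Even (k + 1) := by
              rw [Nat.even_add_one]; exact hk
            rw [if_neg hk, if_pos hk', hback]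
      have hm : orderOf n ≠ 0 := (orderOf_pos n).ne'
      obtain ⟨j, r, hr, hjr⟩ := Nat.exists_eq_two_pow_mul_odd hm
      have hu : (n ^ r) ^ 2 ^ j = 1 := by
        rw [← pow_mul, mul_comm, ← hjr, pow_orderOf_eq_one]
      have hmem : n ^ r ∈ (S : Subgroup G) :=
        mem_sylow_of_mem_normalizer_of_pow S (n ^ r) (Subgroup.pow_mem _ hn r) j hu
      obtain ⟨y, hy⟩ := hSι _ hmem
      have hcomm : (n ^ r)⁻¹ * ι zdZ * n ^ r = ι zdZ := by
        rw [← hy, ← map_inv, ← map_mul, ← map_mul]
        congr 1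
        rw [mul_assoc, ← hzc y, ← mul_assoc, inv_mul_cancel, one_mul]
      have hodd : ¬ Even r := Nat.not_even_iff_odd.mpr hr
      have h4 := hpow r
      rw [if_neg hodd, hcomm] at h4
      have h5 := hι h4
      revert h5; decide
  have hcen : ∀ x : ZD, (∀ s : ZD, s * x = x * s) →
      x = 1 ∨ x = zdZ ∨ x = zdA ^ 2 ∨ x = zdZ * zdA ^ 2 := by decide
  rcases hcen x hx with rfl | rfl | rfl | rfl
  · rw [map_one]; group
  · exact h3
  · exact h1
  · rw [map_mul, hmul, h3, h1]

/-- **No non-abelian finite simple group has Sylow `2`-subgroups isomorphic to `Z₂ × D₈`.** -/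
theorem no_simple_sylow_zd {G : Type*} [Group G] [Finite G] [IsSimpleGroup G]
    (hG : ¬ IsMulCommutative G) (S : Sylow 2 G) (e : (S : Subgroup G) ≃* ZD) : False := by
  haveI : Fact (Nat.Prime 2) := ⟨Nat.prime_two⟩
  let ι : ZD →* G := (S : Subgroup G).subtype.comp e.symm.toMonoidHom
  have hι : Function.Injective ι := (Subgroup.subtype_injective _).comp e.symm.injective
  have hιS : ∀ x, ι x ∈ (S : Subgroup G) := fun x => (e.symm x).2
  have hSι : ∀ s ∈ (S : Subgroup G), ∃ x, ι x = s := by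
    intro s hs
    refine ⟨e ⟨s, hs⟩, ?_⟩
    show ((e.symm (e ⟨s, hs⟩) : (S : Subgroup G)) : G) = s
    rw [MulEquiv.symm_apply_apply]
  have hconjinj : ∀ (g v w : G), g * v * g⁻¹ = g * w * g⁻¹ → v = w := by
    intro g v w h
    have e1 : v = g⁻¹ * (g * v * g⁻¹) * g := by group
    rw [e1, h]; group
  apply zd_no_fusion (fun x y => IsConj (ι x) (ι y))
  · intro x y h; exact h.symm
  · intro x y w h1 h2; exact h1.trans h2
  · intro s x
    rw [isConj_iff]
    exact ⟨ι s, by rw [map_mul, map_mul, map_inv]⟩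
  · intro x y h hx
    obtain ⟨g, hg⟩ := isConj_iff.mp h
    apply hι
    rw [map_pow, ← hg, conj_pow, ← map_pow, hx, map_one]; simp
  · intro x y h hy
    obtain ⟨g, hg⟩ := isConj_iff.mp h
    apply hι
    rw [hy, map_one] at hg
    rw [map_one]
    apply hconjinj g
    rw [hg]; group
  · -- Thompson transfer
    intro M hM u hu2 hu1 huM
    have hrange : (⊤ : Subgroup ZD).map ι = (S : Subgroup G) := by
      ext s
      constructor
      · rintro ⟨x, _, rfl⟩; exact hιS x
      · intro hs
        obtain ⟨x, rfl⟩ := hSι s hs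
        exact ⟨x, Subgroup.mem_top _, rfl⟩
    have hQi : (M.map ι).relIndex (S : Subgroup G) = 2 := by
      rw [← hrange, Subgroup.relIndex_map_map_of_injective _ _ hι, Subgroup.relIndex_top_right, hM]
    have hQS : M.map ι ≤ (S : Subgroup G) := by
      rintro _ ⟨x, _, rfl⟩; exact hιS x
    have hord : orderOf (ι u) = 2 := by
      rw [orderOf_injective ι hι]; exact orderOf_eq_prime hu2 hu1
    obtain ⟨g, hg⟩ := thompson_transfer_simple hG S (M.map ι) hQS hQi (ι u) hord
    obtain ⟨v, hv, hgv⟩ := hg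
    exact ⟨v, hv, isConj_iff.mpr ⟨g, hgv.symm⟩⟩
  · -- Burnside
    intro x y hx hy h
    obtain ⟨g, hg⟩ := isConj_iff.mp h
    have hcx : ι x ∈ Subgroup.centralizer ((S : Subgroup G) : Set G) := by
      rw [Subgroup.mem_centralizer_iff]
      intro s hs
      obtain ⟨w, rfl⟩ := hSι s hs
      rw [← map_mul, ← map_mul, hx w]
    have hcy : (g⁻¹)⁻¹ * ι x * g⁻¹ ∈ Subgroup.centralizer ((S : Subgroup G) : Set G) := by
      rw [inv_inv, hg, Subgroup.mem_centralizer_iff]
      intro s hs
      obtain ⟨w, rfl⟩ := hSι s hs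
      rw [← map_mul, ← map_mul, hy w]
    obtain ⟨n, hn, hnx⟩ := S.conj_eq_normalizer_conj_of_mem_centralizer (ι x) g⁻¹ hcx hcy
    rw [inv_inv, hg, zd_normalizer_centralizes_center S ι hι hιS hSι n hn x hx] at hnx
    exact (hι hnx).symm
  · -- extremal conjugation
    intro t c hc h
    obtain ⟨h0, hh0⟩ := isConj_iff.mp h
    have hSK : (S : Subgroup G) ≤ Subgroup.centralizer ({ι c} : Set G) := by
      intro s hs
      obtain ⟨w, rfl⟩ := hSι s hs
      rw [Subgroup.mem_centralizer_iff]
      intro v hv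
      rw [Set.mem_singleton_iff] at hv
      rw [hv, ← map_mul, ← map_mul, hc w]
    have hAK : ((Subgroup.centralizer ({t} : Set ZD)).map ι).map (MulAut.conj h0).toMonoidHom ≤
        Subgroup.centralizer ({ι c} : Set G) := by
      rintro _ ⟨_, ⟨x, hx, rfl⟩, rfl⟩
      rw [Subgroup.mem_centralizer_iff]
      intro v hv
      rw [Set.mem_singleton_iff] at hv
      have hxt : t * x = x * t := (Subgroup.mem_centralizer_iff.mp hx) t rfl
      show v * (h0 * ι x * h0⁻¹) = (h0 * ι x * h0⁻¹) * v
      rw [hv, ← hh0]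
      calc h0 * ι t * h0⁻¹ * (h0 * ι x * h0⁻¹) = h0 * (ι t * ι x) * h0⁻¹ := by group
        _ = h0 * (ι x * ι t) * h0⁻¹ := by rw [← map_mul, hxt, map_mul]
        _ = h0 * ι x * h0⁻¹ * (h0 * ι t * h0⁻¹) := by group
    have hA2 : IsPGroup 2
        (((Subgroup.centralizer ({t} : Set ZD)).map ι).map (MulAut.conj h0).toMonoidHom) := by
      apply IsPGroup.map
      apply S.isPGroup'.to_le
      rintro _ ⟨x, _, rfl⟩; exact hιS x
    obtain ⟨k, hk, hle⟩ := exists_smul_sylow_ge _ S hSK _ hAK hA2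
    have hkc : ι c * k = k * ι c := (Subgroup.mem_centralizer_iff.mp hk) (ι c) rfl
    have hex : ∀ x : ZD, x * t = t * x → ∃ y : ZD, ι y = (k⁻¹ * h0) * ι x * (k⁻¹ * h0)⁻¹ := by
      intro x hx
      have hxA : h0 * ι x * h0⁻¹ ∈
          ((Subgroup.centralizer ({t} : Set ZD)).map ι).map (MulAut.conj h0).toMonoidHom := by
        refine ⟨ι x, ⟨x, ?_, rfl⟩, rfl⟩
        rw [SetLike.mem_coe, Subgroup.mem_centralizer_iff]
        intro v hv
        rw [Set.mem_singleton_iff] at hv
        rw [hv]; exact hx.symm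
      have h1 := hle hxA
      rw [Sylow.coe_subgroup_smul] at h1
      obtain ⟨s, hs, hsx⟩ := h1
      have hsx' : k * s * k⁻¹ = h0 * ι x * h0⁻¹ := hsx
      obtain ⟨y, hy⟩ := hSι s hs
      refine ⟨y, ?_⟩
      rw [hy]
      have : (k⁻¹ * h0) * ι x * (k⁻¹ * h0)⁻¹ = k⁻¹ * (h0 * ι x * h0⁻¹) * k := by group
      rw [this, ← hsx']; group
    classical
    let φ : ZD → ZD := fun x => if hx : x * t = t * x then Classical.choose (hex x hx) else 1
    have hφ : ∀ x : ZD, x * t = t * x → ι (φ x) = (k⁻¹ * h0) * ι x * (k⁻¹ * h0)⁻¹ := by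
      intro x hx
      simp only [φ, dif_pos hx]
      exact Classical.choose_spec (hex x hx)
    refine ⟨φ, ?_, ?_, ?_, ?_⟩
    · apply hι
      rw [hφ t rfl]
      have : (k⁻¹ * h0) * ι t * (k⁻¹ * h0)⁻¹ = k⁻¹ * (h0 * ι t * h0⁻¹) * k := by group
      rw [this, hh0, mul_assoc, hkc, ← mul_assoc, inv_mul_cancel, one_mul]
    · intro x hx
      rw [isConj_iff]
      exact ⟨k⁻¹ * h0, (hφ x hx).symm⟩
    · intro x y hx hy
      have hxy : x * y * t = t * (x * y) := by rw [mul_assoc, hy, ← mul_assoc, hx, mul_assoc]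
      apply hι
      rw [map_mul, hφ _ hxy, hφ x hx, hφ y hy, map_mul]; group
    · intro x y hx hy hxy
      apply hι
      apply hconjinj (k⁻¹ * h0)
      rw [← hφ x hx, ← hφ y hy, hxy]

end Cfsg.Agent.H60
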