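import Cfsg.Agent.H60.V4Count
import Cfsg.Agent.H60.ZD8Fusion

/-!
# A group of order 60 with four-group centralizers of involutions is `A₅` (helper60)
-/

set_option autoImplicit false

namespace Cfsg.Agent.H60

open Subgroup

/-- Under `V4Hyp`, a group of order `60` in which the centralizer of an involution is not normal
is isomorphic to `A₅` (via the action on its five Sylow `2`-subgroups). -/
theorem iso_A5_of_V4Hyp {G : Type*} [Group G] [Finite G] (H : V4Hyp G) (x : G) (hx1 : x ≠ 1)
    (hxx : x * x = 1) (hcard : Nat.card G = 60)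
    (hVn : ¬ (centralizer ({x} : Set G)).Normal) :
    Nonempty (G ≃* alternatingGroup (Fin 5)) := by
  classical
  have hp2 : Fact (Nat.Prime 2) := ⟨Nat.prime_two⟩
  have hV4 : Nat.card (centralizer ({x} : Set G)) = 4 := H.card4 x hx1 hxx
  have hxinv : x⁻¹ = x := inv_eq_of_mul_eq_one_left hxx
  -- V is commutative
  have hVcomm : ∀ a ∈ centralizer ({x} : Set G), ∀ b ∈ centralizer ({x} : Set G),
      a * b = b * a := by
    intro a ha b hb
    rw [mem_centralizer_singleton] at ha hb
    have h1 := H.exp2 x hx1 hxx a ha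
    have h2 := H.exp2 x hx1 hxx b hb
    have h3 := H.exp2 x hx1 hxx (a * b) (by rw [← mul_assoc, ha, mul_assoc, hb, mul_assoc])
    calc a * b = (a * b)⁻¹ := (inv_eq_of_mul_eq_one_left h3).symm
      _ = b⁻¹ * a⁻¹ := mul_inv_rev a b
      _ = b * a := by rw [inv_eq_of_mul_eq_one_left h2, inv_eq_of_mul_eq_one_left h1]
  -- an element `y` of `V` other than `1`, `x`
  have hordx : orderOf x = 2 := orderOf_eq_prime (by rw [pow_two]; exact hxx) hx1
  have hzle : zpowers x ≤ centralizer ({x} : Set G) := by
    rw [zpowers_le, mem_centralizer_singleton]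
  have hzlt : zpowers x < centralizer ({x} : Set G) := by
    refine lt_of_le_of_ne hzle ?_
    intro h
    have h1 : Nat.card (zpowers x) = Nat.card (centralizer ({x} : Set G)) := by rw [h]
    rw [Nat.card_zpowers, hordx, hV4] at h1
    omega
  obtain ⟨y, hyV, hyz⟩ := SetLike.exists_of_lt hzlt
  have hy1 : y ≠ 1 := fun h => hyz (h ▸ one_mem _)
  have hyx : y ≠ x := fun h => hyz (h ▸ mem_zpowers x)
  have hxy : x * y = y * x := (mem_centralizer_singleton x y).mp hyV
  have hyy : y * y = 1 := H.exp2 x hx1 hxx y hxy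
  have hyinv : y⁻¹ = y := inv_eq_of_mul_eq_one_left hyy
  -- `C(y) = V`
  have hCy : centralizer ({y} : Set G) = centralizer ({x} : Set G) := by
    symm
    apply Subgroup.eq_of_le_of_card_ge
    · intro c hc
      rw [mem_centralizer_singleton]
      exact hVcomm y hyV c hc
    · rw [H.card4 y hy1 hyy, hV4]
  -- `g ∈ N(V) \ V`
  obtain ⟨g, hg⟩ := H.conj x y hx1 hxx hy1 hyy
  have hgN : g ∈ normalizer ((centralizer ({x} : Set G) : Subgroup G) : Set G) := by
    rw [mem_normalizer_iff]
    intro h
    have e1 := mem_centralizer_conj_iff g x (g * h * g⁻¹)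
    rw [hg, hCy] at e1
    have e2 : g⁻¹ * (g * h * g⁻¹) * g = h := by group
    rw [e2] at e1
    exact e1.symm
  have hgV : g ∉ centralizer ({x} : Set G) := by
    intro h
    rw [mem_centralizer_singleton] at h
    apply hyx
    rw [← hg, ← h]; group
  -- the Sylow subgroup
  have hfac : (Nat.card G).factorization 2 = 2 := by
    rw [hcard]
    have h1 : 2 ≤ (60 : ℕ).factorization 2 :=
      (Nat.prime_two.pow_dvd_iff_le_factorization (by norm_num)).mp (by norm_num)
    have h2 : ¬ 3 ≤ (60 : ℕ).factorization 2 := fun h => by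
      have := (Nat.prime_two.pow_dvd_iff_le_factorization (by norm_num : (60 : ℕ) ≠ 0)).mpr h
      norm_num at this
    omega
  obtain ⟨P, hP⟩ : ∃ P : Sylow 2 G, (P : Subgroup G) = centralizer ({x} : Set G) :=
    ⟨Sylow.ofCard (centralizer ({x} : Set G)) (by rw [hV4, hfac]; norm_num), Sylow.coe_ofCard _ _⟩
  have hn := Sylow.card_eq_index_normalizer P
  have hNcard : Nat.card (normalizer ((P : Subgroup G) : Set G)) *
      (normalizer ((P : Subgroup G) : Set G)).index = 60 := by
    rw [Subgroup.card_mul_index, hcard]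
  have h4dvd : 4 ∣ Nat.card (normalizer ((P : Subgroup G) : Set G)) := by
    rw [← hV4, ← hP]; exact Subgroup.card_dvd_of_le Subgroup.le_normalizer
  have hN4 : Nat.card (normalizer ((P : Subgroup G) : Set G)) ≠ 4 := by
    intro h
    have h1 : (P : Subgroup G) = normalizer ((P : Subgroup G) : Set G) :=
      Subgroup.eq_of_le_of_card_ge Subgroup.le_normalizer (by rw [h, hP, hV4])
    apply hgV
    rw [← hP, h1, hP]
    exact hgN
  have hN60 : Nat.card (normalizer ((P : Subgroup G) : Set G)) ≠ 60 := by
    intro h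
    apply hVn
    have h1 : normalizer ((P : Subgroup G) : Set G) = ⊤ :=
      Subgroup.eq_top_of_card_eq _ (h.trans hcard.symm)
    rw [← hP]
    exact normalizer_eq_top_iff.mp h1
  -- the kernel of the action on Sylow subgroups
  have hK1 : ∀ k : G, (∀ Q : Sylow 2 G, k • Q = Q) → k * k = 1 → k = 1 := by
    intro k hk hkk
    by_contra hk1
    apply hVn
    have hall : ∀ w : G, w ≠ 1 → w * w = 1 → w ∈ centralizer ({x} : Set G) := by
      intro w hw1 hww
      obtain ⟨a, ha⟩ := H.conj k w hk1 hkk hw1 hww
      have h1 : k ∈ ((a⁻¹ • P : Sylow 2 G) : Subgroup G) := by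
        apply mem_sylow_of_mem_normalizer_of_pow _ k
          (Sylow.smul_eq_iff_mem_normalizer.mp (hk _)) 1
        rw [pow_one, pow_two]; exact hkk
      rw [Sylow.coe_subgroup_smul] at h1
      obtain ⟨s, hs, hks⟩ := h1
      have hks' : a⁻¹ * s * a = k := by simpa using hks
      have hs' : s = w := by
        rw [← ha, ← hks']; group
      rw [← hs', ← hP]
      exact hs
    refine ⟨fun v hv h => ?_⟩
    by_cases hv1 : v = 1
    · rw [hv1]; simp
    · have hvv : v * v = 1 := H.exp2 x hx1 hxx v ((mem_centralizer_singleton x v).mp hv)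
      apply hall
      · intro h1; apply hv1
        have : v = h⁻¹ * (h * v * h⁻¹) * h := by group
        rw [this, h1]; group
      · calc h * v * h⁻¹ * (h * v * h⁻¹) = h * (v * v) * h⁻¹ := by group
          _ = 1 := by rw [hvv]; group
  have hmem : ∀ k : G, k ∈ (MulAction.toPermHom G (Sylow 2 G)).ker ↔
      ∀ Q : Sylow 2 G, k • Q = Q := by
    intro k
    rw [MonoidHom.mem_ker]
    constructor
    · intro h Q
      have := congrArg (fun σ : Equiv.Perm (Sylow 2 G) => σ Q) h
      simpa using this
    · intro h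
      apply Equiv.ext
      intro Q
      simpa using h Q
  have hfpf : ∀ u : G, u ≠ 1 → u * u = 1 →
      ∀ k ∈ (MulAction.toPermHom G (Sylow 2 G)).ker, u * k * u⁻¹ = k⁻¹ := by
    intro u hu1 huu
    apply fpf_inv _ u huu
    · intro k hk
      exact (MonoidHom.normal_ker _).conj_mem k hk u
    · intro k hk hfix
      have h1 : u * k = k * u := mul_inv_eq_iff_eq_mul.mp hfix
      exact hK1 k ((hmem k).mp hk) (H.exp2 u hu1 huu k h1)
  have hker : ∀ k : G, (∀ Q : Sylow 2 G, k • Q = Q) → k = 1 := by
    intro k hk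
    have hkK := (hmem k).mpr hk
    have hxy1 : x * y ≠ 1 := by
      intro h
      apply hyx
      have := eq_inv_of_mul_eq_one_right h
      rw [this, hxinv]
    have hxyxy : (x * y) * (x * y) = 1 :=
      H.exp2 x hx1 hxx (x * y) (by
        calc x * (x * y) = x * (y * x) := by rw [hxy]
          _ = x * y * x := by rw [mul_assoc])
    have e1 := hfpf x hx1 hxx k hkK
    have e2 := hfpf y hy1 hyy k hkK
    have e3 := hfpf (x * y) hxy1 hxyxy k hkK
    have e4 : (x * y) * k * (x * y)⁻¹ = k := by
      calc (x * y) * k * (x * y)⁻¹ = x * (y * k * y⁻¹) * x⁻¹ := by group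
        _ = x * k⁻¹ * x⁻¹ := by rw [e2]
        _ = (x * k * x⁻¹)⁻¹ := by group
        _ = k := by rw [e1, inv_inv]
    apply hK1 k hk
    rw [e4] at e3
    calc k * k = k * k⁻¹ := by rw [← e3]
      _ = 1 := mul_inv_cancel k
  have hφ : Function.Injective (MulAction.toPermHom G (Sylow 2 G)) := by
    rw [injective_iff_map_eq_one]
    intro k hk
    exact hker k ((hmem k).mp (MonoidHom.mem_ker.mpr hk))
  -- the number of Sylow subgroups is 5
  have hn5 : Nat.card (Sylow 2 G) = 5 := by
    have hle : Nat.card G ≤ Nat.card (Equiv.Perm (Sylow 2 G)) :=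
      Nat.card_le_card_of_injective _ hφ
    rw [Nat.card_perm, hcard, hn] at hle
    rw [hn]
    obtain ⟨j, hj⟩ := h4dvd
    rw [hj] at hNcard hN4 hN60
    have h15 : j * (normalizer ((P : Subgroup G) : Set G)).index = 15 := by
      have : 4 * (j * (normalizer ((P : Subgroup G) : Set G)).index) = 60 := by
        rw [← mul_assoc]; exact hNcard
      omega
    generalize (normalizer ((P : Subgroup G) : Set G)).index = i at *
    have hj15 : j ≤ 15 := Nat.le_of_dvd (by norm_num) (Dvd.intro i h15)
    interval_cases j <;> try omega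
    · have hi : i = 3 := by omega
      rw [hi] at hle
      exact absurd hle (by decide)
  -- conclusion
  have h120 : Nat.card (Equiv.Perm (Fin 5)) = 120 := by
    rw [Nat.card_perm, Nat.card_fin]; rfl
  let e : Sylow 2 G ≃ Fin 5 := (Finite.equivFin (Sylow 2 G)).trans (finCongr hn5)
  have hψ : Function.Injective
      ((e.permCongrHom : Equiv.Perm (Sylow 2 G) ≃* Equiv.Perm (Fin 5)).toMonoidHom.comp
        (MulAction.toPermHom G (Sylow 2 G))) := by
    rw [MonoidHom.coe_comp]
    exact (e.permCongrHom).injective.comp hφ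
  have hrange : Nat.card ((e.permCongrHom : Equiv.Perm (Sylow 2 G) ≃* Equiv.Perm (Fin 5)).toMonoidHom.comp
        (MulAction.toPermHom G (Sylow 2 G))).range = 60 := by
    rw [← hcard]
    exact (Nat.card_congr (MonoidHom.ofInjective hψ).toEquiv).symm
  have hidx : ((e.permCongrHom : Equiv.Perm (Sylow 2 G) ≃* Equiv.Perm (Fin 5)).toMonoidHom.comp
        (MulAction.toPermHom G (Sylow 2 G))).range.index = 2 := by
    have := Subgroup.card_mul_index ((e.permCongrHom :
      Equiv.Perm (Sylow 2 G) ≃* Equiv.Perm (Fin 5)).toMonoidHom.comp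
        (MulAction.toPermHom G (Sylow 2 G))).range
    rw [hrange, h120] at this
    omega
  have hA := Equiv.Perm.eq_alternatingGroup_of_index_eq_two hidx
  exact ⟨(MonoidHom.ofInjective hψ).trans (MulEquiv.subgroupCongr hA)⟩

end Cfsg.Agent.H60
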