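import Cfsg.Agent.H60.V4Gen

/-!
# Involution with centralizer of order 4: the case `8 ∣ |G|` (helper60)

If `x` is an involution of a finite group `G` with `|C_G(x)| = 4` and `8 ∣ |G|`, then `G` has a normal
subgroup of exponent `2` and order `2` or `4`: the normal closure of the central involution `z` of
a Sylow `2`-subgroup containing `x` (any two conjugates of `z` commute).
-/

set_option autoImplicit false

namespace Cfsg.Agent.H60

open Subgroup

/-- A nontrivial normal subgroup of exponent `2` has order `2` or `4` if some involution has a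
centralizer of order `4`. -/
theorem card_two_or_four_of_normal_exp_two {G : Type*} [Group G] [Finite G] (x : G)
    (hxx : x * x = 1) (hC4 : Nat.card (centralizer ({x} : Set G)) = 4)
    (E : Subgroup G) (hEn : E.Normal) (hE2 : ∀ e ∈ E, e * e = 1) (hEne : E ≠ ⊥) :
    Nat.card E = 2 ∨ Nat.card E = 4 := by
  classical
  have : Fact (Nat.Prime 2) := ⟨Nat.prime_two⟩
  have hcomm : ∀ a ∈ E, ∀ b ∈ E, a * b = b * a := by
    intro a ha b hb
    have h1 := hE2 (a * b) (E.mul_mem ha hb)
    have h2 := hE2 a ha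
    have h3 := hE2 b hb
    calc a * b = (a * b)⁻¹ := (inv_eq_of_mul_eq_one_left h1).symm
      _ = b⁻¹ * a⁻¹ := mul_inv_rev a b
      _ = b * a := by rw [inv_eq_of_mul_eq_one_left h3, inv_eq_of_mul_eq_one_left h2]
  have hEp : IsPGroup 2 E := by
    intro e
    refine ⟨1, Subtype.ext ?_⟩
    show (e.1) ^ 2 ^ 1 = 1
    rw [pow_one, pow_two]; exact hE2 e.1 e.2
  obtain ⟨k, hk⟩ := IsPGroup.iff_card.mp hEp
  have hE1 : Nat.card E ≠ 1 := fun h => hEne (Subgroup.card_eq_one.mp h)
  have hle : Nat.card E ≤ 4 := by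
    by_cases hxE : x ∈ E
    · have hEV : E ≤ centralizer ({x} : Set G) := by
        intro e he
        rw [mem_centralizer_singleton]
        exact hcomm x hxE e he
      calc Nat.card E ≤ Nat.card (centralizer ({x} : Set G)) := Subgroup.card_le_of_le hEV
        _ = 4 := hC4
    · have hD2 : Nat.card (E ⊓ centralizer ({x} : Set G) : Subgroup G) ≤ 2 := by
        have hDV : E ⊓ centralizer ({x} : Set G) ≤ centralizer ({x} : Set G) := inf_le_right
        have hdvd : Nat.card (E ⊓ centralizer ({x} : Set G) : Subgroup G) ∣ 4 :=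
          hC4 ▸ Subgroup.card_dvd_of_le hDV
        have hne4 : Nat.card (E ⊓ centralizer ({x} : Set G) : Subgroup G) ≠ 4 := by
          intro h4
          have h5 : E ⊓ centralizer ({x} : Set G) = centralizer ({x} : Set G) :=
            Subgroup.eq_of_le_of_card_ge hDV (by rw [h4, hC4])
          apply hxE
          have hxD : x ∈ E ⊓ centralizer ({x} : Set G) := by
            rw [h5, mem_centralizer_singleton]
          exact hxD.1
        have h4 : Nat.card (E ⊓ centralizer ({x} : Set G) : Subgroup G) ≤ 4 :=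
          Nat.le_of_dvd (by norm_num) hdvd
        generalize Nat.card (E ⊓ centralizer ({x} : Set G) : Subgroup G) = n at *
        interval_cases n <;> simp_all
      let τ : E →* E := MonoidHom.mk'
        (fun e => ⟨e.1 * (x * e.1 * x⁻¹), E.mul_mem e.2 (hEn.conj_mem e.1 e.2 x)⟩) (by
          intro a b
          apply Subtype.ext
          show (a.1 * b.1) * (x * (a.1 * b.1) * x⁻¹) =
            (a.1 * (x * a.1 * x⁻¹)) * (b.1 * (x * b.1 * x⁻¹))
          have hc := hcomm b.1 b.2 (x * a.1 * x⁻¹) (hEn.conj_mem a.1 a.2 x)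
          calc (a.1 * b.1) * (x * (a.1 * b.1) * x⁻¹)
              = a.1 * (b.1 * (x * a.1 * x⁻¹)) * (x * b.1 * x⁻¹) := by group
            _ = a.1 * ((x * a.1 * x⁻¹) * b.1) * (x * b.1 * x⁻¹) := by rw [hc]
            _ = _ := by group)
      have hτ : ∀ e : E, (τ e).1 = e.1 * (x * e.1 * x⁻¹) := fun e => rfl
      have hkermem : ∀ k : τ.ker, k.1.1 ∈ E ⊓ centralizer ({x} : Set G) := by
        intro k
        refine Subgroup.mem_inf.mpr ⟨k.1.2, ?_⟩
        rw [mem_centralizer_singleton]
        have h1 : (τ k.1).1 = 1 := by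
          have := MonoidHom.mem_ker.mp k.2
          rw [this]; rfl
        rw [hτ] at h1
        have h2 := hE2 k.1.1 k.1.2
        have h3 : x * k.1.1 * x⁻¹ = k.1.1 := by
          have h4 : x * k.1.1 * x⁻¹ = (k.1.1)⁻¹ := (inv_eq_of_mul_eq_one_right h1).symm
          rw [h4]; exact inv_eq_of_mul_eq_one_left h2
        exact mul_inv_eq_iff_eq_mul.mp h3
      have hrangemem : ∀ r : τ.range, r.1.1 ∈ E ⊓ centralizer ({x} : Set G) := by
        intro r
        refine Subgroup.mem_inf.mpr ⟨r.1.2, ?_⟩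
        rw [mem_centralizer_singleton]
        obtain ⟨e, he⟩ := MonoidHom.mem_range.mp r.2
        have h1 : r.1.1 = e.1 * (x * e.1 * x⁻¹) := by rw [← he]; rfl
        have hc := hcomm e.1 e.2 (x * e.1 * x⁻¹) (hEn.conj_mem e.1 e.2 x)
        have h3 : x * r.1.1 * x⁻¹ = r.1.1 := by
          rw [h1]
          calc x * (e.1 * (x * e.1 * x⁻¹)) * x⁻¹
              = (x * e.1 * x⁻¹) * ((x * x) * e.1 * (x * x)⁻¹) := by group
            _ = (x * e.1 * x⁻¹) * e.1 := by rw [hxx]; group
            _ = e.1 * (x * e.1 * x⁻¹) := hc.symm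
        exact mul_inv_eq_iff_eq_mul.mp h3
      have hker : Nat.card τ.ker ≤ Nat.card (E ⊓ centralizer ({x} : Set G) : Subgroup G) := by
        apply Nat.card_le_card_of_injective
          (fun k : τ.ker => (⟨k.1.1, hkermem k⟩ : (E ⊓ centralizer ({x} : Set G) : Subgroup G)))
        intro a b hab
        have h1 := congrArg Subtype.val hab
        exact Subtype.ext (Subtype.ext h1)
      have hrange : Nat.card τ.range ≤ Nat.card (E ⊓ centralizer ({x} : Set G) : Subgroup G) := by
        apply Nat.card_le_card_of_injective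
          (fun k : τ.range => (⟨k.1.1, hrangemem k⟩ : (E ⊓ centralizer ({x} : Set G) : Subgroup G)))
        intro a b hab
        have h1 := congrArg Subtype.val hab
        exact Subtype.ext (Subtype.ext h1)
      have hcard : Nat.card E = Nat.card τ.ker * Nat.card τ.range := by
        rw [← Subgroup.index_ker τ]
        exact (Subgroup.card_mul_index τ.ker).symm
      rw [hcard]
      calc Nat.card τ.ker * Nat.card τ.range ≤ 2 * 2 :=
            Nat.mul_le_mul (hker.trans hD2) (hrange.trans hD2)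
        _ = 4 := by norm_num
  rw [hk] at hE1 hle ⊢
  have hk3 : k < 3 := by
    by_contra h
    have : 2 ^ 3 ≤ 2 ^ k := Nat.pow_le_pow_right (by norm_num) (by omega)
    omega
  interval_cases k
  · exact absurd rfl hE1
  · left; rfl
  · right; rfl

/-- **Case `8 ∣ |G|`.** A finite group with an involution `x` such that `|C_G(x)| = 4` and
`8 ∣ |G|` has a normal subgroup of exponent `2` and order `2` or `4`. -/
theorem caseA {G : Type*} [Group G] [Finite G] (x : G) (hx1 : x ≠ 1) (hxx : x * x = 1)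
    (hC4 : Nat.card (centralizer ({x} : Set G)) = 4) (h8 : 8 ∣ Nat.card G) :
    ∃ E : Subgroup G, E.Normal ∧ (∀ e ∈ E, e * e = 1) ∧ (Nat.card E = 2 ∨ Nat.card E = 4) := by
  classical
  have : Fact (Nat.Prime 2) := ⟨Nat.prime_two⟩
  have hxinv : x⁻¹ = x := inv_eq_of_mul_eq_one_left hxx
  have hxV : x ∈ centralizer ({x} : Set G) := by rw [mem_centralizer_singleton]
  -- a Sylow 2-subgroup containing x
  have hxp : IsPGroup 2 (zpowers x) := by
    rintro ⟨v, hv⟩
    obtain ⟨i, rfl⟩ := mem_zpowers_iff.mp hv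
    refine ⟨1, Subtype.ext ?_⟩
    show (x ^ i) ^ 2 ^ 1 = 1
    rw [pow_one, ← zpow_natCast, ← zpow_mul, mul_comm, zpow_mul, zpow_natCast, pow_two, hxx,
      one_zpow]
  obtain ⟨S, hS⟩ := hxp.exists_le_sylow
  have hxS : x ∈ (S : Subgroup G) := hS (mem_zpowers x)
  have h8S : 8 ∣ Nat.card S := by
    have := Sylow.pow_dvd_card_of_pow_dvd_card S (n := 3) (by norm_num; exact h8)
    simpa using this
  have hS8 : 8 ≤ Nat.card S := Nat.le_of_dvd Nat.card_pos h8S
  have hSV : ¬ (S : Subgroup G) ≤ centralizer ({x} : Set G) := by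
    intro h
    have := Subgroup.card_le_of_le h
    rw [hC4] at this
    omega
  -- a central element of S
  have : Nontrivial S := by
    rw [← Finite.one_lt_card_iff_nontrivial]; omega
  have := S.isPGroup'.center_nontrivial
  obtain ⟨zc, hzc⟩ := exists_ne (1 : Subgroup.center ↥(S : Subgroup G))
  have hzcomm : ∀ t ∈ (S : Subgroup G), t * zc.1.1 = zc.1.1 * t := by
    intro t ht
    have := Subgroup.mem_center_iff.mp zc.2 ⟨t, ht⟩
    exact congrArg Subtype.val this
  have hz1 : zc.1.1 ≠ 1 := by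
    intro h
    apply hzc
    exact Subtype.ext (Subtype.ext h)
  -- normalizer condition
  have hnil : Group.IsNilpotent S := S.isPGroup'.isNilpotent
  have hNC := @Group.normalizerCondition_of_isNilpotent S _ hnil
  have hHlt : (centralizer ({x} : Set G)).subgroupOf S < ⊤ := by
    rw [lt_top_iff_ne_top]
    intro h
    apply hSV
    intro t ht
    have : (⟨t, ht⟩ : S) ∈ (centralizer ({x} : Set G)).subgroupOf S := by rw [h]; trivial
    exact Subgroup.mem_subgroupOf.mp this
  obtain ⟨s, hsN, hsH⟩ := SetLike.exists_of_lt (hNC _ hHlt)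
  have hx'V : s.1 * x * s.1⁻¹ ∈ centralizer ({x} : Set G) := by
    have h1 : (⟨x, hxS⟩ : S) ∈ (centralizer ({x} : Set G)).subgroupOf S :=
      Subgroup.mem_subgroupOf.mpr hxV
    have h2 := (Subgroup.mem_normalizer_iff.mp hsN ⟨x, hxS⟩).mp h1
    exact Subgroup.mem_subgroupOf.mp h2
  have hsx : ¬ x * s.1 = s.1 * x := by
    intro h
    apply hsH
    rw [Subgroup.mem_subgroupOf, mem_centralizer_singleton]
    exact h
  have hx'x : s.1 * x * s.1⁻¹ ≠ x := by
    intro h
    exact hsx (mul_inv_eq_iff_eq_mul.mp h).symm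
  have hx'1 : s.1 * x * s.1⁻¹ ≠ 1 := by
    intro h
    apply hx1
    have : x = s.1⁻¹ * (s.1 * x * s.1⁻¹) * s.1 := by group
    rw [this, h]; group
  have hx'2 : (s.1 * x * s.1⁻¹) * (s.1 * x * s.1⁻¹) = 1 := by
    calc (s.1 * x * s.1⁻¹) * (s.1 * x * s.1⁻¹) = s.1 * (x * x) * s.1⁻¹ := by group
      _ = 1 := by rw [hxx]; group
  have hxx'comm : x * (s.1 * x * s.1⁻¹) = (s.1 * x * s.1⁻¹) * x :=
    (mem_centralizer_singleton _ _).mp hx'V
  have hxx'1 : x * (s.1 * x * s.1⁻¹) ≠ 1 := by
    intro h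
    apply hx'x
    have := eq_inv_of_mul_eq_one_right h
    rw [this, hxinv]
  -- the four elements of V
  have hfour := mem_four (centralizer ({x} : Set G)) hC4 x (s.1 * x * s.1⁻¹) hxV hx'V hx1 hx'1
    (Ne.symm hx'x) hxx'1
  -- z = x * x'
  have hzV : zc.1.1 ∈ centralizer ({x} : Set G) := by
    rw [mem_centralizer_singleton]
    exact hzcomm x hxS
  have hzx : zc.1.1 ≠ x := by
    intro h
    apply hSV
    intro t ht
    rw [mem_centralizer_singleton]
    have := hzcomm t ht
    rw [h] at this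
    exact this.symm
  have hszs : s.1 * zc.1.1 * s.1⁻¹ = zc.1.1 := by
    rw [hzcomm s.1 s.2]; group
  have hzx' : zc.1.1 ≠ s.1 * x * s.1⁻¹ := by
    intro h
    apply hzx
    have h1 : s.1 * zc.1.1 * s.1⁻¹ = s.1 * x * s.1⁻¹ := by rw [hszs]; exact h
    have h2 : zc.1.1 = s.1⁻¹ * (s.1 * zc.1.1 * s.1⁻¹) * s.1 := by group
    rw [h2, h1]; group
  have hzeq : zc.1.1 = x * (s.1 * x * s.1⁻¹) := by
    rcases hfour _ hzV with h | h | h | h
    · exact absurd h hz1
    · exact absurd h hzx
    · exact absurd h hzx'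
    · exact h
  have hzz : zc.1.1 * zc.1.1 = 1 := by
    rw [hzeq]
    calc x * (s.1 * x * s.1⁻¹) * (x * (s.1 * x * s.1⁻¹))
        = x * ((s.1 * x * s.1⁻¹) * x) * (s.1 * x * s.1⁻¹) := by group
      _ = x * (x * (s.1 * x * s.1⁻¹)) * (s.1 * x * s.1⁻¹) := by rw [← hxx'comm]
      _ = (x * x) * ((s.1 * x * s.1⁻¹) * (s.1 * x * s.1⁻¹)) := by group
      _ = 1 := by rw [hxx, hx'2, mul_one]
  -- z is not conjugate to x
  have hN1 : ∀ h : G, h * x * h⁻¹ ≠ zc.1.1 := by
    intro h hh
    have hmem : ∀ t : S, h⁻¹ * t.1 * h ∈ centralizer ({x} : Set G) := by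
      intro t
      rw [← mem_centralizer_conj_iff, hh, mem_centralizer_singleton]
      exact (hzcomm t.1 t.2).symm
    have hle : Nat.card S ≤ Nat.card (centralizer ({x} : Set G)) := by
      apply Nat.card_le_card_of_injective
        (fun t : S => (⟨h⁻¹ * t.1 * h, hmem t⟩ : centralizer ({x} : Set G)))
      intro a b hab
      have h1 : h⁻¹ * a.1 * h = h⁻¹ * b.1 * h := congrArg Subtype.val hab
      apply Subtype.ext
      have h2 : a.1 = h * (h⁻¹ * a.1 * h) * h⁻¹ := by group
      rw [h2, h1]; group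
    rw [hC4] at hle
    omega
  -- conjugates of z in V equal z
  have hN3 : ∀ g : G, g * zc.1.1 * g⁻¹ ∈ centralizer ({x} : Set G) →
      g * zc.1.1 * g⁻¹ = zc.1.1 := by
    intro g hg
    rcases hfour _ hg with h | h | h | h
    · exfalso; apply hz1
      have : zc.1.1 = g⁻¹ * (g * zc.1.1 * g⁻¹) * g := by group
      rw [this, h]; group
    · exfalso; apply hN1 g⁻¹
      rw [← h]; group
    · exfalso; apply hN1 (g⁻¹ * s.1)
      have : g⁻¹ * s.1 * x * (g⁻¹ * s.1)⁻¹ = g⁻¹ * (s.1 * x * s.1⁻¹) * g := by group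
      rw [this, ← h]; group
    · rw [h, hzeq]
  -- z commutes with its conjugates
  have hcz : ∀ g : G, zc.1.1 * (g * zc.1.1 * g⁻¹) = (g * zc.1.1 * g⁻¹) * zc.1.1 := by
    intro g
    have hz'2 : (g * zc.1.1 * g⁻¹) * (g * zc.1.1 * g⁻¹) = 1 := by
      calc (g * zc.1.1 * g⁻¹) * (g * zc.1.1 * g⁻¹) = g * (zc.1.1 * zc.1.1) * g⁻¹ := by group
        _ = 1 := by rw [hzz]; group
    rcases invol_pair_dichotomy x (g * zc.1.1 * g⁻¹) hxx hz'2 with ⟨h, hh⟩ | ⟨w, hw1, hw2, hwx, hwz⟩
    · exfalso; apply hN1 (g⁻¹ * h)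
      have : g⁻¹ * h * x * (g⁻¹ * h)⁻¹ = g⁻¹ * (h * x * h⁻¹) * g := by group
      rw [this, hh]; group
    · have hwV : w ∈ centralizer ({x} : Set G) := by
        rw [mem_centralizer_singleton]; exact hwx.symm
      rcases hfour w hwV with h | h | h | h
      · exact absurd h hw1
      · -- w = x
        rw [h] at hwz
        have hz'V : g * zc.1.1 * g⁻¹ ∈ centralizer ({x} : Set G) := by
          rw [mem_centralizer_singleton]; exact hwz
        rw [hN3 g hz'V]
      · -- w = x'
        rw [h] at hwz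
        have h1 : g * zc.1.1 * g⁻¹ ∈ centralizer ({s.1 * x * s.1⁻¹} : Set G) := by
          rw [mem_centralizer_singleton]; exact hwz
        rw [mem_centralizer_conj_iff] at h1
        have h2 : s.1⁻¹ * (g * zc.1.1 * g⁻¹) * s.1 = (s.1⁻¹ * g) * zc.1.1 * (s.1⁻¹ * g)⁻¹ := by
          group
        rw [h2] at h1
        have h3 := hN3 _ h1
        have h4 : g * zc.1.1 * g⁻¹ = s.1 * ((s.1⁻¹ * g) * zc.1.1 * (s.1⁻¹ * g)⁻¹) * s.1⁻¹ := by
          group
        rw [h4, h3, hszs]
      · -- w = z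
        rw [h, ← hzeq] at hwz
        exact hwz
  -- the normal closure of z
  have hgen : ∀ a ∈ Group.conjugatesOfSet ({zc.1.1} : Set G),
      ∀ b ∈ Group.conjugatesOfSet ({zc.1.1} : Set G), a * b = b * a := by
    intro a ha b hb
    obtain ⟨a', ha', hca⟩ := Group.mem_conjugatesOfSet_iff.mp ha
    obtain ⟨b', hb', hcb⟩ := Group.mem_conjugatesOfSet_iff.mp hb
    rw [Set.mem_singleton_iff] at ha' hb'
    subst ha' hb'
    obtain ⟨g, rfl⟩ := isConj_iff.mp hca
    obtain ⟨h, rfl⟩ := isConj_iff.mp hcb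
    have := hcz (g⁻¹ * h)
    calc g * zc.1.1 * g⁻¹ * (h * zc.1.1 * h⁻¹)
        = g * (zc.1.1 * ((g⁻¹ * h) * zc.1.1 * (g⁻¹ * h)⁻¹)) * g⁻¹ := by group
      _ = g * (((g⁻¹ * h) * zc.1.1 * (g⁻¹ * h)⁻¹) * zc.1.1) * g⁻¹ := by rw [this]
      _ = h * zc.1.1 * h⁻¹ * (g * zc.1.1 * g⁻¹) := by group
  have hEc : IsMulCommutative (normalClosure ({zc.1.1} : Set G)) :=
    Subgroup.isMulCommutative_closure hgen
  have hEcomm : ∀ a ∈ normalClosure ({zc.1.1} : Set G), ∀ b ∈ normalClosure ({zc.1.1} : Set G),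
      a * b = b * a := by
    intro a ha b hb
    have := mul_comm' (⟨a, ha⟩ : normalClosure ({zc.1.1} : Set G)) ⟨b, hb⟩
    exact congrArg Subtype.val this
  have hE2 : ∀ e ∈ normalClosure ({zc.1.1} : Set G), e * e = 1 := by
    intro e he
    have he' : e ∈ closure (Group.conjugatesOfSet ({zc.1.1} : Set G)) := he
    induction he' using Subgroup.closure_induction with
    | mem a ha =>
      obtain ⟨a', ha', hca⟩ := Group.mem_conjugatesOfSet_iff.mp ha
      rw [Set.mem_singleton_iff] at ha'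
      subst ha'
      obtain ⟨g, rfl⟩ := isConj_iff.mp hca
      calc (g * zc.1.1 * g⁻¹) * (g * zc.1.1 * g⁻¹) = g * (zc.1.1 * zc.1.1) * g⁻¹ := by group
        _ = 1 := by rw [hzz]; group
    | one => simp
    | mul a b ha hb iha ihb =>
      have hc := hEcomm a ha b hb
      calc a * b * (a * b) = a * (b * a) * b := by group
        _ = a * (a * b) * b := by rw [← hc]
        _ = (a * a) * (b * b) := by group
        _ = 1 := by rw [iha ha, ihb hb, mul_one]
    | inv a ha iha =>
      calc a⁻¹ * a⁻¹ = (a * a)⁻¹ := by group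
        _ = 1 := by rw [iha ha, inv_one]
  have hEne : normalClosure ({zc.1.1} : Set G) ≠ ⊥ := by
    intro h
    apply hz1
    have : zc.1.1 ∈ normalClosure ({zc.1.1} : Set G) :=
      Subgroup.subset_normalClosure (Set.mem_singleton _)
    rw [h] at this
    exact Subgroup.mem_bot.mp this
  exact ⟨normalClosure ({zc.1.1} : Set G), Subgroup.normalClosure_normal, hE2,
    card_two_or_four_of_normal_exp_two x hxx hC4 _ Subgroup.normalClosure_normal hE2 hEne⟩

end Cfsg.Agent.H60
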