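import Mathlib

/-!
Coset enumeration for Carmichael's presentation of the alternating groups.
-/

namespace Cfsg.Agent.H60

section CarEnum
variable {G : Type*} [Group G]

/-- The Carmichael relations on `X 0, …, X m`. -/
structure CarRel (X : ℕ → G) (m : ℕ) : Prop where
  pow3 : X 0 * X 0 * X 0 = 1
  sq : ∀ k, 1 ≤ k → k ≤ m → X k * X k = 1
  comm : ∀ i j, 1 ≤ i → i + 2 ≤ j → j ≤ m → X i * X j = X j * X i
  braid : ∀ i, 1 ≤ i → i + 1 ≤ m → X i * X (i+1) * X i = X (i+1) * X i * X (i+1)
  inv0 : ∀ j, 2 ≤ j → j ≤ m → X j * X 0 * X j = (X 0)⁻¹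
  r01 : 1 ≤ m → X 1 * X 0 * X 1 = (X 0)⁻¹ * X 1 * (X 0)⁻¹

/-- descending products `X m * X (m-1) * ⋯` with `d` factors. -/
def carD (X : ℕ → G) (m : ℕ) : ℕ → G
  | 0 => 1
  | (d+1) => carD X m d * X (m - d)

theorem carD_zero (X : ℕ → G) (m : ℕ) : carD X m 0 = 1 := rfl
theorem carD_succ (X : ℕ → G) (m d : ℕ) : carD X m (d+1) = carD X m d * X (m - d) := rfl

variable {X : ℕ → G} {m : ℕ}

theorem CarRel.inv_of_sq (hR : CarRel X m) {k : ℕ} (h1 : 1 ≤ k) (hk : k ≤ m) : (X k)⁻¹ = X k :=
  inv_eq_of_mul_eq_one_left (hR.sq k h1 hk)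

theorem CarRel.inv0' (hR : CarRel X m) : (X 0)⁻¹ = X 0 * X 0 :=
  inv_eq_of_mul_eq_one_left (by rw [← hR.pow3])

theorem carD_comm (hR : CarRel X m) : ∀ d i, 1 ≤ i → i + d < m →
    carD X m d * X i = X i * carD X m d := by
  intro d
  induction d with
  | zero => intro i _ _; simp [carD_zero]
  | succ d ih =>
    intro i h1 h2
    rw [carD_succ, mul_assoc, ← hR.comm i (m - d) h1 (by omega) (by omega), ← mul_assoc,
      ih i h1 (by omega), mul_assoc]

theorem carD_shift (hR : CarRel X m) : ∀ d i, 2 ≤ i → i ≤ m → m + 2 ≤ i + d → d ≤ m →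
    carD X m d * X i = X (i - 1) * carD X m d := by
  intro d
  induction d with
  | zero => intro i h2 hi h3 _; omega
  | succ d ih =>
    intro i h2 hi h3 hd
    by_cases h4 : m + 2 ≤ i + d
    · -- inductive step
      have hc : X (m - d) * X i = X i * X (m - d) :=
        hR.comm (m - d) i (by omega) (by omega) hi
      rw [carD_succ, mul_assoc, hc, ← mul_assoc, ih i h2 hi h4 (by omega), mul_assoc]
    · -- base: d + 1 = m - i + 2
      obtain ⟨d', rfl⟩ : ∃ d', d = d' + 1 := ⟨d - 1, by omega⟩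
      have e1 : m - (d' + 1) = i - 1 := by omega
      have e2 : m - d' = i := by omega
      rw [carD_succ, carD_succ, e1, e2]
      have hb := hR.braid (i - 1) (by omega) (by omega)
      have e3 : i - 1 + 1 = i := by omega
      rw [e3] at hb
      have hcm := carD_comm hR d' (i - 1) (by omega) (by omega)
      calc carD X m d' * X i * X (i - 1) * X i
          = carD X m d' * (X i * X (i - 1) * X i) := by group
        _ = carD X m d' * (X (i - 1) * X i * X (i - 1)) := by rw [hb]
        _ = (carD X m d' * X (i - 1)) * X i * X (i - 1) := by group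
        _ = X (i - 1) * (carD X m d' * X i * X (i - 1)) := by rw [hcm]; group

theorem carD_norm0 (hR : CarRel X m) : ∀ d, d < m →
    (carD X m d * X 0 * (carD X m d)⁻¹ = X 0 ∨ carD X m d * X 0 * (carD X m d)⁻¹ = (X 0)⁻¹) := by
  intro d
  induction d with
  | zero => intro _; left; simp [carD_zero]
  | succ d ih =>
    intro hd
    have hj := hR.inv0 (m - d) (by omega) (by omega)
    have hinv := hR.inv_of_sq (k := m - d) (by omega) (by omega)
    have e : carD X m (d+1) * X 0 * (carD X m (d+1))⁻¹ =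
        (carD X m d * X 0 * (carD X m d)⁻¹)⁻¹ := by
      rw [carD_succ, mul_inv_rev, hinv]
      calc carD X m d * X (m - d) * X 0 * (X (m - d) * (carD X m d)⁻¹)
          = carD X m d * (X (m - d) * X 0 * X (m - d)) * (carD X m d)⁻¹ := by group
        _ = (carD X m d * X 0 * (carD X m d)⁻¹)⁻¹ := by rw [hj]; group
    rw [e]
    rcases ih (by omega) with h | h
    · right; rw [h]
    · left; rw [h, inv_inv]

theorem carD_mul_X0 (hR : CarRel X m) (H : Subgroup G) (h0 : X 0 ∈ H) (d : ℕ) (hd : d < m) :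
    (∃ h ∈ H, carD X m d * X 0 = h * carD X m d) ∧
    (∃ h ∈ H, carD X m d * (X 0)⁻¹ = h * carD X m d) := by
  have key : carD X m d * X 0 * (carD X m d)⁻¹ ∈ H := by
    rcases carD_norm0 hR d hd with h | h
    · rw [h]; exact h0
    · rw [h]; exact H.inv_mem h0
  constructor
  · exact ⟨_, key, by group⟩
  · refine ⟨_, H.inv_mem key, by group⟩

/-- The coset representatives. -/
def carTau (X : ℕ → G) (m : ℕ) (j : ℕ) : G :=
  if j ≤ m then carD X m j else if j = m + 1 then carD X m m * X 0 else carD X m m * X 0 * X 0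

theorem carTau_of_le (X : ℕ → G) {m j : ℕ} (h : j ≤ m) : carTau X m j = carD X m j := by
  unfold carTau; rw [if_pos h]

theorem carTau_m1 (X : ℕ → G) (m : ℕ) : carTau X m (m+1) = carD X m m * X 0 := by
  unfold carTau; rw [if_neg (by omega), if_pos rfl]

theorem carTau_m2 (X : ℕ → G) (m : ℕ) : carTau X m (m+2) = carD X m m * X 0 * X 0 := by
  unfold carTau; rw [if_neg (by omega), if_neg (by omega)]

/-- closure of the set of cosets under right multiplication by generators. -/
theorem carTau_mul_X (hR : CarRel X m) (H : Subgroup G) (hH : ∀ k, k < m → X k ∈ H)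
    (j : ℕ) (hj : j ≤ m + 2) (i : ℕ) (hi : i ≤ m) :
    ∃ h ∈ H, ∃ j', j' ≤ m + 2 ∧ carTau X m j * X i = h * carTau X m j' := by
  by_cases hjm : j ≤ m
  · -- τ j = D j
    rw [carTau_of_le X hjm]
    by_cases hi0 : i = 0
    · subst hi0
      by_cases hjm' : j < m
      · obtain ⟨⟨h, hh, e⟩, _⟩ := carD_mul_X0 hR H (hH 0 (by omega)) j hjm'
        exact ⟨h, hh, j, by omega, by rw [e, carTau_of_le X hjm]⟩
      · have : j = m := by omega
        subst this
        exact ⟨1, H.one_mem, j + 1, by omega, by rw [carTau_m1, one_mul]⟩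
    · have hi1 : 1 ≤ i := by omega
      by_cases c1 : i = m - j ∧ j < m
      · obtain ⟨c1, c1'⟩ := c1
        refine ⟨1, H.one_mem, j + 1, by omega, ?_⟩
        rw [carTau_of_le X (by omega), carD_succ, one_mul, c1]
      by_cases c2 : i = m - j + 1
      · obtain ⟨j0, rfl⟩ : ∃ j0, j = j0 + 1 := ⟨j - 1, by omega⟩
        have e : m - j0 = i := by omega
        refine ⟨1, H.one_mem, j0, by omega, ?_⟩
        rw [carTau_of_le X (by omega), carD_succ, one_mul, e, mul_assoc, hR.sq i hi1 hi, mul_one]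
      by_cases c3 : i < m - j
      · refine ⟨X i, hH i (by omega), j, by omega, ?_⟩
        rw [carTau_of_le X hjm, carD_comm hR j i hi1 (by omega)]
      · refine ⟨X (i - 1), hH (i - 1) (by omega), j, by omega, ?_⟩
        rw [carTau_of_le X hjm, carD_shift hR j i (by omega) hi (by omega) hjm]
  · by_cases hj1 : j = m + 1
    · subst hj1
      rw [carTau_m1]
      by_cases hi0 : i = 0
      · subst hi0
        exact ⟨1, H.one_mem, m + 2, le_refl _, by rw [carTau_m2, one_mul]⟩
      by_cases hi1 : i = 1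
      · subst hi1
        obtain ⟨m0, rfl⟩ : ∃ m0, m = m0 + 1 := ⟨m - 1, by omega⟩
        have e : m0 + 1 - m0 = 1 := by omega
        obtain ⟨_, ⟨h, hh, e2⟩⟩ := carD_mul_X0 hR H (hH 0 (by omega)) m0 (by omega)
        refine ⟨h, hh, m0 + 1 + 2, le_refl _, ?_⟩
        rw [carTau_m2, carD_succ, e]
        calc carD X (m0+1) m0 * X 1 * X 0 * X 1
            = carD X (m0+1) m0 * (X 1 * X 0 * X 1) := by group
          _ = carD X (m0+1) m0 * ((X 0)⁻¹ * X 1 * (X 0)⁻¹) := by rw [hR.r01 (by omega)]
          _ = (carD X (m0+1) m0 * (X 0)⁻¹) * X 1 * (X 0)⁻¹ := by group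
          _ = h * carD X (m0+1) m0 * X 1 * (X 0 * X 0) := by rw [e2, hR.inv0']
          _ = h * (carD X (m0+1) m0 * X 1 * X 0 * X 0) := by group
      · -- i ≥ 2
        have hinv := hR.inv0 i (by omega) hi
        have hii := hR.inv_of_sq (k := i) (by omega) hi
        have e1 : X 0 * X i = X i * (X 0)⁻¹ := by
          have : X 0 * X i = (X i)⁻¹ * (X i * X 0 * X i) := by group
          rw [this, hinv, hii]
        refine ⟨X (i - 1), hH (i - 1) (by omega), m + 2, le_refl _, ?_⟩
        rw [carTau_m2]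
        calc carD X m m * X 0 * X i = carD X m m * (X 0 * X i) := by group
          _ = (carD X m m * X i) * (X 0)⁻¹ := by rw [e1]; group
          _ = X (i - 1) * carD X m m * (X 0 * X 0) := by
              rw [carD_shift hR m i (by omega) hi (by omega) (le_refl _), hR.inv0']
          _ = X (i - 1) * (carD X m m * X 0 * X 0) := by group
    · have hj2 : j = m + 2 := by omega
      subst hj2
      rw [carTau_m2]
      by_cases hi0 : i = 0
      · subst hi0
        refine ⟨1, H.one_mem, m, by omega, ?_⟩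
        rw [carTau_of_le X (le_refl _), one_mul]
        calc carD X m m * X 0 * X 0 * X 0 = carD X m m * (X 0 * X 0 * X 0) := by group
          _ = carD X m m := by rw [hR.pow3, mul_one]
      by_cases hi1 : i = 1
      · subst hi1
        obtain ⟨m0, rfl⟩ : ∃ m0, m = m0 + 1 := ⟨m - 1, by omega⟩
        have e : m0 + 1 - m0 = 1 := by omega
        obtain ⟨⟨h, hh, e2⟩, _⟩ := carD_mul_X0 hR H (hH 0 (by omega)) m0 (by omega)
        refine ⟨h, hh, m0 + 1 + 1, by omega, ?_⟩
        rw [carTau_m1, carD_succ, e]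
        have h01 : X 1 * (X 0)⁻¹ * X 1 = X 0 * X 1 * X 0 := by
          have h1 := hR.r01 (by omega)
          have hs := hR.inv_of_sq (k := 1) (le_refl _) (by omega)
          have : X 1 * (X 0)⁻¹ * X 1 = (X 1 * X 0 * X 1)⁻¹ := by
            rw [mul_inv_rev, mul_inv_rev, hs, mul_assoc]
          rw [this, h1, mul_inv_rev, mul_inv_rev, inv_inv, hs, mul_assoc]
        calc carD X (m0+1) m0 * X 1 * X 0 * X 0 * X 1
            = carD X (m0+1) m0 * X 1 * (X 0 * X 0) * X 1 := by group
          _ = carD X (m0+1) m0 * (X 1 * (X 0)⁻¹ * X 1) := by rw [← hR.inv0']; group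
          _ = (carD X (m0+1) m0 * X 0) * X 1 * X 0 := by rw [h01]; group
          _ = h * (carD X (m0+1) m0 * X 1 * X 0) := by rw [e2]; group
      · have hinv := hR.inv0 i (by omega) hi
        have hii := hR.inv_of_sq (k := i) (by omega) hi
        have e1 : (X 0)⁻¹ * X i = X i * X 0 := by
          rw [← hinv, mul_assoc (X i * X 0), hR.sq i (by omega) hi, mul_one]
        refine ⟨X (i - 1), hH (i - 1) (by omega), m + 1, by omega, ?_⟩
        rw [carTau_m1]
        calc carD X m m * X 0 * X 0 * X i = carD X m m * ((X 0 * X 0) * X i) := by group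
          _ = carD X m m * (X i * X 0) := by rw [← hR.inv0', e1]
          _ = (carD X m m * X i) * X 0 := by group
          _ = X (i - 1) * (carD X m m * X 0) := by
              rw [carD_shift hR m i (by omega) hi (by omega) (le_refl _)]; group

/-- Every element of the subgroup generated by `X 0, …, X m` lies in one of the `m + 3` cosets. -/
theorem car_coset_enum (hR : CarRel X m) (H : Subgroup G) (hH : ∀ k, k < m → X k ∈ H)
    (g : G) (hg : g ∈ Subgroup.closure (X '' {k | k ≤ m})) :
    ∃ h ∈ H, ∃ j, j ≤ m + 2 ∧ g = h * carTau X m j := by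
  -- the submonoid of elements preserving the set of cosets
  let S : Submonoid G :=
    { carrier := {g | ∀ j, j ≤ m + 2 → ∃ h ∈ H, ∃ j', j' ≤ m + 2 ∧
        carTau X m j * g = h * carTau X m j'}
      one_mem' := fun j hj => ⟨1, H.one_mem, j, hj, by rw [mul_one, one_mul]⟩
      mul_mem' := by
        intro a b ha hb j hj
        obtain ⟨h1, hh1, j1, hj1, e1⟩ := ha j hj
        obtain ⟨h2, hh2, j2, hj2, e2⟩ := hb j1 hj1
        refine ⟨h1 * h2, H.mul_mem hh1 hh2, j2, hj2, ?_⟩
        rw [← mul_assoc, e1, mul_assoc, e2, mul_assoc] }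
  have hX : ∀ i, i ≤ m → X i ∈ S := fun i hi j hj => carTau_mul_X hR H hH j hj i hi
  have hXinv : ∀ i, i ≤ m → (X i)⁻¹ ∈ S := by
    intro i hi
    by_cases hi0 : i = 0
    · subst hi0
      rw [hR.inv0']
      exact S.mul_mem (hX 0 hi) (hX 0 hi)
    · rw [hR.inv_of_sq (by omega) hi]
      exact hX i hi
  have hmem : g ∈ S := by
    have h2 : g ∈ Submonoid.closure (X '' {k | k ≤ m} ∪ (X '' {k | k ≤ m})⁻¹) := by
      have h1 : g ∈ (Subgroup.closure (X '' {k | k ≤ m})).toSubmonoid := hg
      rw [Subgroup.closure_toSubmonoid] at h1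
      exact h1
    have h3 : Submonoid.closure (X '' {k | k ≤ m} ∪ (X '' {k | k ≤ m})⁻¹) ≤ S := by
      rw [Submonoid.closure_le]
      rintro y (⟨i, hi, rfl⟩ | hy)
      · exact hX i hi
      · obtain ⟨i, hi, e⟩ := hy
        have : y = (X i)⁻¹ := by rw [e, inv_inv]
        rw [this]
        exact hXinv i hi
    exact h3 h2
  obtain ⟨h, hh, j', hj', e⟩ := hmem 0 (by omega)
  refine ⟨h, hh, j', hj', ?_⟩
  rw [← e, carTau_of_le X (Nat.zero_le m), carD_zero, one_mul]

end CarEnum

end Cfsg.Agent.H60
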