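import Mathlib
import Cfsg.Agent.H60.CarEnum

/-!
Permutation side of Carmichael's presentation of the alternating groups.
-/

namespace Cfsg.Agent.H60

section CarPow
variable {G : Type*} [Group G]

/-- The Carmichael relations in power form. -/
structure CarPow (X : ℕ → G) (m : ℕ) : Prop where
  p3 : X 0 ^ 3 = 1
  p2 : ∀ k, 1 ≤ k → k ≤ m → X k ^ 2 = 1
  b3 : ∀ i, i + 1 ≤ m → (X i * X (i+1)) ^ 3 = 1
  c2 : ∀ i j, i + 2 ≤ j → j ≤ m → (X i * X j) ^ 2 = 1

theorem CarPow.carRel {X : ℕ → G} {m : ℕ} (h : CarPow X m) : CarRel X m := by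
  have hsq : ∀ k, 1 ≤ k → k ≤ m → X k * X k = 1 := fun k h1 hk => by
    rw [← pow_two]; exact h.p2 k h1 hk
  have hinv : ∀ k, 1 ≤ k → k ≤ m → (X k)⁻¹ = X k := fun k h1 hk =>
    inv_eq_of_mul_eq_one_left (hsq k h1 hk)
  refine ⟨?_, hsq, ?_, ?_, ?_, ?_⟩
  · rw [← h.p3, pow_succ, pow_two]
  · intro i j h1 h2 hj
    have h3 := h.c2 i j h2 hj
    rw [pow_two] at h3
    have h4 : X i * X j = (X i * X j)⁻¹ := eq_inv_of_mul_eq_one_left h3
    rw [h4, mul_inv_rev, hinv i h1 (by omega), hinv j (by omega) hj]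
  · intro i h1 h2
    have h3 := h.b3 i h2
    rw [pow_succ, pow_two] at h3
    have h4 : X i * X (i+1) * X i = (X (i+1) * X i * X (i+1))⁻¹ := by
      apply eq_inv_of_mul_eq_one_left
      rw [← h3]; group
    rw [h4, mul_inv_rev, mul_inv_rev, hinv i h1 (by omega), hinv (i+1) (by omega) h2, mul_assoc]
  · intro j h2 hj
    have h3 := h.c2 0 j (by omega) hj
    rw [pow_two] at h3
    have h4 : X j * X 0 * X j = (X 0)⁻¹ := by
      apply eq_inv_of_mul_eq_one_right
      rw [← h3]; group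
    exact h4
  · intro h1
    have h3 := h.b3 0 (by omega)
    rw [pow_succ, pow_two] at h3
    have h4 : X 1 * X 0 * X 1 = (X 0 * X 1 * X 0)⁻¹ := by
      apply eq_inv_of_mul_eq_one_right
      rw [← h3]; group
    rw [h4, mul_inv_rev, mul_inv_rev, hinv 1 (le_refl _) h1, mul_assoc]

end CarPow

section Swaps
variable {α : Type*} [DecidableEq α]

theorem swap_comm_of_nodup {a b c d : α} (h : [a, b, c, d].Nodup) :
    Equiv.swap a b * Equiv.swap c d = Equiv.swap c d * Equiv.swap a b :=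
  (Equiv.Perm.disjoint_swap_swap h).commute.eq

theorem swap_mul_swap_cube {a b c : α} (hab : a ≠ b) (hac : a ≠ c) (hbc : b ≠ c) :
    (Equiv.swap a b * Equiv.swap b c) ^ 3 = 1 := by
  have h1 : Equiv.swap b c * Equiv.swap a b * Equiv.swap b c = Equiv.swap c a :=
    Equiv.swap_mul_swap_mul_swap hab hac
  have h2 : Equiv.swap a b * Equiv.swap b c * Equiv.swap a b = Equiv.swap a c := by
    have := Equiv.swap_mul_swap_mul_swap (x := c) (y := b) (z := a) hbc.symm hac.symm
    rw [Equiv.swap_comm b a, Equiv.swap_comm c b] at this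
    exact this
  calc (Equiv.swap a b * Equiv.swap b c) ^ 3
      = (Equiv.swap a b * Equiv.swap b c * Equiv.swap a b) *
        (Equiv.swap b c * Equiv.swap a b * Equiv.swap b c) := by
        rw [pow_succ, pow_two]; group
    _ = 1 := by rw [h1, h2, Equiv.swap_comm c a, Equiv.swap_mul_self]

theorem swap_mul_swap_sq_of_nodup {a b c d : α} (h : [a, b, c, d].Nodup) :
    (Equiv.swap a b * Equiv.swap c d) ^ 2 = 1 := by
  rw [pow_two]
  calc Equiv.swap a b * Equiv.swap c d * (Equiv.swap a b * Equiv.swap c d)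
      = Equiv.swap a b * (Equiv.swap c d * Equiv.swap a b) * Equiv.swap c d := by group
    _ = Equiv.swap a b * (Equiv.swap a b * Equiv.swap c d) * Equiv.swap c d := by
        rw [swap_comm_of_nodup h]
    _ = (Equiv.swap a b * Equiv.swap a b) * (Equiv.swap c d * Equiv.swap c d) := by group
    _ = 1 := by rw [Equiv.swap_mul_self, Equiv.swap_mul_self, one_mul]

end Swaps

/-- The images of the Carmichael generators, as permutations of `ℕ`. -/
def carGen (i : ℕ) : Equiv.Perm ℕ :=
  if i = 0 then Equiv.swap 0 1 * Equiv.swap 1 2 else Equiv.swap 0 1 * Equiv.swap (i+1) (i+2)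

theorem carGen_zero : carGen 0 = Equiv.swap 0 1 * Equiv.swap 1 2 := by
  unfold carGen; rw [if_pos rfl]

theorem carGen_pos {i : ℕ} (h : 1 ≤ i) : carGen i = Equiv.swap 0 1 * Equiv.swap (i+1) (i+2) := by
  unfold carGen; rw [if_neg (by omega)]

theorem carGen_mul_of_pos {i j : ℕ} (hi : 1 ≤ i) (hj : 1 ≤ j) :
    carGen i * carGen j = Equiv.swap (i+1) (i+2) * Equiv.swap (j+1) (j+2) := by
  rw [carGen_pos hi, carGen_pos hj]
  have hc : Equiv.swap (0:ℕ) 1 * Equiv.swap (i+1) (i+2) =
      Equiv.swap (i+1) (i+2) * Equiv.swap (0:ℕ) 1 :=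
    swap_comm_of_nodup (by simp; omega)
  calc Equiv.swap (0:ℕ) 1 * Equiv.swap (i+1) (i+2) * (Equiv.swap 0 1 * Equiv.swap (j+1) (j+2))
      = (Equiv.swap (0:ℕ) 1 * Equiv.swap (i+1) (i+2)) * Equiv.swap 0 1 * Equiv.swap (j+1) (j+2) := by
        group
    _ = Equiv.swap (i+1) (i+2) * (Equiv.swap (0:ℕ) 1 * Equiv.swap 0 1) * Equiv.swap (j+1) (j+2) := by
        rw [hc]; group
    _ = Equiv.swap (i+1) (i+2) * Equiv.swap (j+1) (j+2) := by
        rw [Equiv.swap_mul_self, mul_one]

theorem carGen_zero_mul_of_pos {j : ℕ} (hj : 1 ≤ j) :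
    carGen 0 * carGen j = Equiv.swap 0 2 * Equiv.swap (j+1) (j+2) := by
  rw [carGen_zero, carGen_pos hj]
  have h : Equiv.swap (1:ℕ) 0 * Equiv.swap 2 1 * Equiv.swap 1 0 = Equiv.swap 0 2 :=
    Equiv.swap_mul_swap_mul_swap (x := (2:ℕ)) (y := 1) (z := 0) (by omega) (by omega)
  rw [Equiv.swap_comm 1 0, Equiv.swap_comm 2 1] at h
  calc Equiv.swap (0:ℕ) 1 * Equiv.swap 1 2 * (Equiv.swap 0 1 * Equiv.swap (j+1) (j+2))
      = (Equiv.swap (0:ℕ) 1 * Equiv.swap 1 2 * Equiv.swap 0 1) * Equiv.swap (j+1) (j+2) := by group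
    _ = Equiv.swap 0 2 * Equiv.swap (j+1) (j+2) := by rw [h]

theorem carGen_carPow (m : ℕ) : CarPow carGen m := by
  refine ⟨?_, ?_, ?_, ?_⟩
  · rw [carGen_zero]
    exact swap_mul_swap_cube (by omega) (by omega) (by omega)
  · intro k h1 _
    rw [carGen_pos h1]
    exact swap_mul_swap_sq_of_nodup (by simp; omega)
  · intro i _
    by_cases hi : i = 0
    · subst hi
      rw [carGen_zero_mul_of_pos (le_refl _)]
      exact swap_mul_swap_cube (by omega) (by omega) (by omega)
    · rw [carGen_mul_of_pos (by omega) (by omega)]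
      exact swap_mul_swap_cube (by omega) (by omega) (by omega)
  · intro i j h2 _
    by_cases hi : i = 0
    · subst hi
      rw [carGen_zero_mul_of_pos (by omega)]
      exact swap_mul_swap_sq_of_nodup (by simp; omega)
    · rw [carGen_mul_of_pos (by omega) (by omega)]
      exact swap_mul_swap_sq_of_nodup (by simp; omega)

/-- The subgroup of `Perm ℕ` generated by the first `n - 2` generators. -/
def carK (n : ℕ) : Subgroup (Equiv.Perm ℕ) :=
  Subgroup.closure (carGen '' {k | k + 3 ≤ n})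

theorem carGen_mem_carK {n k : ℕ} (h : k + 3 ≤ n) : carGen k ∈ carK n :=
  Subgroup.subset_closure ⟨k, h, rfl⟩

theorem carK_mono {n n' : ℕ} (h : n ≤ n') : carK n ≤ carK n' := by
  apply Subgroup.closure_mono
  rintro _ ⟨k, hk, rfl⟩
  exact ⟨k, by simp only [Set.mem_ofPred_eq] at hk ⊢; omega, rfl⟩

theorem carGen_apply_of_ge {n k : ℕ} (h : k + 3 ≤ n) {x : ℕ} (hx : n ≤ x) : carGen k x = x := by
  by_cases hk : k = 0
  · subst hk
    have h1 : Equiv.swap 1 2 x = x := Equiv.swap_apply_of_ne_of_ne (by omega) (by omega)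
    have h2 : Equiv.swap 0 1 x = x := Equiv.swap_apply_of_ne_of_ne (by omega) (by omega)
    rw [carGen_zero, Equiv.Perm.mul_apply, h1, h2]
  · have h1 : Equiv.swap (k+1) (k+2) x = x := Equiv.swap_apply_of_ne_of_ne (by omega) (by omega)
    have h2 : Equiv.swap 0 1 x = x := Equiv.swap_apply_of_ne_of_ne (by omega) (by omega)
    rw [carGen_pos (by omega), Equiv.Perm.mul_apply, h1, h2]

theorem carK_apply_of_ge {n : ℕ} {σ : Equiv.Perm ℕ} (hσ : σ ∈ carK n) {x : ℕ} (hx : n ≤ x) :
    σ x = x := by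
  have : carK n ≤ MulAction.stabilizer (Equiv.Perm ℕ) x := by
    unfold carK
    rw [Subgroup.closure_le]
    rintro _ ⟨k, hk, rfl⟩
    exact carGen_apply_of_ge hk hx
  exact this hσ

theorem carK_orbit {n : ℕ} (hn : 2 ≤ n) : ∀ d, d ≤ n → ∃ σ ∈ carK (n+1), σ n = n - d := by
  intro d
  induction d with
  | zero => intro _; exact ⟨1, Subgroup.one_mem _, rfl⟩
  | succ d ih =>
    intro hd
    obtain ⟨σ, hσ, e⟩ := ih (by omega)
    by_cases hk : 3 ≤ n - d
    · refine ⟨carGen (n - d - 2) * σ, Subgroup.mul_mem _ (carGen_mem_carK (by omega)) hσ, ?_⟩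
      rw [Equiv.Perm.mul_apply, e, carGen_pos (by omega), Equiv.Perm.mul_apply]
      have e1 : n - d - 2 + 2 = n - d := by omega
      have e2 : n - d - 2 + 1 = n - (d + 1) := by omega
      have h1 : Equiv.swap (n - (d + 1)) (n - d) (n - d) = n - (d + 1) := Equiv.swap_apply_right _ _
      have h2 : Equiv.swap 0 1 (n - (d + 1)) = n - (d + 1) :=
        Equiv.swap_apply_of_ne_of_ne (by omega) (by omega)
      rw [e1, e2, h1, h2]
    · have hc : (carGen 0)⁻¹ ∈ carK (n+1) :=
        Subgroup.inv_mem _ (carGen_mem_carK (by omega))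
      refine ⟨(carGen 0)⁻¹ * σ, Subgroup.mul_mem _ hc hσ, ?_⟩
      rw [Equiv.Perm.mul_apply, e, Equiv.Perm.inv_eq_iff_eq, carGen_zero, Equiv.Perm.mul_apply]
      have h12 : n - d = 1 ∨ n - d = 2 := by omega
      rcases h12 with h | h
      · have e2 : n - (d + 1) = 0 := by omega
        rw [h, e2]
        decide
      · have e2 : n - (d + 1) = 1 := by omega
        rw [h, e2]
        decide

theorem carK_card_step {n : ℕ} (hn : 2 ≤ n) [hfin : Finite (carK (n+1))] :
    (n + 1) * Nat.card (carK n) ≤ Nat.card (carK (n+1)) := by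
  have h1 := MulAction.index_stabilizer (carK (n+1)) (n : ℕ)
  have h2 := Subgroup.index_mul_card (MulAction.stabilizer (carK (n+1)) (n : ℕ))
  rw [h1] at h2
  rw [← h2]
  have horb : n + 1 ≤ (MulAction.orbit (carK (n+1)) (n : ℕ)).ncard := by
    have hfin' : (MulAction.orbit (carK (n+1)) (n : ℕ)).Finite := Set.finite_range _
    have hsub : ((Finset.range (n+1) : Finset ℕ) : Set ℕ) ⊆ MulAction.orbit (carK (n+1)) (n : ℕ) := by
      intro k hk
      rw [Finset.coe_range, Set.mem_Iio] at hk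
      obtain ⟨σ, hσ, e⟩ := carK_orbit hn (n - k) (by omega)
      refine ⟨⟨σ, hσ⟩, ?_⟩
      show σ n = k
      rw [e]; omega
    have := Set.ncard_le_ncard hsub hfin'
    rwa [Set.ncard_coe_finset, Finset.card_range] at this
  have hstab : Nat.card (carK n) ≤ Nat.card (MulAction.stabilizer (carK (n+1)) (n : ℕ)) := by
    have hle : carK n ≤ (MulAction.stabilizer (carK (n+1)) (n : ℕ)).map (carK (n+1)).subtype := by
      intro σ hσ
      refine ⟨⟨σ, carK_mono (by omega) hσ⟩, ?_, rfl⟩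
      rw [SetLike.mem_coe, MulAction.mem_stabilizer_iff]
      exact carK_apply_of_ge hσ (le_refl _)
    haveI : Finite ((MulAction.stabilizer (carK (n+1)) (n : ℕ)).map (carK (n+1)).subtype) :=
      Finite.of_equiv _ (Subgroup.equivMapOfInjective _ _ (Subgroup.subtype_injective _)).toEquiv
    have h3 := Subgroup.card_le_of_le hle
    rwa [Subgroup.card_map_of_injective (Subgroup.subtype_injective _)] at h3
  exact Nat.mul_le_mul horb hstab

theorem carK_two : carK 2 = ⊥ := by
  unfold carK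
  have : {k : ℕ | k + 3 ≤ 2} = ∅ := by
    ext k; simp only [Set.mem_ofPred_eq, Set.mem_empty_iff_false, iff_false]; omega
  rw [this, Set.image_empty, Subgroup.closure_empty]

theorem carK_card_ge (hfin : ∀ n, Finite (carK n)) : ∀ n, 2 ≤ n → n.factorial ≤ 2 * Nat.card (carK n) := by
  intro n hn
  induction n, hn using Nat.le_induction with
  | base => rw [carK_two, Subgroup.card_bot]; decide
  | succ n hn ih =>
    haveI := hfin (n+1)
    have h := carK_card_step hn
    calc (n+1).factorial = (n+1) * n.factorial := Nat.factorial_succ n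
      _ ≤ (n+1) * (2 * Nat.card (carK n)) := Nat.mul_le_mul_left _ ih
      _ = 2 * ((n+1) * Nat.card (carK n)) := by ring
      _ ≤ 2 * Nat.card (carK (n+1)) := Nat.mul_le_mul_left _ h

/-- The embedding of `Perm (Fin n)` into `Perm ℕ`. -/
noncomputable def carIota (n : ℕ) : Equiv.Perm (Fin n) →* Equiv.Perm ℕ :=
  Equiv.Perm.viaEmbeddingHom Fin.valEmbedding

theorem carIota_injective (n : ℕ) : Function.Injective (carIota n) :=
  Equiv.Perm.viaEmbeddingHom_injective _

theorem carIota_swap {n a b : ℕ} (ha : a < n) (hb : b < n) :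
    carIota n (Equiv.swap ⟨a, ha⟩ ⟨b, hb⟩) = Equiv.swap a b := by
  ext x
  by_cases hx : x < n
  · have e1 : x = Fin.valEmbedding (⟨x, hx⟩ : Fin n) := rfl
    have : carIota n (Equiv.swap ⟨a, ha⟩ ⟨b, hb⟩) (Fin.valEmbedding (⟨x, hx⟩ : Fin n)) =
        Fin.valEmbedding (Equiv.swap (⟨a, ha⟩ : Fin n) ⟨b, hb⟩ ⟨x, hx⟩) :=
      Equiv.Perm.viaEmbedding_apply _ _ _
    rw [e1, this]
    simp only [Equiv.swap_apply_def, Fin.valEmbedding_apply, Fin.mk.injEq]
    split_ifs <;> rfl
  · have hx' : x ∉ Set.range (Fin.valEmbedding : Fin n ↪ ℕ) := by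
      rintro ⟨y, rfl⟩
      exact hx y.2
    have : carIota n (Equiv.swap ⟨a, ha⟩ ⟨b, hb⟩) x = x :=
      Equiv.Perm.viaEmbedding_apply_of_notMem _ _ x hx'
    rw [this, Equiv.swap_apply_of_ne_of_ne (by omega) (by omega)]

theorem carK_le_range (n : ℕ) : carK n ≤ (carIota n).range := by
  unfold carK
  rw [Subgroup.closure_le]
  rintro _ ⟨k, hk, rfl⟩
  simp only [Set.mem_ofPred_eq] at hk
  by_cases h0 : k = 0
  · subst h0
    refine ⟨Equiv.swap ⟨0, by omega⟩ ⟨1, by omega⟩ * Equiv.swap ⟨1, by omega⟩ ⟨2, by omega⟩, ?_⟩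
    rw [map_mul, carIota_swap, carIota_swap, carGen_zero]
  · refine ⟨Equiv.swap ⟨0, by omega⟩ ⟨1, by omega⟩ *
      Equiv.swap ⟨k+1, by omega⟩ ⟨k+2, by omega⟩, ?_⟩
    rw [map_mul, carIota_swap, carIota_swap, carGen_pos (by omega)]

/-- A subgroup of `Perm ℕ` inside the image of `Perm (Fin n)` and of order `n!/2` is isomorphic
to the alternating group. -/
theorem carK_equiv_alternating {n : ℕ} (hn : 2 ≤ n) (hcard : 2 * Nat.card (carK n) = n.factorial) :
    Nonempty (carK n ≃* alternatingGroup (Fin n)) := by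
  have hinj := carIota_injective n
  let K' : Subgroup (Equiv.Perm (Fin n)) := (carK n).comap (carIota n)
  have hmap : K'.map (carIota n) = carK n := by
    rw [Subgroup.map_comap_eq, inf_eq_right.mpr (carK_le_range n)]
  have hcard' : Nat.card K' = Nat.card (carK n) := by
    rw [← hmap, Subgroup.card_map_of_injective hinj]
  have hidx : K'.index = 2 := by
    have h1 := Subgroup.index_mul_card K'
    rw [hcard', Nat.card_perm, Nat.card_fin, ← hcard] at h1
    have hpos : 0 < Nat.card (carK n) := by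
      rcases Nat.eq_zero_or_pos (Nat.card (carK n)) with h | h
      · rw [h] at hcard
        have := Nat.factorial_pos n
        omega
      · exact h
    nlinarith
  have hK' : K' = alternatingGroup (Fin n) := Equiv.Perm.eq_alternatingGroup_of_index_eq_two hidx
  have e1 : K' ≃* K'.map (carIota n) := K'.equivMapOfInjective (carIota n) hinj
  have e2 : K'.map (carIota n) ≃* carK n := MulEquiv.subgroupCongr hmap
  have e3 : K' ≃* alternatingGroup (Fin n) := MulEquiv.subgroupCongr hK'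
  exact ⟨(e1.trans e2).symm.trans e3⟩

end Cfsg.Agent.H60
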