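import Mathlib
import Cfsg.Agent.H60.CarEnum
import Cfsg.Agent.H60.CarPerm

/-!
Carmichael's presentation of the alternating groups.
-/

namespace Cfsg.Agent.H60

/-- The Carmichael relators. -/
abbrev carRels (n : ℕ) : Set (FreeGroup (Fin (n - 2))) :=
  {g : FreeGroup (Fin (n - 2)) | ∃ i : Fin (n - 2), i.val = 0 ∧ g = FreeGroup.of i ^ 3} ∪
       {g | ∃ i : Fin (n - 2), 1 ≤ i.val ∧ g = FreeGroup.of i ^ 2} ∪
       {g | ∃ i j : Fin (n - 2), j.val = i.val + 1 ∧ g = (FreeGroup.of i * FreeGroup.of j) ^ 3} ∪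
       {g | ∃ i j : Fin (n - 2), i.val + 1 < j.val ∧ g = (FreeGroup.of i * FreeGroup.of j) ^ 2}

/-- The group with Carmichael's presentation. -/
abbrev CarGroup (n : ℕ) : Type := PresentedGroup (carRels n)

/-- total version of the generators -/
noncomputable def carX (n k : ℕ) : CarGroup n :=
  if h : k < n - 2 then PresentedGroup.of ⟨k, h⟩ else 1

theorem carX_of_lt {n k : ℕ} (h : k < n - 2) : carX n k = PresentedGroup.of ⟨k, h⟩ := by
  unfold carX; rw [dif_pos h]

theorem carX_carPow {n m : ℕ} (h : m + 3 ≤ n) : CarPow (carX n) m := by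
  refine ⟨?_, ?_, ?_, ?_⟩
  · rw [carX_of_lt (by omega : 0 < n - 2)]
    have : (⟨0, by omega⟩ : Fin (n - 2)) = ⟨0, by omega⟩ := rfl
    refine PresentedGroup.one_of_mem (rels := carRels n) (x := FreeGroup.of ⟨0, by omega⟩ ^ 3) ?_
    left; left; left
    exact ⟨⟨0, by omega⟩, rfl, rfl⟩
  · intro k h1 hk
    rw [carX_of_lt (by omega : k < n - 2)]
    refine PresentedGroup.one_of_mem (rels := carRels n) (x := FreeGroup.of ⟨k, by omega⟩ ^ 2) ?_
    left; left; right
    exact ⟨⟨k, by omega⟩, h1, rfl⟩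
  · intro i hi
    rw [carX_of_lt (by omega : i < n - 2), carX_of_lt (by omega : i + 1 < n - 2)]
    refine PresentedGroup.one_of_mem (rels := carRels n)
      (x := (FreeGroup.of ⟨i, by omega⟩ * FreeGroup.of ⟨i+1, by omega⟩) ^ 3) ?_
    left; right
    exact ⟨⟨i, by omega⟩, ⟨i+1, by omega⟩, rfl, rfl⟩
  · intro i j hij hj
    rw [carX_of_lt (by omega : i < n - 2), carX_of_lt (by omega : j < n - 2)]
    refine PresentedGroup.one_of_mem (rels := carRels n)
      (x := (FreeGroup.of ⟨i, by omega⟩ * FreeGroup.of ⟨j, by omega⟩) ^ 2) ?_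
    right
    exact ⟨⟨i, by omega⟩, ⟨j, by omega⟩, by simp only; omega, rfl⟩

theorem carX_closure {n m : ℕ} (h : n ≤ m + 3) :
    Subgroup.closure (carX n '' {k | k ≤ m}) = ⊤ := by
  rw [eq_top_iff, ← PresentedGroup.closure_range_of (carRels n)]
  apply Subgroup.closure_mono
  rintro _ ⟨i, rfl⟩
  exact ⟨i.val, by simp only [Set.mem_ofPred_eq]; omega, carX_of_lt i.2⟩

section Lift
variable {G : Type*} [Group G]

theorem car_lift_rels (Y : ℕ → G) (n m : ℕ) (hY : CarPow Y m) (hm : n ≤ m + 3) :
    ∀ r ∈ carRels n, FreeGroup.lift (fun i : Fin (n - 2) => Y i.val) r = 1 := by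
  rintro r (((⟨i, hi, rfl⟩ | ⟨i, hi, rfl⟩) | ⟨i, j, hij, rfl⟩) | ⟨i, j, hij, rfl⟩)
  · rw [map_pow, FreeGroup.lift_apply_of, hi]
    exact hY.p3
  · rw [map_pow, FreeGroup.lift_apply_of]
    exact hY.p2 _ hi (by omega)
  · rw [map_pow, map_mul, FreeGroup.lift_apply_of, FreeGroup.lift_apply_of, hij]
    exact hY.b3 _ (by omega)
  · rw [map_pow, map_mul, FreeGroup.lift_apply_of, FreeGroup.lift_apply_of]
    exact hY.c2 _ _ (by omega) (by omega)

/-- The homomorphism from the Carmichael group defined by elements satisfying the relations. -/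
noncomputable def carLift (Y : ℕ → G) (n m : ℕ) (hY : CarPow Y m) (hm : n ≤ m + 3) :
    CarGroup n →* G :=
  PresentedGroup.toGroup (car_lift_rels Y n m hY hm)

theorem carLift_carX (Y : ℕ → G) (n m : ℕ) (hY : CarPow Y m) (hm : n ≤ m + 3) {k : ℕ}
    (hk : k < n - 2) : carLift Y n m hY hm (carX n k) = Y k := by
  rw [carX_of_lt hk]
  unfold carLift
  rw [PresentedGroup.toGroup.of]

theorem carLift_range (Y : ℕ → G) (n m : ℕ) (hY : CarPow Y m) (hm : n ≤ m + 3) :
    (carLift Y n m hY hm).range = Subgroup.closure (Y '' {k | k + 3 ≤ n}) := by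
  rw [MonoidHom.range_eq_map, ← PresentedGroup.closure_range_of (carRels n),
    MonoidHom.map_closure]
  congr 1
  ext y
  constructor
  · rintro ⟨_, ⟨i, rfl⟩, rfl⟩
    refine ⟨i.val, by simp only [Set.mem_ofPred_eq]; omega, ?_⟩
    have := carLift_carX Y n m hY hm i.2
    rw [carX_of_lt i.2] at this
    exact this.symm
  · rintro ⟨k, hk, rfl⟩
    simp only [Set.mem_ofPred_eq] at hk
    have hk' : k < n - 2 := by omega
    refine ⟨PresentedGroup.of ⟨k, hk'⟩, ⟨⟨k, hk'⟩, rfl⟩, ?_⟩
    have := carLift_carX Y n m hY hm hk'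
    rw [carX_of_lt hk'] at this
    exact this

end Lift

/-- The order bound from coset enumeration. -/
theorem carGroup_card_le : ∀ n, 2 ≤ n →
    Finite (CarGroup n) ∧ 2 * Nat.card (CarGroup n) ≤ n.factorial := by
  intro n hn
  induction n, hn using Nat.le_induction with
  | base =>
    have htop : (⊤ : Subgroup (CarGroup 2)) = ⊥ := by
      rw [← PresentedGroup.closure_range_of (carRels 2)]
      have : Set.range (PresentedGroup.of : Fin (2 - 2) → CarGroup 2) = ∅ := by
        rw [Set.range_eq_empty_iff]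
        exact Fin.isEmpty'
      rw [this, Subgroup.closure_empty]
    have hsub : Subsingleton (CarGroup 2) := by
      constructor
      intro a b
      have ha : a ∈ (⊤ : Subgroup (CarGroup 2)) := Subgroup.mem_top a
      have hb : b ∈ (⊤ : Subgroup (CarGroup 2)) := Subgroup.mem_top b
      rw [htop, Subgroup.mem_bot] at ha hb
      rw [ha, hb]
    refine ⟨inferInstance, ?_⟩
    rw [Nat.card_of_subsingleton (1 : CarGroup 2)]
    decide
  | succ n hn ih =>
    obtain ⟨hfin, hcard⟩ := ih
    obtain ⟨m, rfl⟩ : ∃ m, n = m + 2 := ⟨n - 2, by omega⟩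
    have hP : CarPow (carX (m + 2 + 1)) m := carX_carPow (by omega)
    have hR : CarRel (carX (m + 2 + 1)) m := hP.carRel
    let ψ : CarGroup (m + 2) →* CarGroup (m + 2 + 1) :=
      carLift (carX (m + 2 + 1)) (m + 2) m hP (by omega)
    let H : Subgroup (CarGroup (m + 2 + 1)) := ψ.range
    have hH : ∀ k, k < m → carX (m + 2 + 1) k ∈ H := by
      intro k hk
      exact ⟨carX (m + 2) k, carLift_carX _ _ _ hP (by omega) (by omega)⟩
    haveI : Finite H := Finite.of_surjective ψ.rangeRestrict ψ.rangeRestrict_surjective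
    have hHcard : Nat.card H ≤ Nat.card (CarGroup (m + 2)) :=
      Nat.card_le_card_of_surjective ψ.rangeRestrict ψ.rangeRestrict_surjective
    let f : H × Fin (m + 3) → CarGroup (m + 2 + 1) :=
      fun p => (p.1 : CarGroup (m + 2 + 1)) * carTau (carX (m + 2 + 1)) m p.2.val
    have hf : Function.Surjective f := by
      intro g
      have hg : g ∈ Subgroup.closure (carX (m + 2 + 1) '' {k | k ≤ m}) := by
        rw [carX_closure (by omega)]; exact Subgroup.mem_top g
      obtain ⟨h, hh, j, hj, e⟩ := car_coset_enum hR H hH g hg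
      exact ⟨(⟨h, hh⟩, ⟨j, by omega⟩), e.symm⟩
    have hfin' : Finite (CarGroup (m + 2 + 1)) := Finite.of_surjective f hf
    refine ⟨hfin', ?_⟩
    have h1 : Nat.card (CarGroup (m + 2 + 1)) ≤ Nat.card (H × Fin (m + 3)) :=
      Nat.card_le_card_of_surjective f hf
    rw [Nat.card_prod, Nat.card_fin] at h1
    calc 2 * Nat.card (CarGroup (m + 2 + 1)) ≤ 2 * (Nat.card H * (m + 3)) :=
          Nat.mul_le_mul_left _ h1
      _ ≤ 2 * (Nat.card (CarGroup (m + 2)) * (m + 3)) :=
          Nat.mul_le_mul_left _ (Nat.mul_le_mul_right _ hHcard)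
      _ = (m + 3) * (2 * Nat.card (CarGroup (m + 2))) := by ring
      _ ≤ (m + 3) * (m + 2).factorial := Nat.mul_le_mul_left _ hcard
      _ = (m + 2 + 1).factorial := (Nat.factorial_succ (m + 2)).symm

/-- The homomorphism onto the permutation group `carK n`. -/
noncomputable def carPhi (n : ℕ) : CarGroup n →* Equiv.Perm ℕ :=
  carLift carGen n n (carGen_carPow n) (by omega)

theorem carPhi_range (n : ℕ) : (carPhi n).range = carK n :=
  carLift_range carGen n n (carGen_carPow n) (by omega)

theorem carK_finite (n : ℕ) : Finite (carK n) := by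
  by_cases hn : 2 ≤ n
  · haveI := (carGroup_card_le n hn).1
    rw [← carPhi_range]
    exact Finite.of_surjective (carPhi n).rangeRestrict (carPhi n).rangeRestrict_surjective
  · have : carK n = ⊥ := by
      rw [eq_bot_iff, ← carK_two]
      exact carK_mono (by omega)
    rw [this]
    infer_instance

/-- **Carmichael's presentation of the alternating group.** -/
theorem carGroup_equiv_alternating (n : ℕ) (hn : 2 ≤ n) :
    Nonempty (CarGroup n ≃* alternatingGroup (Fin n)) := by
  obtain ⟨hfin, hle⟩ := carGroup_card_le n hn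
  have hge := carK_card_ge carK_finite n hn
  haveI := carK_finite n
  let φ : CarGroup n →* (carPhi n).range := (carPhi n).rangeRestrict
  have hφ : Function.Surjective φ := (carPhi n).rangeRestrict_surjective
  have hc1 : Nat.card (carPhi n).range = Nat.card (carK n) := by rw [carPhi_range]
  have hc2 : Nat.card (carPhi n).range ≤ Nat.card (CarGroup n) :=
    Nat.card_le_card_of_surjective φ hφ
  have hc3 : Nat.card (CarGroup n) ≤ Nat.card (carPhi n).range := by omega
  have hbij : Function.Bijective φ := hφ.bijective_of_nat_card_le hc3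
  have e1 : CarGroup n ≃* (carPhi n).range := MulEquiv.ofBijective φ hbij
  have e2 : (carPhi n).range ≃* carK n := MulEquiv.subgroupCongr (carPhi_range n)
  obtain ⟨e3⟩ := carK_equiv_alternating hn (by omega)
  exact ⟨(e1.trans e2).trans e3⟩

end Cfsg.Agent.H60
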