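import Mathlib
import Cfsg.Prelude.Def_Classical
import Cfsg.Agent.H60.SuzPar

set_option autoImplicit false

namespace Cfsg.Agent.H60

open Finset Matrix

open scoped Classical

section su

variable {F : Type*} [Field F] [Fintype F] {n : ℕ} [hS : SuzFin F n]

/-- The unitary matrix attached to a pair `(a, b)`. -/
def gmat (n : ℕ) (a b : F) : Matrix (Fin 3) (Fin 3) F :=
  !![1 + b, b, a ^ (2 ^ n); b, 1 + b, a ^ (2 ^ n); a, a, 1]

omit [Fintype F] hS in
theorem gmat_mulVec (a b : F) (u : Fin 3 → F) :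
    gmat n a b *ᵥ u = ![(1 + b) * u 0 + b * u 1 + a ^ (2 ^ n) * u 2,
      b * u 0 + (1 + b) * u 1 + a ^ (2 ^ n) * u 2, a * u 0 + a * u 1 + u 2] := by
  ext i
  fin_cases i <;> simp [gmat, Matrix.mulVec, dotProduct, Fin.sum_univ_three]

theorem gmat_det (a b : F) : (gmat n a b).det = 1 := by
  have h2 := suz_two F n
  rw [Matrix.det_fin_three]
  simp only [gmat, Matrix.of_apply, Matrix.cons_val', Matrix.cons_val_zero, Matrix.cons_val_one,
    Matrix.cons_val_two, Matrix.cons_val_fin_one, Matrix.head_cons, Matrix.tail_cons,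
    Matrix.head_fin_const]
  linear_combination (b - a ^ (2 ^ n) * a) * h2

theorem gmat_pres (x : Par F n) (u v : Fin 3 → F) :
    Cfsg.hermForm 3 F (2 ^ n) (gmat n x.a x.b *ᵥ u) (gmat n x.a x.b *ᵥ v)
      = Cfsg.hermForm 3 F (2 ^ n) u v := by
  have h2 := suz_two F n
  have hb := x.h
  rw [gmat_mulVec, gmat_mulVec]
  unfold Cfsg.hermForm
  simp only [Fin.sum_univ_three, Matrix.cons_val_zero, Matrix.cons_val_one, Matrix.cons_val_two,
    Matrix.head_cons, Matrix.tail_cons, suz_add n, mul_pow, one_pow, suz_frob n]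
  linear_combination (u 0 * v 0 ^ (2 ^ n) + u 0 * v 1 ^ (2 ^ n) + u 1 * v 0 ^ (2 ^ n)
      + u 1 * v 1 ^ (2 ^ n)) * hb
    + ((x.a * x.a ^ (2 ^ n) + x.b * x.b ^ (2 ^ n)) * (u 0 * v 0 ^ (2 ^ n) + u 0 * v 1 ^ (2 ^ n)
        + u 1 * v 0 ^ (2 ^ n) + u 1 * v 1 ^ (2 ^ n))
      + (x.a + x.a * x.b) * (u 0 * v 2 ^ (2 ^ n) + u 1 * v 2 ^ (2 ^ n))
      + (x.a ^ (2 ^ n) + x.a ^ (2 ^ n) * x.b ^ (2 ^ n)) * (u 2 * v 0 ^ (2 ^ n) + u 2 * v 1 ^ (2 ^ n))
      + x.a ^ (2 ^ n) * x.a * u 2 * v 2 ^ (2 ^ n)) * h2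

theorem gmat_mul (a b a' b' : F) :
    gmat n a b * gmat n a' b' = gmat n (a + a') (b + b' + a ^ (2 ^ n) * a') := by
  have h2 := suz_two F n
  ext i j
  fin_cases i <;> fin_cases j <;>
    simp only [gmat, Matrix.mul_apply, Fin.sum_univ_three, Matrix.of_apply, Matrix.cons_val',
      Matrix.cons_val_zero, Matrix.cons_val_one, Matrix.cons_val_two, Matrix.cons_val_fin_one,
      Matrix.head_cons, Matrix.tail_cons, Matrix.head_fin_const, suz_add n, Fin.zero_eta,
      Fin.mk_one, Fin.reduceFinMk]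
  · linear_combination (b * b') * h2
  · linear_combination (b * b') * h2
  · linear_combination (b * a' ^ (2 ^ n)) * h2
  · linear_combination (b * b') * h2
  · linear_combination (b * b') * h2
  · linear_combination (b * a' ^ (2 ^ n)) * h2
  · linear_combination (a * b') * h2
  · linear_combination (a * b') * h2
  · linear_combination (a * a' ^ (2 ^ n)) * h2


/-- The embedding of the model into `SU_3`. -/
def parToSU (x : Par F n) : ↥(Cfsg.SU 3 F (2 ^ n)) :=
  ⟨⟨gmat n x.a x.b, gmat_det x.a x.b⟩, gmat_pres x⟩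

theorem parToSU_coe (x : Par F n) :
    ((parToSU x : ↥(Cfsg.SU 3 F (2 ^ n))).1 : Matrix (Fin 3) (Fin 3) F) = gmat n x.a x.b := rfl

theorem parToSU_mul (x y : Par F n) : parToSU (x * y) = parToSU x * parToSU y := by
  apply Subtype.ext
  apply Subtype.ext
  show gmat n (x * y).a (x * y).b = gmat n x.a x.b * gmat n y.a y.b
  rw [gmat_mul]
  rfl

theorem parToSU_injective : Function.Injective (parToSU (F := F) (n := n)) := by
  intro x y h
  have hm : gmat n x.a x.b = gmat n y.a y.b :=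
    congrArg (fun g : ↥(Cfsg.SU 3 F (2 ^ n)) => (g.1 : Matrix (Fin 3) (Fin 3) F)) h
  apply Par.ext
  · have := congrFun (congrFun hm 2) 0
    simpa [gmat] using this
  · have := congrFun (congrFun hm 0) 1
    simpa [gmat] using this

theorem parToSU_one : parToSU (1 : Par F n) = 1 := by
  apply Subtype.ext
  apply Subtype.ext
  show gmat n 0 0 = 1
  ext i j
  fin_cases i <;> fin_cases j <;> simp [gmat, Par.zero_pow_q (F := F) (n := n)]

/-- The embedding as a homomorphism. -/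
def parHom : Par F n →* ↥(Cfsg.SU 3 F (2 ^ n)) where
  toFun := parToSU
  map_one' := parToSU_one
  map_mul' := parToSU_mul

end su

section action

variable {F : Type*} [Field F] {q : ℕ}

/-- `SU_3` acting on column vectors. -/
@[instance_reducible] def suVecAction (F : Type*) [Field F] (q : ℕ) : MulAction ↥(Cfsg.SU 3 F q) (Fin 3 → F) where
  smul g v := (g.1 : Matrix (Fin 3) (Fin 3) F) *ᵥ v
  one_smul v := Matrix.one_mulVec v
  mul_smul _ _ v := (Matrix.mulVec_mulVec v _ _).symm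

attribute [local instance] suVecAction

theorem su_smul_def (g : ↥(Cfsg.SU 3 F q)) (v : Fin 3 → F) :
    g • v = (g.1 : Matrix (Fin 3) (Fin 3) F) *ᵥ v := rfl

/-- The stabiliser in `SU_3` of the isotropic vector `(1, 1, 0)`. -/
def stabU (F : Type*) [Field F] (q : ℕ) : Subgroup ↥(Cfsg.SU 3 F q) :=
  MulAction.stabilizer ↥(Cfsg.SU 3 F q) (![1, 1, 0] : Fin 3 → F)

theorem mem_stabU (g : ↥(Cfsg.SU 3 F q)) :
    g ∈ stabU F q ↔ (g.1 : Matrix (Fin 3) (Fin 3) F) *ᵥ ![1, 1, 0] = ![1, 1, 0] := Iff.rfl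

end action

section su2

attribute [local instance] suVecAction

variable {F : Type*} [Field F] [Fintype F] {n : ℕ} [hS : SuzFin F n]

theorem parToSU_mem_stab (x : Par F n) : parToSU x ∈ stabU F (2 ^ n) := by
  have h2 := suz_two F n
  rw [mem_stabU, parToSU_coe, gmat_mulVec]
  ext i
  fin_cases i
  · simp only [Matrix.cons_val_zero, Matrix.cons_val_one, Matrix.cons_val_two, Matrix.head_cons,
      Matrix.tail_cons, Fin.zero_eta]
    linear_combination x.b * h2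
  · simp only [Matrix.cons_val_zero, Matrix.cons_val_one, Matrix.cons_val_two, Matrix.head_cons,
      Matrix.tail_cons, Fin.mk_one]
    linear_combination x.b * h2
  · simp only [Matrix.cons_val_zero, Matrix.cons_val_one, Matrix.cons_val_two, Matrix.head_cons,
      Matrix.tail_cons, Fin.reduceFinMk]
    linear_combination x.a * h2

theorem exists_par_of_mem_stab {g : ↥(Cfsg.SU 3 F (2 ^ n))} (hg : g ∈ stabU F (2 ^ n)) :
    ∃ x : Par F n, parToSU x = g := by
  have h2 := suz_two F n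
  obtain ⟨⟨M, hdet⟩, hpres⟩ := g
  have hpres' : ∀ u v, Cfsg.hermForm 3 F (2 ^ n) (M *ᵥ u) (M *ᵥ v)
      = Cfsg.hermForm 3 F (2 ^ n) u v := hpres
  have hfix : M *ᵥ ![1, 1, 0] = ![1, 1, 0] := hg
  have z0 : (0 : F) ^ (2 ^ n) = 0 := Par.zero_pow_q
  have r0 : M 0 0 + M 0 1 = 1 := by
    have := congrFun hfix 0
    simpa [Matrix.mulVec, dotProduct, Fin.sum_univ_three] using this
  have r1 : M 1 0 + M 1 1 = 1 := by
    have := congrFun hfix 1
    simpa [Matrix.mulVec, dotProduct, Fin.sum_univ_three] using this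
  have r2 : M 2 0 + M 2 1 = 0 := by
    have := congrFun hfix 2
    simpa [Matrix.mulVec, dotProduct, Fin.sum_univ_three] using this
  have c0 : M 0 0 + M 1 0 = 1 := by
    have := hpres' ![1, 0, 0] ![1, 1, 0]
    rw [hfix] at this
    simpa [Cfsg.hermForm, Matrix.mulVec, dotProduct, Fin.sum_univ_three, z0] using this
  have c2 : M 0 2 + M 1 2 = 0 := by
    have := hpres' ![0, 0, 1] ![1, 1, 0]
    rw [hfix] at this
    simpa [Cfsg.hermForm, Matrix.mulVec, dotProduct, Fin.sum_univ_three, z0] using this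
  have u02 : M 0 0 * M 0 2 ^ (2 ^ n) + M 1 0 * M 1 2 ^ (2 ^ n) + M 2 0 * M 2 2 ^ (2 ^ n) = 0 := by
    have := hpres' ![1, 0, 0] ![0, 0, 1]
    simpa [Cfsg.hermForm, Matrix.mulVec, dotProduct, Fin.sum_univ_three, z0] using this
  have u00 : M 0 0 * M 0 0 ^ (2 ^ n) + M 1 0 * M 1 0 ^ (2 ^ n) + M 2 0 * M 2 0 ^ (2 ^ n) = 1 := by
    have := hpres' ![1, 0, 0] ![1, 0, 0]
    simpa [Cfsg.hermForm, Matrix.mulVec, dotProduct, Fin.sum_univ_three, z0] using this
  have e00 : M 0 0 = 1 + M 0 1 := by linear_combination r0 - M 0 1 * h2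
  have e10 : M 1 0 = M 0 1 := by linear_combination c0 - r0
  have e11 : M 1 1 = 1 + M 0 1 := by linear_combination r1 - e10 - M 0 1 * h2
  have e21 : M 2 1 = M 2 0 := by linear_combination r2 - M 2 0 * h2
  have e12 : M 1 2 = M 0 2 := by linear_combination c2 - M 0 2 * h2
  have hdet' := hdet
  rw [Matrix.det_fin_three, e00, e10, e11, e21, e12] at hdet'
  have hd : M 2 2 = 1 := by
    linear_combination hdet' - (M 0 1 * M 2 2 - M 0 2 * M 2 0) * h2
  rw [e00, e10, e12, hd, one_pow] at u02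
  have hc : M 0 2 ^ (2 ^ n) = M 2 0 := by
    linear_combination u02 - (M 0 1 * M 0 2 ^ (2 ^ n) + M 2 0) * h2
  have hc' : M 0 2 = M 2 0 ^ (2 ^ n) := by rw [← hc, suz_frob]
  rw [e00, e10, suz_add, one_pow] at u00
  have hbb : M 0 1 + M 0 1 ^ (2 ^ n) = M 2 0 ^ (2 ^ n + 1) := by
    rw [pow_succ]
    linear_combination u00 - (M 0 1 * M 0 1 ^ (2 ^ n) + M 2 0 * M 2 0 ^ (2 ^ n)) * h2
  refine ⟨⟨M 2 0, M 0 1, hbb⟩, ?_⟩
  apply Subtype.ext
  apply Subtype.ext
  show gmat n (M 2 0) (M 0 1) = M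
  ext i j
  fin_cases i <;> fin_cases j <;> simp [gmat, e00, e10, e11, e21, e12, hd, hc']

/-- The model is isomorphic to the stabiliser of `(1, 1, 0)`. -/
noncomputable def parEquivStab : Par F n ≃* ↥(stabU F (2 ^ n)) :=
  MulEquiv.ofBijective (parHom.codRestrict (stabU F (2 ^ n)) parToSU_mem_stab)
    ⟨fun x y h => parToSU_injective (congrArg Subtype.val h), fun g => by
      obtain ⟨x, hx⟩ := exists_par_of_mem_stab g.2
      exact ⟨x, Subtype.ext hx⟩⟩

theorem stab_fixed_vec (w : Fin 3 → F) (hw : ∀ g ∈ stabU F (2 ^ n), g • w = w) :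
    w = w 0 • ![1, 1, 0] := by
  have h2 := suz_two F n
  have h := hw _ (parToSU_mem_stab (Par.lift 1))
  rw [su_smul_def, parToSU_coe, gmat_mulVec] at h
  have h0 := congrFun h 0
  have h2' := congrFun h 2
  simp only [Matrix.cons_val_zero, Matrix.cons_val_two, Matrix.tail_cons, Matrix.head_cons,
    Par.lift_a, one_pow, one_mul] at h0 h2'
  have e1 : w 1 = w 0 := by linear_combination h2' - w 0 * h2
  have e2 : w 2 = 0 := by
    rw [e1] at h0
    linear_combination h0 - (Par.lift (1 : F) : Par F n).b * w 0 * h2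
  ext i
  fin_cases i
  · simp
  · simp [e1]
  · simp [e2]

theorem stab_maximal (P : Subgroup ↥(Cfsg.SU 3 F (2 ^ n))) (hP : IsPGroup 2 P)
    (hUP : stabU F (2 ^ n) ≤ P) : P = stabU F (2 ^ n) := by
  apply le_antisymm _ hUP
  haveI : Fact (Nat.Prime 2) := ⟨Nat.prime_two⟩
  have hmod := hP.card_modEq_card_fixedPoints (Fin 3 → F)
  have hcardV : Nat.card (Fin 3 → F) = ((2 ^ n) ^ 2) ^ 3 := by
    rw [Nat.card_eq_fintype_card, Fintype.card_fun, hS.card, Fintype.card_fin]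
  have hq := suz_q_gt F n
  have heven : Nat.card (MulAction.fixedPoints P (Fin 3 → F)) % 2 = 0 := by
    have h1 : Nat.card (Fin 3 → F) % 2 = 0 := by
      rw [hcardV]
      have hev : Even (((2 ^ n) ^ 2) ^ 3) := by
        rw [← pow_mul, ← pow_mul]
        exact Nat.even_pow.mpr ⟨even_two, by have := hS.pos; omega⟩
      exact Nat.even_iff.mp hev
    have h3 := hmod
    unfold Nat.ModEq at h3
    omega
  obtain ⟨w, hwfix, hw0⟩ : ∃ w : Fin 3 → F, w ∈ MulAction.fixedPoints P (Fin 3 → F) ∧ w ≠ 0 := by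
    by_contra hcon
    push Not at hcon
    have : Nat.card (MulAction.fixedPoints P (Fin 3 → F)) = 1 := by
      rw [Nat.card_eq_one_iff_unique]
      refine ⟨⟨fun x y => Subtype.ext ?_⟩, ⟨⟨0, ?_⟩⟩⟩
      · rw [hcon x.1 x.2, hcon y.1 y.2]
      · intro g
        show (g.1.1 : Matrix (Fin 3) (Fin 3) F) *ᵥ 0 = 0
        simp
    omega
  have hw : ∀ g ∈ P, g • w = w := fun g hg => hwfix ⟨g, hg⟩
  have hvec := stab_fixed_vec w (fun g hg => hw g (hUP hg))
  have hc : w 0 ≠ 0 := by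
    intro h0
    apply hw0
    rw [hvec, h0, zero_smul]
  intro g hg
  rw [mem_stabU]
  have h1 := hw g hg
  rw [su_smul_def] at h1
  rw [hvec, Matrix.mulVec_smul] at h1
  have h4 : w 0 • ((g.1 : Matrix (Fin 3) (Fin 3) F) *ᵥ ![1, 1, 0]) = w 0 • ![1, 1, 0] := by
    rw [h1, ← hvec]
  exact smul_right_injective (Fin 3 → F) hc h4

theorem stab_card : Nat.card ↥(stabU F (2 ^ n)) = (2 ^ n) ^ 3 := by
  rw [← Nat.card_congr (parEquivStab (F := F) (n := n)).toEquiv, Par.card_eq]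

theorem stab_isPGroup : IsPGroup 2 ↥(stabU F (2 ^ n)) :=
  IsPGroup.of_card (n := 3 * n) (by rw [stab_card, ← pow_mul, mul_comm])

theorem exists_sylow_eq_stab :
    ∃ Q : Sylow 2 ↥(Cfsg.SU 3 F (2 ^ n)), (Q : Subgroup ↥(Cfsg.SU 3 F (2 ^ n))) = stabU F (2 ^ n) := by
  obtain ⟨Q, hQ⟩ := (stab_isPGroup (F := F) (n := n)).exists_le_sylow
  exact ⟨Q, stab_maximal (F := F) (n := n) (Q : Subgroup ↥(Cfsg.SU 3 F (2 ^ n))) Q.isPGroup' hQ⟩

/-- Every Sylow 2-subgroup of `SU_3(2^n)` is isomorphic to the model. -/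
theorem sylow_su_iso (P : Sylow 2 ↥(Cfsg.SU 3 F (2 ^ n))) :
    Nonempty (Par F n ≃* ↥(P : Subgroup ↥(Cfsg.SU 3 F (2 ^ n)))) := by
  haveI : Fact (Nat.Prime 2) := ⟨Nat.prime_two⟩
  obtain ⟨Q, hQ⟩ := exists_sylow_eq_stab (F := F) (n := n)
  obtain ⟨g, hg⟩ := MulAction.exists_smul_eq ↥(Cfsg.SU 3 F (2 ^ n)) Q P
  subst hg
  exact ⟨parEquivStab.trans ((MulEquiv.subgroupCongr hQ.symm).trans (Sylow.equivSMul Q g))⟩

/-- The cyclic permutation matrix, an element of `SU_3`. -/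
def wSU (F : Type*) [Field F] (q : ℕ) : ↥(Cfsg.SU 3 F q) :=
  ⟨⟨!![0, 0, 1; 1, 0, 0; 0, 1, 0], by
    rw [Matrix.det_fin_three]
    simp⟩, by
    intro u v
    show Cfsg.hermForm 3 F q (!![0, 0, 1; 1, 0, 0; 0, 1, 0] *ᵥ u) (!![0, 0, 1; 1, 0, 0; 0, 1, 0] *ᵥ v)
      = Cfsg.hermForm 3 F q u v
    simp [Cfsg.hermForm, Matrix.mulVec, dotProduct, Fin.sum_univ_three]
    ring⟩

theorem stab_inf_center :
    stabU F (2 ^ n) ⊓ Subgroup.center ↥(Cfsg.SU 3 F (2 ^ n)) = ⊥ := by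
  rw [eq_bot_iff]
  rintro z ⟨hz1, hz2⟩
  rw [Subgroup.mem_bot]
  obtain ⟨x, rfl⟩ := exists_par_of_mem_stab hz1
  have hz2' := Subgroup.mem_center_iff.mp hz2
  have hxc : x ∈ Subgroup.center (Par F n) := by
    rw [Subgroup.mem_center_iff]
    intro y
    apply parToSU_injective
    rw [parToSU_mul, parToSU_mul]
    exact hz2' _
  have hxa := (Par.mem_center_iff x).mp hxc
  have hw := hz2' (wSU F (2 ^ n))
  have hm : (!![0, 0, 1; 1, 0, 0; 0, 1, 0] : Matrix (Fin 3) (Fin 3) F) * gmat n x.a x.b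
      = gmat n x.a x.b * !![0, 0, 1; 1, 0, 0; 0, 1, 0] :=
    congrArg (fun g : ↥(Cfsg.SU 3 F (2 ^ n)) => (g.1 : Matrix (Fin 3) (Fin 3) F)) hw
  have h00 := congrFun (congrFun hm 0) 0
  simp [gmat, Matrix.mul_apply, Fin.sum_univ_three, hxa] at h00
  have hx1 : x = 1 := by
    apply Par.ext
    · exact hxa
    · exact h00.symm
  rw [hx1, parToSU_one]

/-- Every Sylow 2-subgroup of `PSU_3(2^n)` is isomorphic to the model. -/
theorem sylow_psu_iso (S : Sylow 2 (Cfsg.PSU 3 F (2 ^ n))) :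
    Nonempty (Par F n ≃* ↥(S : Subgroup (Cfsg.PSU 3 F (2 ^ n)))) := by
  haveI : Fact (Nat.Prime 2) := ⟨Nat.prime_two⟩
  obtain ⟨Q, hQ⟩ := exists_sylow_eq_stab (F := F) (n := n)
  set π := QuotientGroup.mk' (Subgroup.center ↥(Cfsg.SU 3 F (2 ^ n))) with hπdef
  have hπ : Function.Surjective π := QuotientGroup.mk'_surjective _
  set Q' : Sylow 2 (Cfsg.PSU 3 F (2 ^ n)) := Q.mapSurjective hπ with hQ'def
  obtain ⟨g, hg⟩ := MulAction.exists_smul_eq (Cfsg.PSU 3 F (2 ^ n)) Q' S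
  have hinj : Function.Injective (π.subgroupMap (stabU F (2 ^ n))) := by
    rw [injective_iff_map_eq_one]
    intro x hx
    have h1 : π x.1 = 1 := congrArg Subtype.val hx
    have h2 : x.1 ∈ Subgroup.center ↥(Cfsg.SU 3 F (2 ^ n)) := by
      rwa [hπdef, QuotientGroup.mk'_apply, QuotientGroup.eq_one_iff] at h1
    have h3 : x.1 ∈ stabU F (2 ^ n) ⊓ Subgroup.center ↥(Cfsg.SU 3 F (2 ^ n)) := ⟨x.2, h2⟩
    rw [stab_inf_center] at h3
    exact Subtype.ext (Subgroup.mem_bot.mp h3)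
  let e1 : ↥(stabU F (2 ^ n)) ≃* ↥((stabU F (2 ^ n)).map π) :=
    MulEquiv.ofBijective _ ⟨hinj, π.subgroupMap_surjective _⟩
  have hQ' : (Q' : Subgroup (Cfsg.PSU 3 F (2 ^ n))) = (stabU F (2 ^ n)).map π := by
    rw [hQ'def, Sylow.coe_mapSurjective, hQ]
  subst hg
  exact ⟨parEquivStab.trans (e1.trans ((MulEquiv.subgroupCongr hQ'.symm).trans
    (Sylow.equivSMul Q' g)))⟩

end su2

end Cfsg.Agent.H60
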