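import Mathlib
import Cfsg.Agent.H60.SuzPar

set_option autoImplicit false

namespace Cfsg.Agent.H60

open Finset

open scoped Classical

section charsum

variable {F : Type*} [Field F] [Fintype F] {n : ℕ} [hS : SuzFin F n]

/-- The trace `x ↦ x + x^q`. -/
def trq (n : ℕ) (x : F) : F := x + x ^ (2 ^ n)

theorem trq_add (x y : F) : trq n (x + y) = trq n x + trq n y := by
  unfold trq
  rw [suz_add]
  ring

theorem trq_zero : trq n (0 : F) = 0 := by
  unfold trq
  rw [Par.zero_pow_q]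
  ring

theorem norm_add (a w : F) :
    (a + w) ^ (2 ^ n + 1) = a ^ (2 ^ n + 1) + w ^ (2 ^ n + 1) + trq n (a ^ (2 ^ n) * w) := by
  unfold trq
  rw [pow_succ, pow_succ, pow_succ, suz_add, mul_pow, suz_frob]
  ring

/-- A `±1`-valued additive character. -/
structure ChiHyp (χ : F → ℤ) : Prop where
  mul : ∀ x y, χ (x + y) = χ x * χ y
  sq : ∀ x, χ x * χ x = 1

omit [Fintype F] hS in
theorem ChiHyp.zero {χ : F → ℤ} (hχ : ChiHyp χ) : χ 0 = 1 := by
  have h1 := hχ.mul 0 0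
  have h2 := hχ.sq 0
  rw [add_zero] at h1
  rw [h1]
  exact h2

theorem sum_K0 {χ : F → ℤ} (hχ : ChiHyp χ) {c0 : F} (hc0 : c0 ∈ K0 F n) (hχc0 : χ c0 = -1) :
    ∑ c ∈ K0 F n, χ c = 0 := by
  have h2 := suz_two F n
  have h : ∑ c ∈ K0 F n, χ c = ∑ c ∈ K0 F n, χ (c + c0) := by
    apply Finset.sum_nbij' (fun c => c + c0) (fun c => c + c0)
    · intro c hc
      exact add_mem_K0 n hc hc0
    · intro c hc
      exact add_mem_K0 n hc hc0
    · intro c _
      show c + c0 + c0 = c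
      linear_combination c0 * h2
    · intro c _
      show c + c0 + c0 = c
      linear_combination c0 * h2
    · intro c _
      show χ c = χ (c + c0 + c0)
      congr 1
      linear_combination -c0 * h2
  have h' : ∑ c ∈ K0 F n, χ (c + c0) = -∑ c ∈ K0 F n, χ c := by
    rw [← Finset.sum_neg_distrib]
    apply Finset.sum_congr rfl
    intro c _
    rw [hχ.mul, hχc0]
    ring
  linarith

theorem sum_tr {χ : F → ℤ} (hχ : ChiHyp χ) {c0 : F} (hc0 : c0 ∈ K0 F n) (hχc0 : χ c0 = -1)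
    {u : F} (hu : u ≠ 0) : ∑ a : F, χ (trq n (a ^ (2 ^ n) * u)) = 0 := by
  obtain ⟨e0, he0⟩ := tr_surj n hc0
  set a1 : F := (e0 / u) ^ (2 ^ n) with ha1
  have hkey : ∀ a : F, trq n ((a + a1) ^ (2 ^ n) * u) = trq n (a ^ (2 ^ n) * u) + c0 := by
    intro a
    have : (a + a1) ^ (2 ^ n) * u = a ^ (2 ^ n) * u + e0 := by
      rw [suz_add, ha1, suz_frob]
      field_simp
    rw [this, trq_add]
    congr 1
  have h1 : ∑ a : F, χ (trq n ((a + a1) ^ (2 ^ n) * u)) = ∑ a : F, χ (trq n (a ^ (2 ^ n) * u)) :=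
    Equiv.sum_comp (Equiv.addRight a1) (fun a => χ (trq n (a ^ (2 ^ n) * u)))
  have h2 : ∑ a : F, χ (trq n ((a + a1) ^ (2 ^ n) * u)) = -∑ a : F, χ (trq n (a ^ (2 ^ n) * u)) := by
    rw [← Finset.sum_neg_distrib]
    apply Finset.sum_congr rfl
    intro a _
    rw [hkey, hχ.mul, hχc0]
    ring
  linarith

theorem sum_norm {χ : F → ℤ} (hχ : ChiHyp χ) {c0 : F} (hc0 : c0 ∈ K0 F n) (hχc0 : χ c0 = -1) :
    ∑ a : F, χ (a ^ (2 ^ n + 1)) = -(2 ^ n : ℤ) := by
  have hq := suz_q_gt F n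
  set S : ℤ := ∑ a : F, χ (a ^ (2 ^ n + 1)) with hSdef
  have hK := K0_card (F := F) n
  -- first evaluation
  have hD1 : ∑ a : F, ∑ k ∈ K0 F n, χ ((a * k) ^ (2 ^ n + 1)) = (2 ^ n : ℤ) := by
    have hin : ∀ a : F, ∑ k ∈ K0 F n, χ ((a * k) ^ (2 ^ n + 1))
        = if a = 0 then (2 ^ n : ℤ) else 0 := by
      intro a
      by_cases ha : a = 0
      · rw [if_pos ha, ha]
        have : ∀ k ∈ K0 F n, χ (((0 : F) * k) ^ (2 ^ n + 1)) = 1 := by
          intro k _
          rw [zero_mul, zero_pow (Nat.succ_ne_zero _), hχ.zero]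
        rw [Finset.sum_congr rfl this]
        simp [hK]
      · rw [if_neg ha]
        set f : F → F := fun k => a ^ (2 ^ n + 1) * k ^ 2 with hf
        have hfk : ∀ k ∈ K0 F n, (a * k) ^ (2 ^ n + 1) = f k := by
          intro k hk
          rw [hf]
          show (a * k) ^ (2 ^ n + 1) = a ^ (2 ^ n + 1) * k ^ 2
          rw [mul_pow, pow_succ k, mem_K0.mp hk]
          ring
        have hinj : Set.InjOn f (K0 F n : Set F) := by
          intro k _ k' _ hkk
          have h0 : a ^ (2 ^ n + 1) ≠ 0 := pow_ne_zero _ ha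
          exact suz_sq_inj n (mul_left_cancel₀ h0 hkk)
        have himg : (K0 F n).image f = K0 F n := by
          apply Finset.eq_of_subset_of_card_le
          · intro c hc
            obtain ⟨k, hk, rfl⟩ := Finset.mem_image.mp hc
            exact mul_mem_K0 n (norm_mem_K0 n a) (by rw [pow_two]; exact mul_mem_K0 n hk hk)
          · rw [Finset.card_image_of_injOn hinj]
        rw [Finset.sum_congr rfl (fun k hk => by rw [hfk k hk])]
        rw [← Finset.sum_image (f := χ) (g := f) hinj, himg]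
        exact sum_K0 hχ hc0 hχc0
    rw [Finset.sum_congr rfl (fun a _ => hin a)]
    simp
  -- second evaluation
  have hD2 : ∑ a : F, ∑ k ∈ K0 F n, χ ((a * k) ^ (2 ^ n + 1))
      = ((2 ^ n : ℤ)) ^ 2 + ((2 ^ n : ℤ) - 1) * S := by
    rw [Finset.sum_comm]
    have hin : ∀ k ∈ K0 F n, ∑ a : F, χ ((a * k) ^ (2 ^ n + 1))
        = if k = 0 then ((2 ^ n : ℤ)) ^ 2 else S := by
      intro k _
      by_cases hk : k = 0
      · rw [if_pos hk, hk]
        have : ∀ a ∈ (Finset.univ : Finset F), χ ((a * (0 : F)) ^ (2 ^ n + 1)) = 1 := by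
          intro a _
          rw [mul_zero, zero_pow (Nat.succ_ne_zero _), hχ.zero]
        rw [Finset.sum_congr rfl this]
        simp [hS.card]
      · rw [if_neg hk]
        exact Equiv.sum_comp (Equiv.mulRight₀ k hk) (fun a => χ (a ^ (2 ^ n + 1)))
    rw [Finset.sum_congr rfl hin, ← Finset.add_sum_erase _ _ (zero_mem_K0 (F := F) n)]
    rw [if_pos rfl]
    have h3 : ∀ k ∈ (K0 F n).erase 0, (if k = 0 then ((2 ^ n : ℤ)) ^ 2 else S) = S := by
      intro k hk
      rw [if_neg (Finset.ne_of_mem_erase hk)]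
    rw [Finset.sum_congr rfl h3, Finset.sum_const, Finset.card_erase_of_mem (zero_mem_K0 n), hK]
    rw [nsmul_eq_mul, Nat.cast_sub (by omega)]
    push_cast
    ring
  have hq' : (2 : ℤ) ≤ (2 ^ n : ℤ) := by exact_mod_cast hq
  have h4 : ((2 ^ n : ℤ) - 1) * (S + 2 ^ n) = 0 := by
    rw [hD1] at hD2
    linarith
  rcases mul_eq_zero.mp h4 with h5 | h5
  · linarith
  · linarith


/-- The key counting lemma: there is no "totally singular" additive subgroup of order `≥ q`
for the quadratic forms `χ ∘ N`. -/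
theorem charsum_false {χ : F → ℤ} (hχ : ChiHyp χ) {c0 : F} (hc0 : c0 ∈ K0 F n) (hχc0 : χ c0 = -1)
    (W : Finset F) (hWadd : ∀ a ∈ W, ∀ b ∈ W, a + b ∈ W) (hWcard : 2 ^ n ≤ W.card)
    (hWN : ∀ w ∈ W, χ (w ^ (2 ^ n + 1)) = 1) : False := by
  have h2 := suz_two F n
  have hq := suz_q_gt F n
  set g : F → ℤ := fun a => ∑ w ∈ W, χ (trq n (a ^ (2 ^ n) * w)) with hg
  have hsumsq : ∑ a : F, g a * g a = ((2 ^ n : ℤ)) ^ 2 * W.card := by
    have h1 : ∀ a : F, g a * g a
        = ∑ w ∈ W, ∑ w' ∈ W, χ (trq n (a ^ (2 ^ n) * (w + w'))) := by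
      intro a
      show (∑ w ∈ W, χ (trq n (a ^ (2 ^ n) * w))) * (∑ w ∈ W, χ (trq n (a ^ (2 ^ n) * w))) = _
      rw [Finset.sum_mul_sum]
      apply Finset.sum_congr rfl
      intro w _
      apply Finset.sum_congr rfl
      intro w' _
      rw [mul_add, trq_add, hχ.mul]
    rw [Finset.sum_congr rfl (fun a _ => h1 a), Finset.sum_comm]
    have h3 : ∀ w ∈ W, ∑ a : F, ∑ w' ∈ W, χ (trq n (a ^ (2 ^ n) * (w + w')))
        = ((2 ^ n : ℤ)) ^ 2 := by
      intro w hw
      rw [Finset.sum_comm]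
      have h4 : ∀ w' ∈ W, ∑ a : F, χ (trq n (a ^ (2 ^ n) * (w + w')))
          = if w' = w then ((2 ^ n : ℤ)) ^ 2 else 0 := by
        intro w' _
        by_cases hww : w' = w
        · rw [if_pos hww, hww]
          have h5 : w + w = 0 := suz_add_self n w
          have : ∀ a ∈ (Finset.univ : Finset F), χ (trq n (a ^ (2 ^ n) * (w + w))) = 1 := by
            intro a _
            rw [h5, mul_zero, trq_zero, hχ.zero]
          rw [Finset.sum_congr rfl this]
          simp [hS.card]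
        · rw [if_neg hww]
          apply sum_tr hχ hc0 hχc0
          intro h0
          apply hww
          linear_combination h0 - w * h2
      rw [Finset.sum_congr rfl h4, Finset.sum_ite_eq' W w, if_pos hw]
    rw [Finset.sum_congr rfl h3, Finset.sum_const, nsmul_eq_mul]
    ring
  have hgW : ∀ a ∈ W, g a = W.card := by
    intro a ha
    have : ∀ w ∈ W, χ (trq n (a ^ (2 ^ n) * w)) = 1 := by
      intro w hw
      have h6 := hWN (a + w) (hWadd a ha w hw)
      rw [norm_add, hχ.mul, hχ.mul, hWN a ha, hWN w hw] at h6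
      linarith
    show ∑ w ∈ W, χ (trq n (a ^ (2 ^ n) * w)) = W.card
    rw [Finset.sum_congr rfl this]
    simp
  have hQpos : (0 : ℤ) < 2 ^ n := by positivity
  have hWpos : (0 : ℤ) < W.card := by
    have : 0 < W.card := lt_of_lt_of_le (by positivity) hWcard
    exact_mod_cast this
  have hsplit : ∑ a : F, g a * g a = ∑ a ∈ W, g a * g a + ∑ a ∈ Wᶜ, g a * g a :=
    (Finset.sum_add_sum_compl W _).symm
  have hW3 : ∑ a ∈ W, g a * g a = (W.card : ℤ) ^ 3 := by
    rw [Finset.sum_congr rfl (fun a ha => by rw [hgW a ha]), Finset.sum_const, nsmul_eq_mul]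
    ring
  have hnonneg : 0 ≤ ∑ a ∈ Wᶜ, g a * g a := Finset.sum_nonneg (fun a _ => mul_self_nonneg _)
  have hWle : (W.card : ℤ) ≤ 2 ^ n := by
    by_contra hcon
    push Not at hcon
    have h7 : (W.card : ℤ) ^ 3 ≤ (2 ^ n : ℤ) ^ 2 * W.card := by
      rw [← hsumsq, hsplit, hW3]
      linarith
    nlinarith [mul_pos (sub_pos.mpr hcon) (add_pos hWpos hQpos),
      mul_pos hWpos (mul_pos (sub_pos.mpr hcon) (add_pos hWpos hQpos))]
  have hWeq : (W.card : ℤ) = 2 ^ n := le_antisymm hWle (by exact_mod_cast hWcard)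
  have hzero : ∑ a ∈ Wᶜ, g a * g a = 0 := by
    rw [hsplit, hW3, hWeq] at hsumsq
    linarith
  have hg0 : ∀ a ∈ Wᶜ, g a = 0 := by
    intro a ha
    have := (Finset.sum_eq_zero_iff_of_nonneg (fun a _ => mul_self_nonneg (g a))).mp hzero a ha
    exact mul_self_eq_zero.mp this
  have hSn := sum_norm hχ hc0 hχc0
  have hSW : (∑ a : F, χ (a ^ (2 ^ n + 1))) * W.card = (W.card : ℤ) ^ 2 := by
    have h7 : ∀ w ∈ W, ∑ a : F, χ ((a + w) ^ (2 ^ n + 1)) = ∑ a : F, χ (a ^ (2 ^ n + 1)) :=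
      fun w _ => Equiv.sum_comp (Equiv.addRight w) (fun a => χ (a ^ (2 ^ n + 1)))
    have h8 : ∑ w ∈ W, ∑ a : F, χ ((a + w) ^ (2 ^ n + 1))
        = (∑ a : F, χ (a ^ (2 ^ n + 1))) * W.card := by
      rw [Finset.sum_congr rfl h7, Finset.sum_const, nsmul_eq_mul]
      ring
    rw [← h8, Finset.sum_comm]
    have h9 : ∀ a : F, ∑ w ∈ W, χ ((a + w) ^ (2 ^ n + 1)) = χ (a ^ (2 ^ n + 1)) * g a := by
      intro a
      show _ = χ (a ^ (2 ^ n + 1)) * ∑ w ∈ W, χ (trq n (a ^ (2 ^ n) * w))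
      rw [Finset.mul_sum]
      apply Finset.sum_congr rfl
      intro w hw
      rw [norm_add, hχ.mul, hχ.mul, hWN w hw]
      ring
    rw [Finset.sum_congr rfl (fun a _ => h9 a), ← Finset.sum_add_sum_compl W]
    have h10 : ∑ a ∈ Wᶜ, χ (a ^ (2 ^ n + 1)) * g a = 0 :=
      Finset.sum_eq_zero (fun a ha => by rw [hg0 a ha, mul_zero])
    have h11 : ∑ a ∈ W, χ (a ^ (2 ^ n + 1)) * g a = (W.card : ℤ) ^ 2 := by
      rw [Finset.sum_congr rfl (fun a ha => by rw [hWN a ha, hgW a ha, one_mul]),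
        Finset.sum_const, nsmul_eq_mul]
      ring
    rw [h10, h11, add_zero]
  rw [hSn, hWeq] at hSW
  nlinarith

end charsum

end Cfsg.Agent.H60
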