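import Mathlib
import Cfsg.Agent.H60.SuzPar

set_option autoImplicit false

namespace Cfsg.Agent.H60

open scoped Classical

open scoped commutatorElement

section transport

variable {F : Type*} [Field F] [Fintype F] {n : ℕ} [hS : SuzFin F n]
variable {S : Type*} [Group S] (e : Par F n ≃* S)

omit [Fintype F] hS in
theorem mulEquiv_mem_center {G H : Type*} [Group G] [Group H] (e : G ≃* H) (x : G) :
    e x ∈ Subgroup.center H ↔ x ∈ Subgroup.center G := by
  rw [Subgroup.mem_center_iff, Subgroup.mem_center_iff]
  constructor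
  · intro h y
    apply e.injective
    rw [map_mul, map_mul]
    exact h (e y)
  · intro h g
    obtain ⟨y, rfl⟩ := e.surjective g
    rw [← map_mul, ← map_mul, h y]

include e

theorem tr_card : Nat.card S = (2 ^ n) ^ 3 := by
  rw [← Nat.card_congr e.toEquiv, Par.card_eq]

theorem tr_card_center : Nat.card (Subgroup.center S) = 2 ^ n := by
  rw [← Par.card_center (F := F) (n := n)]
  exact (Nat.card_congr (Equiv.subtypeEquiv e.toEquiv
    (fun x => (mulEquiv_mem_center e x).symm))).symm

theorem tr_sq_mem_center (s : S) : s * s ∈ Subgroup.center S := by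
  obtain ⟨x, rfl⟩ := e.surjective s
  rw [← map_mul, mulEquiv_mem_center, Par.mem_center_iff]
  exact Par.mul_self_a x

theorem tr_center_sq {s : S} (hs : s ∈ Subgroup.center S) : s * s = 1 := by
  obtain ⟨x, rfl⟩ := e.surjective s
  rw [mulEquiv_mem_center, Par.mem_center_iff] at hs
  rw [← map_mul, (Par.mul_self_eq_one_iff x).mpr hs, map_one]

theorem tr_mem_center_of_sq {s : S} (hs : s * s = 1) : s ∈ Subgroup.center S := by
  obtain ⟨x, rfl⟩ := e.surjective s
  rw [mulEquiv_mem_center, Par.mem_center_iff]
  rw [← map_mul] at hs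
  exact (Par.mul_self_eq_one_iff x).mp ((e.map_eq_one_iff).mp hs)

theorem tr_orderOf_two_iff (s : S) : orderOf s = 2 ↔ s ∈ Subgroup.center S ∧ s ≠ 1 := by
  constructor
  · intro h
    refine ⟨tr_mem_center_of_sq e ?_, ?_⟩
    · have := pow_orderOf_eq_one s
      rw [h, pow_two] at this
      exact this
    · rintro rfl
      rw [orderOf_one] at h
      omega
  · rintro ⟨h1, h2⟩
    haveI : Fact (Nat.Prime 2) := ⟨Nat.prime_two⟩
    exact orderOf_eq_prime (by rw [pow_two]; exact tr_center_sq e h1) h2

theorem tr_center_eq_closure :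
    Subgroup.center S = Subgroup.closure {x : S | orderOf x = 2} := by
  apply le_antisymm
  · intro s hs
    by_cases h1 : s = 1
    · rw [h1]
      exact one_mem _
    · exact Subgroup.subset_closure ((tr_orderOf_two_iff e s).mpr ⟨hs, h1⟩)
  · rw [Subgroup.closure_le]
    intro s hs
    exact ((tr_orderOf_two_iff e s).mp hs).1

theorem tr_center_eq_commutator : Subgroup.center S = commutator S := by
  apply le_antisymm
  · intro s hs
    obtain ⟨z, rfl⟩ := e.surjective s
    rw [mulEquiv_mem_center] at hs
    obtain ⟨x, y, hxy⟩ := Par.exists_commutator_eq hs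
    rw [← hxy, map_commutatorElement, commutator_def]
    exact Subgroup.commutator_mem_commutator (Subgroup.mem_top _) (Subgroup.mem_top _)
  · rw [commutator_def, Subgroup.commutator_le]
    intro g₁ _ g₂ _
    obtain ⟨x, rfl⟩ := e.surjective g₁
    obtain ⟨y, rfl⟩ := e.surjective g₂
    rw [← map_commutatorElement, mulEquiv_mem_center]
    exact Par.commutator_mem_center x y

theorem tr_card_quot : Nat.card (S ⧸ Subgroup.center S) = (2 ^ n) ^ 2 := by
  have h1 := Subgroup.card_eq_card_quotient_mul_card_subgroup (Subgroup.center S)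
  rw [tr_card e, tr_card_center e] at h1
  have hq := suz_q_gt F n
  have h2 : (2 ^ n) ^ 2 * 2 ^ n = Nat.card (S ⧸ Subgroup.center S) * 2 ^ n := by
    rw [← h1]; ring
  exact (Nat.eq_of_mul_eq_mul_right (by omega) h2).symm

theorem tr_quot_sq (x : S ⧸ Subgroup.center S) : x ^ 2 = 1 := by
  induction x using QuotientGroup.induction_on with
  | H s =>
    rw [← QuotientGroup.mk_pow, QuotientGroup.eq_one_iff, pow_two]
    exact tr_sq_mem_center e s

end transport

end Cfsg.Agent.H60
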