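import Mathlib
import Cfsg.Agent.H60.SuzChar
import Cfsg.Agent.H60.SuzFacts

set_option autoImplicit false

namespace Cfsg.Agent.H60

open Finset

theorem zmod2_chi (u v : ZMod 2) :
    (if u + v = 0 then (1 : ℤ) else -1) = (if u = 0 then 1 else -1) * (if v = 0 then 1 else -1) := by
  revert u v
  decide

open scoped Classical

section aut

variable {F : Type*} [Field F] [Fintype F] {n : ℕ} [hS : SuzFin F n]

/-- The map induced by an automorphism on first coordinates. -/
noncomputable def autA (α : MulAut (Par F n)) (a : F) : F := (α (Par.lift a)).a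

theorem autA_spec (α : MulAut (Par F n)) (x : Par F n) : (α x).a = autA α x.a := by
  have hc : (Par.lift x.a)⁻¹ * x ∈ Subgroup.center (Par F n) := by
    rw [Par.mem_center_iff]
    simp only [Par.mul_a, Par.inv_a, Par.lift_a]
    exact suz_add_self n x.a
  have hc' : α ((Par.lift x.a)⁻¹ * x) ∈ Subgroup.center (Par F n) :=
    (mulEquiv_mem_center α _).mpr hc
  rw [Par.mem_center_iff] at hc'
  have hx : x = Par.lift x.a * ((Par.lift x.a)⁻¹ * x) := by group
  have h1 : (α x).a = (α (Par.lift x.a * ((Par.lift x.a)⁻¹ * x))).a := by rw [← hx]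
  rw [h1, map_mul, Par.mul_a, hc', add_zero]
  rfl

theorem autA_add (α : MulAut (Par F n)) (a a' : F) :
    autA α (a + a') = autA α a + autA α a' := by
  have h := autA_spec α (Par.lift a * Par.lift a')
  simp only [map_mul, Par.mul_a, Par.lift_a] at h
  exact h.symm

/-- The squaring relation: the norm of `A a` is read off from `α (x * x)`. -/
theorem autA_norm (α : MulAut (Par F n)) (a : F) :
    α (Par.zc (a ^ (2 ^ n + 1)) (mem_K0.mp (norm_mem_K0 n a)))
      = Par.zc ((autA α a) ^ (2 ^ n + 1)) (mem_K0.mp (norm_mem_K0 n _)) := by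
  have hx2 : (Par.lift a : Par F n) * Par.lift a
      = Par.zc (a ^ (2 ^ n + 1)) (mem_K0.mp (norm_mem_K0 n a)) := by
    apply Par.ext
    · exact Par.mul_self_a _
    · exact Par.mul_self_b _
  rw [← hx2, map_mul]
  apply Par.ext
  · exact Par.mul_self_a _
  · rw [Par.mul_self_b]
    rfl

/-- An automorphism whose square is inner fixes the centre elementwise. -/
theorem aut_fix_center (α : MulAut (Par F n)) (g : Par F n)
    (hα : ∀ x, α (α x) = g * x * g⁻¹) :
    ∀ z ∈ Subgroup.center (Par F n), α z = z := by
  have h2 := suz_two F n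
  have hAadd : ∀ a a', autA α (a + a') = autA α a + autA α a' := autA_add α
  have hAA : ∀ a, autA α (autA α a) = a := by
    intro a
    have h1 := autA_spec α (α (Par.lift a))
    rw [hα] at h1
    simp only [Par.mul_a, Par.inv_a, Par.lift_a] at h1
    have h3 : (α (Par.lift a)).a = autA α a := rfl
    rw [h3] at h1
    linear_combination -h1 + g.a * h2
  set W : Finset F := Finset.univ.filter (fun a => autA α a = a) with hW
  have hmemW : ∀ a, a ∈ W ↔ autA α a = a := by
    intro a
    rw [hW, Finset.mem_filter]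
    simp
  have hWadd : ∀ a ∈ W, ∀ b ∈ W, a + b ∈ W := by
    intro a ha b hb
    rw [hmemW] at *
    rw [hAadd, ha, hb]
  have hWcard : 2 ^ n ≤ W.card := by
    set D : F → F := fun a => autA α a + a with hD
    have hDW : ∀ a, D a ∈ W := by
      intro a
      rw [hmemW]
      show autA α (autA α a + a) = autA α a + a
      rw [hAadd, hAA]
      ring
    have hfib : ∀ c ∈ Finset.univ.image D,
        (Finset.univ.filter (fun x => D x = c)).card ≤ W.card := by
      intro c hc
      obtain ⟨a0, -, rfl⟩ := Finset.mem_image.mp hc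
      apply Finset.card_le_card_of_injOn (fun x => x + a0)
      · intro x hx
        have hx' : autA α x + x = autA α a0 + a0 := (Finset.mem_filter.mp hx).2
        show x + a0 ∈ W
        rw [hmemW, hAadd]
        linear_combination hx' + (autA α a0 - x) * h2
      · intro x _ y _ hxy
        exact add_right_cancel hxy
    have h1 := Finset.card_le_mul_card_image (Finset.univ : Finset F) W.card hfib
    have himg : (Finset.univ.image D).card ≤ W.card :=
      Finset.card_le_card (by
        intro c hc
        obtain ⟨a, -, rfl⟩ := Finset.mem_image.mp hc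
        exact hDW a)
    rw [Finset.card_univ, hS.card] at h1
    by_contra hcon
    push Not at hcon
    nlinarith
  have hfixN : ∀ a ∈ W, α (Par.zc (a ^ (2 ^ n + 1)) (mem_K0.mp (norm_mem_K0 n a)))
      = Par.zc (a ^ (2 ^ n + 1)) (mem_K0.mp (norm_mem_K0 n a)) := by
    intro a ha
    rw [autA_norm]
    apply Par.ext
    · rfl
    · show (autA α a) ^ (2 ^ n + 1) = a ^ (2 ^ n + 1)
      rw [(hmemW a).mp ha]
  intro z hz
  have hza := (Par.mem_center_iff z).mp hz
  by_contra hne
  let D0 : AddSubgroup F :=
    { carrier := {c | ∃ hc : c ^ (2 ^ n) = c, α (Par.zc c hc) = Par.zc c hc}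
      add_mem' := by
        rintro c d ⟨hc, h⟩ ⟨hd, h'⟩
        refine ⟨by rw [suz_add, hc, hd], ?_⟩
        rw [← Par.zc_mul c d hc hd, map_mul, h, h']
      zero_mem' := ⟨Par.zero_pow_q, by rw [Par.zc_zero, map_one]⟩
      neg_mem' := by
        intro c hc
        have e : -c = c := by linear_combination (-c) * h2
        rw [e]
        exact hc }
  have hz_not : z.b ∉ D0 := by
    rintro ⟨hc, h⟩
    apply hne
    rw [Par.eq_zc_of_a_zero hza]
    exact h
  have hzK : z.b ∈ K0 F n := mem_K0.mpr (Par.b_fixed_of_a_zero hza)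
  haveI : CharP F 2 := suz_charP F n
  haveI : Fact (Nat.Prime 2) := ⟨Nat.prime_two⟩
  letI : Algebra (ZMod 2) F := ZMod.algebra F 2
  obtain ⟨f, hf1, hf2⟩ := Submodule.exists_dual_map_eq_bot_of_notMem
    (p := AddSubgroup.toZModSubmodule 2 D0) (x := z.b) (by simpa using hz_not) inferInstance
  set χ : F → ℤ := fun x => if f x = 0 then 1 else -1 with hχdef
  have hχ : ChiHyp χ := by
    refine ⟨fun x y => ?_, fun x => ?_⟩
    · simp only [hχdef, map_add]
      exact zmod2_chi (f x) (f y)
    · simp only [hχdef]
      split_ifs <;> norm_num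
  have hχz : χ z.b = -1 := by simp [hχdef, hf1]
  have hχD : ∀ c ∈ D0, χ c = 1 := by
    intro c hc
    have h3 : f c ∈ (AddSubgroup.toZModSubmodule 2 D0).map f := Submodule.mem_map_of_mem hc
    rw [hf2, Submodule.mem_bot] at h3
    simp [hχdef, h3]
  exact charsum_false hχ hzK hχz W hWadd hWcard (fun w hw => hχD _ ⟨_, hfixN w hw⟩)

/-- If a group `R` has a subgroup of index 2 isomorphic to the model, the centre of that
subgroup is central in `R`. -/
theorem center_le_of_index_two {R : Type*} [Group R] (S' : Subgroup R) (hidx : S'.index = 2)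
    (e : Par F n ≃* ↥S') : (Subgroup.center ↥S').map S'.subtype ≤ Subgroup.center R := by
  haveI hN : S'.Normal := Subgroup.normal_of_index_eq_two hidx
  rintro _ ⟨z, hz, rfl⟩
  rw [Subgroup.mem_center_iff]
  intro r
  set γ : MulAut ↥S' := MulAut.conjNormal r with hγ
  set α : MulAut (Par F n) := (MulAut.congr e.symm) γ with hαdef
  have hr2 : r * r ∈ S' := Subgroup.mul_self_mem_of_index_two hidx r
  have hαapp : ∀ x, α x = e.symm (γ (e x)) := fun x => rfl
  have hα : ∀ x, α (α x) = e.symm ⟨r * r, hr2⟩ * x * (e.symm ⟨r * r, hr2⟩)⁻¹ := by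
    intro x
    rw [hαapp, hαapp, e.apply_symm_apply]
    have h1 : γ (γ (e x)) = ⟨r * r, hr2⟩ * e x * (⟨r * r, hr2⟩ : ↥S')⁻¹ := by
      apply Subtype.ext
      simp only [hγ, MulAut.conjNormal_apply, Subgroup.coe_mul, Subgroup.coe_inv]
      group
    rw [h1, map_mul, map_mul, map_inv, e.symm_apply_apply]
  have hfix := aut_fix_center α _ hα (e.symm z) ((mulEquiv_mem_center e.symm z).mpr hz)
  rw [hαapp, e.apply_symm_apply] at hfix
  have h2 : γ z = z := e.symm.injective hfix
  have h3 : r * (z : R) * r⁻¹ = z := by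
    have := congrArg Subtype.val h2
    simpa [hγ, MulAut.conjNormal_apply] using this
  show r * (z : R) = (z : R) * r
  calc r * (z : R) = r * (z : R) * r⁻¹ * r := by group
    _ = (z : R) * r := by rw [h3]

end aut

end Cfsg.Agent.H60
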