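import Mathlib
import Cfsg.Prelude.Def_LieRecognition
import Cfsg.Agent.H60.SuzPar

set_option autoImplicit false

namespace Cfsg.Agent.H60

open Finset

open scoped Classical

section scale

variable {F : Type*} [Field F] [Fintype F] {n : ℕ} [hS : SuzFin F n]

/-- Scaling by an element `ν` of the fixed field: `(a, b) ↦ (ν a, ν² b)`. -/
def Par.scale (ν : F) (hν : ν ^ (2 ^ n) = ν) (x : Par F n) : Par F n :=
  ⟨ν * x.a, ν ^ 2 * x.b, by
    have hx := x.h
    have e1 : (ν ^ 2 * x.b) ^ (2 ^ n) = ν ^ 2 * x.b ^ (2 ^ n) := by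
      rw [mul_pow, ← pow_mul, mul_comm 2 (2 ^ n), pow_mul, hν]
    have e2 : (ν * x.a) ^ (2 ^ n + 1) = ν ^ 2 * x.a ^ (2 ^ n + 1) := by
      rw [mul_pow, pow_succ ν, hν]
      ring
    rw [e1, e2]
    linear_combination ν ^ 2 * hx⟩

@[simp] theorem Par.scale_a (ν : F) (hν : ν ^ (2 ^ n) = ν) (x : Par F n) :
    (Par.scale ν hν x).a = ν * x.a := rfl

@[simp] theorem Par.scale_b (ν : F) (hν : ν ^ (2 ^ n) = ν) (x : Par F n) :
    (Par.scale ν hν x).b = ν ^ 2 * x.b := rfl

theorem Par.scale_mul (ν : F) (hν : ν ^ (2 ^ n) = ν) (x y : Par F n) :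
    Par.scale ν hν (x * y) = Par.scale ν hν x * Par.scale ν hν y := by
  apply Par.ext
  · simp only [Par.scale_a, Par.mul_a]
    ring
  · simp only [Par.scale_b, Par.mul_b, Par.scale_a, mul_pow, hν]
    ring

/-- The scaling automorphism attached to a nonzero element of the fixed field. -/
def Par.scaleAut (ν : F) (hν : ν ^ (2 ^ n) = ν) (h0 : ν ≠ 0) : MulAut (Par F n) :=
  { toFun := Par.scale ν hν
    invFun := Par.scale ν⁻¹ (by rw [inv_pow, hν])
    left_inv := by
      intro x
      apply Par.ext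
      · simp only [Par.scale_a]
        field_simp
      · simp only [Par.scale_b]
        field_simp
    right_inv := by
      intro x
      apply Par.ext
      · simp only [Par.scale_a]
        field_simp
      · simp only [Par.scale_b]
        field_simp
    map_mul' := Par.scale_mul ν hν }

@[simp] theorem Par.scaleAut_apply (ν : F) (hν : ν ^ (2 ^ n) = ν) (h0 : ν ≠ 0) (x : Par F n) :
    Par.scaleAut ν hν h0 x = Par.scale ν hν x := rfl

theorem norm_fixed (μ : F) : (μ ^ (2 ^ n + 1)) ^ (2 ^ n) = μ ^ (2 ^ n + 1) :=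
  mem_K0.mp (norm_mem_K0 n μ)

/-- The cyclic group `Fˣ` acting on the model through the norm. -/
def Par.scaleHom : Fˣ →* MulAut (Par F n) where
  toFun μ := Par.scaleAut ((μ : F) ^ (2 ^ n + 1)) (norm_fixed _) (pow_ne_zero _ μ.ne_zero)
  map_one' := by
    apply MulEquiv.ext
    intro x
    apply Par.ext
    · simp
    · simp
  map_mul' μ μ' := by
    apply MulEquiv.ext
    intro x
    apply Par.ext
    · simp only [Par.scaleAut_apply, Par.scale_a, MulAut.mul_apply, Units.val_mul]
      ring
    · simp only [Par.scaleAut_apply, Par.scale_b, MulAut.mul_apply, Units.val_mul]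
      ring

theorem Par.scaleHom_apply (μ : Fˣ) (x : Par F n) :
    Par.scaleHom μ x = Par.scale ((μ : F) ^ (2 ^ n + 1)) (norm_fixed _) x := rfl

theorem Par.isSuzuki (hn : 2 ≤ n) : Cfsg.IsSuzukiTwoGroup (Par F n) := by
  refine ⟨inferInstance, Par.isPGroup, Par.not_comm, ?_, ?_⟩
  · have hq : 4 ≤ 2 ^ n := by
      calc 4 = 2 ^ 2 := rfl
        _ ≤ 2 ^ n := Nat.pow_le_pow_right (by norm_num) hn
    have hcard := K0_card (F := F) n
    obtain ⟨c, hc, hc'⟩ : ∃ c ∈ K0 F n, c ∉ ({0, 1} : Finset F) := by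
      apply exists_mem_notMem_of_card_lt_card
      calc ({0, 1} : Finset F).card ≤ 2 := Finset.card_le_two
        _ < (K0 F n).card := by rw [hcard]; omega
    simp only [mem_insert, mem_singleton, not_or] at hc'
    refine ⟨Par.zc 1 (one_pow _), Par.zc c (mem_K0.mp hc), ?_, ?_, Par.zc_mul_self _ _, ?_,
      Par.zc_mul_self _ _⟩
    · intro h
      exact hc'.2 (Par.zc_inj h).symm
    · intro h
      have := congrArg Par.b h
      simp at this
    · intro h
      have := congrArg Par.b h
      simp only [Par.zc_b, Par.one_b] at this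
      exact hc'.1 this
  · refine ⟨Par.scaleHom.range, ?_, ?_⟩
    · exact isCyclic_of_surjective (Par.scaleHom (F := F) (n := n)).rangeRestrict
        (Par.scaleHom (F := F) (n := n)).rangeRestrict_surjective
    · intro x y hx1 hxx hy1 hyy
      have hxa := (Par.mul_self_eq_one_iff x).mp hxx
      have hya := (Par.mul_self_eq_one_iff y).mp hyy
      have hxb : x.b ≠ 0 := by
        intro h
        apply hx1
        apply Par.ext
        · exact hxa
        · exact h
      have hyb : y.b ≠ 0 := by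
        intro h
        apply hy1
        apply Par.ext
        · exact hya
        · exact h
      have hxK := Par.b_fixed_of_a_zero hxa
      have hyK := Par.b_fixed_of_a_zero hya
      have hcK : y.b / x.b ∈ K0 F n := by
        rw [mem_K0, div_pow, hxK, hyK]
      obtain ⟨e, heK, he⟩ := sqrt_mem_K0 n hcK
      have he0 : e ≠ 0 := by
        rintro rfl
        have : y.b / x.b = 0 := by rw [← he]; ring
        exact (div_ne_zero hyb hxb) this
      obtain ⟨μ, hμ⟩ := norm_surj n heK he0
      have hμ0 : μ ≠ 0 := by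
        rintro rfl
        apply he0
        rw [← hμ]
        exact zero_pow (Nat.succ_ne_zero _)
      refine ⟨⟨Par.scaleHom (Units.mk0 μ hμ0), ⟨_, rfl⟩⟩, ?_, ?_⟩
      · show Par.scaleHom (Units.mk0 μ hμ0) x = y
        rw [Par.scaleHom_apply]
        apply Par.ext
        · simp [hxa, hya]
        · simp only [Par.scale_b, Units.val_mk0, hμ, he]
          field_simp
      · rintro ⟨k, μ', rfl⟩ hk
        apply Subtype.ext
        have h1 := congrArg Par.b hk
        have h1' : ((μ' : F) ^ (2 ^ n + 1)) ^ 2 * x.b = y.b := h1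
        have h2 : ((μ' : F) ^ (2 ^ n + 1)) ^ 2 = (μ ^ (2 ^ n + 1)) ^ 2 := by
          rw [hμ, he]
          field_simp
          linear_combination h1'
        have h3 := suz_sq_inj n h2
        apply MulEquiv.ext
        intro z
        apply Par.ext
        · show (μ' : F) ^ (2 ^ n + 1) * z.a = μ ^ (2 ^ n + 1) * z.a
          rw [h3]
        · show ((μ' : F) ^ (2 ^ n + 1)) ^ 2 * z.b = (μ ^ (2 ^ n + 1)) ^ 2 * z.b
          rw [h3]

end scale

/-- Being a Suzuki 2-group is invariant under isomorphism. -/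
theorem isSuzuki_of_mulEquiv {G H : Type*} [Group G] [Group H] (e : G ≃* H)
    (hG : Cfsg.IsSuzukiTwoGroup G) : Cfsg.IsSuzukiTwoGroup H := by
  obtain ⟨hfin, hp, ⟨x, y, hxy⟩, ⟨u, v, huv, hu1, huu, hv1, hvv⟩, K, hK, hreg⟩ := hG
  refine ⟨Finite.of_equiv G e.toEquiv, hp.of_equiv e, ⟨e x, e y, ?_⟩,
    ⟨e u, e v, fun h => huv (e.injective h), fun h => hu1 ((e.map_eq_one_iff).mp h), ?_,
      fun h => hv1 ((e.map_eq_one_iff).mp h), ?_⟩, ?_⟩
  · rw [← map_mul, ← map_mul]
    exact fun h => hxy (e.injective h)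
  · rw [← map_mul, huu, map_one]
  · rw [← map_mul, hvv, map_one]
  · refine ⟨K.map (MulAut.congr e).toMonoidHom, ?_, ?_⟩
    · exact isCyclic_of_surjective ((MulAut.congr e).toMonoidHom.subgroupMap K)
        ((MulAut.congr e).toMonoidHom.subgroupMap_surjective K)
    · intro x y hx1 hxx hy1 hyy
      obtain ⟨k, hk, huniq⟩ := hreg (e.symm x) (e.symm y)
        (fun h => hx1 ((e.symm.map_eq_one_iff).mp h))
        (by rw [← map_mul, hxx, map_one])
        (fun h => hy1 ((e.symm.map_eq_one_iff).mp h))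
        (by rw [← map_mul, hyy, map_one])
      refine ⟨⟨MulAut.congr e k, Subgroup.mem_map_of_mem _ k.2⟩, ?_, ?_⟩
      · show e ((k : MulAut G) (e.symm x)) = y
        rw [hk]
        simp
      · rintro ⟨k', hk'⟩ hk'x
        obtain ⟨k0, hk0, rfl⟩ := Subgroup.mem_map.mp hk'
        have h1 : e ((k0 : MulAut G) (e.symm x)) = y := hk'x
        have h2 := huniq ⟨k0, hk0⟩ (by
          show k0 (e.symm x) = e.symm y
          rw [← h1]
          simp)
        apply Subtype.ext
        show (MulAut.congr e) k0 = (MulAut.congr e) k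
        rw [← h2]

end Cfsg.Agent.H60
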