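import Mathlib
import Cfsg.Agent.H60.SuzAut
import Cfsg.Agent.H60.SuzSuz

set_option autoImplicit false

namespace Cfsg.Agent.H60

open Finset

open scoped Classical

/-- Hypotheses on a pair of maps `A : F → F`, `B : K0 → K0` coming from an automorphism of the
model: `A` is additive and injective, `B` is additive and injective on the fixed field, and
`B (N a) = N (A a)` for the norm `N a = a^(q+1)`. -/
structure SLHyp {F : Type*} [Field F] (n : ℕ) (A B : F → F) : Prop where
  add : ∀ a c, A (a + c) = A a + A c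
  inj : ∀ a, A a = 0 → a = 0
  badd : ∀ c d, c ^ (2 ^ n) = c → d ^ (2 ^ n) = d → B (c + d) = B c + B d
  binj : ∀ c, c ^ (2 ^ n) = c → B c = 0 → c = 0
  bn : ∀ a, B (a ^ (2 ^ n + 1)) = (A a) ^ (2 ^ n + 1)

section semilin

variable {F : Type*} [Field F] [Fintype F] {n : ℕ} [hS : SuzFin F n]

include hS

/-- In characteristic two, `x + y = 0` iff `x = y`. -/
theorem suz_add_eq_zero {x y : F} : x + y = 0 ↔ x = y := by
  have h2 := suz_two F n
  constructor
  · intro h
    linear_combination h - y * h2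
  · intro h
    rw [h]
    exact suz_add_self n y

/-- dependence over the fixed field -/
theorem suz_dep_iff {u v : F} (hu : u ≠ 0) :
    u ^ (2 ^ n) * v + u * v ^ (2 ^ n) = 0 ↔ (v / u) ^ (2 ^ n) = v / u := by
  have hu' : u ^ (2 ^ n) ≠ 0 := pow_ne_zero _ hu
  rw [suz_add_eq_zero (n := n), div_pow, div_eq_div_iff hu' hu]
  constructor
  · intro h
    linear_combination -h
  · intro h
    linear_combination -h

variable {A B : F → F}

omit [Fintype F] hS in
theorem SLHyp.zero (h : SLHyp n A B) : A 0 = 0 := by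
  have := h.add 0 0
  rw [add_zero] at this
  linear_combination -this

theorem SLHyp.bzero (h : SLHyp n A B) : B 0 = 0 := by
  have := h.badd 0 0 Par.zero_pow_q Par.zero_pow_q
  rw [add_zero] at this
  linear_combination -this

theorem SLHyp.polar (h : SLHyp n A B) (a c : F) :
    B (a ^ (2 ^ n) * c + a * c ^ (2 ^ n))
      = (A a) ^ (2 ^ n) * A c + A a * (A c) ^ (2 ^ n) := by
  have h2 := suz_two F n
  have ht : (a ^ (2 ^ n) * c + a * c ^ (2 ^ n)) ^ (2 ^ n) = a ^ (2 ^ n) * c + a * c ^ (2 ^ n) := by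
    rw [suz_add, mul_pow, mul_pow, suz_frob, suz_frob]
    ring
  have hNa := norm_fixed (n := n) a
  have hNc := norm_fixed (n := n) c
  have hNac : (a ^ (2 ^ n + 1) + c ^ (2 ^ n + 1)) ^ (2 ^ n)
      = a ^ (2 ^ n + 1) + c ^ (2 ^ n + 1) := by
    rw [suz_add, hNa, hNc]
  have e1 : (a + c) ^ (2 ^ n + 1)
      = (a ^ (2 ^ n + 1) + c ^ (2 ^ n + 1)) + (a ^ (2 ^ n) * c + a * c ^ (2 ^ n)) := by
    rw [pow_succ, pow_succ, pow_succ, suz_add]
    ring
  have e3 : (A a + A c) ^ (2 ^ n + 1) = (A a) ^ (2 ^ n + 1) + (A c) ^ (2 ^ n + 1)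
      + ((A a) ^ (2 ^ n) * A c + A a * (A c) ^ (2 ^ n)) := by
    rw [pow_succ, pow_succ, pow_succ, suz_add]
    ring
  have e2 := h.bn (a + c)
  rw [e1, h.badd _ _ hNac ht, h.badd _ _ hNa hNc, h.bn, h.bn, h.add, e3] at e2
  linear_combination e2

/-- `A` maps the line through `a` into the line through `A a`. -/
theorem SLHyp.line (h : SLHyp n A B) {s : F} (hs : s ^ (2 ^ n) = s) (a : F) :
    (A a) ^ (2 ^ n) * A (s * a) + A a * (A (s * a)) ^ (2 ^ n) = 0 := by
  have h2 := suz_two F n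
  rw [← h.polar, ← h.bzero]
  congr 1
  rw [mul_pow, hs]
  linear_combination (a ^ (2 ^ n) * s * a) * h2

theorem SLHyp.indep (h : SLHyp n A B) {a c : F}
    (hac : (A a) ^ (2 ^ n) * A c + A a * (A c) ^ (2 ^ n) = 0) :
    a ^ (2 ^ n) * c + a * c ^ (2 ^ n) = 0 := by
  apply h.binj
  · rw [suz_add, mul_pow, mul_pow, suz_frob, suz_frob]
    ring
  · rw [h.polar, hac]

theorem SLHyp.ratio (h : SLHyp n A B) {s : F} (hs : s ^ (2 ^ n) = s) {a c : F}
    (hac : a ^ (2 ^ n) * c + a * c ^ (2 ^ n) ≠ 0) :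
    A (s * a) * A c = A (s * c) * A a := by
  have h2 := suz_two F n
  have ha : a ≠ 0 := by
    rintro rfl
    apply hac
    rw [Par.zero_pow_q]
    ring
  have hc : c ≠ 0 := by
    rintro rfl
    apply hac
    rw [Par.zero_pow_q]
    ring
  have hacne : a + c ≠ 0 := by
    intro h0
    have hca : c = a := ((suz_add_eq_zero (n := n)).mp h0).symm
    apply hac
    rw [hca]
    linear_combination (a ^ (2 ^ n) * a) * h2
  have hx : A a ≠ 0 := fun h0 => ha (h.inj _ h0)
  have hy : A c ≠ 0 := fun h0 => hc (h.inj _ h0)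
  have hxy : A (a + c) ≠ 0 := fun h0 => hacne (h.inj _ h0)
  obtain ⟨p, hp⟩ : ∃ p : F, p = A (s * a) / A a := ⟨_, rfl⟩
  obtain ⟨r, hr⟩ : ∃ r : F, r = A (s * c) / A c := ⟨_, rfl⟩
  obtain ⟨d, hd⟩ : ∃ d : F, d = A (s * (a + c)) / A (a + c) := ⟨_, rfl⟩
  have hpK : p ^ (2 ^ n) = p := by
    rw [hp]
    exact (suz_dep_iff hx).mp (h.line hs a)
  have hrK : r ^ (2 ^ n) = r := by
    rw [hr]
    exact (suz_dep_iff hy).mp (h.line hs c)
  have hdK : d ^ (2 ^ n) = d := by
    rw [hd]
    exact (suz_dep_iff hxy).mp (h.line hs (a + c))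
  have e1 : A (s * a) = p * A a := by
    rw [hp]
    field_simp
  have e2 : A (s * c) = r * A c := by
    rw [hr]
    field_simp
  have e3 : A (s * (a + c)) = d * A (a + c) := by
    rw [hd]
    field_simp
  have e4 : (d + p) * A a = (r + d) * A c := by
    have : A (s * (a + c)) = A (s * a) + A (s * c) := by rw [mul_add, h.add]
    rw [e1, e2, e3, h.add] at this
    linear_combination this + (p * A a - d * A c) * h2
  have hrd : r + d = 0 := by
    by_contra hne
    apply hac
    apply h.indep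
    rw [suz_dep_iff hx]
    have e5 : A c / A a = (d + p) / (r + d) := by
      field_simp
      linear_combination -e4
    rw [e5, div_pow, suz_add, suz_add, hpK, hrK, hdK]
  have hdp : d + p = 0 := by
    rw [hrd, zero_mul] at e4
    rcases mul_eq_zero.mp e4 with h0 | h0
    · exact h0
    · exact absurd h0 hx
  have hrd' : r = d := (suz_add_eq_zero (n := n)).mp hrd
  have hdp' : d = p := (suz_add_eq_zero (n := n)).mp hdp
  rw [e1, e2, hrd', hdp']
  ring

theorem SLHyp.semilin (h : SLHyp n A B) {s : F} (hs : s ^ (2 ^ n) = s) (a : F) :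
    A (s * a) * A 1 = A s * A a := by
  have h2 := suz_two F n
  by_cases haK : a ^ (2 ^ n) = a
  · obtain ⟨w, hw⟩ := exists_not_mem_K0 (F := F) n
    have hw0 : A w ≠ 0 := by
      intro h0
      apply hw
      rw [h.inj _ h0, Par.zero_pow_q]
    have h1 : (1 : F) ^ (2 ^ n) * w + 1 * w ^ (2 ^ n) ≠ 0 := by
      rw [one_pow, one_mul, one_mul]
      intro h0
      exact hw ((suz_add_eq_zero (n := n)).mp h0).symm
    by_cases ha0 : a = 0
    · subst ha0
      rw [mul_zero, h.zero, zero_mul, mul_zero]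
    have h3 : a ^ (2 ^ n) * w + a * w ^ (2 ^ n) ≠ 0 := by
      rw [haK]
      intro h0
      have h4 : a * (w + w ^ (2 ^ n)) = 0 := by linear_combination h0
      rcases mul_eq_zero.mp h4 with h5 | h5
      · exact ha0 h5
      · exact hw ((suz_add_eq_zero (n := n)).mp h5).symm
    have r1 := h.ratio hs h1
    have r2 := h.ratio hs h3
    rw [mul_one] at r1
    apply mul_right_cancel₀ hw0
    linear_combination (A 1) * r2 - (A a) * r1
  · have h1 : (1 : F) ^ (2 ^ n) * a + 1 * a ^ (2 ^ n) ≠ 0 := by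
      rw [one_pow, one_mul, one_mul]
      intro h0
      exact haK ((suz_add_eq_zero (n := n)).mp h0).symm
    have r1 := h.ratio hs h1
    rw [mul_one] at r1
    exact r1.symm

/-- The structure theorem: `A` is a scalar multiple of a field automorphism. -/
theorem SLHyp.struct (h : SLHyp n A B) : ∃ μ : F, μ ≠ 0 ∧ ∃ σ : F ≃+* F, ∀ a, A a = μ * σ a := by
  have h2 := suz_two F n
  have hμ : A 1 ≠ 0 := fun h0 => one_ne_zero (h.inj _ h0)
  obtain ⟨μ, hμdef⟩ : ∃ μ : F, μ = A 1 := ⟨_, rfl⟩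
  rw [← hμdef] at hμ
  obtain ⟨A₁, hA₁⟩ : ∃ A₁ : F → F, ∀ a, A₁ a = A a / μ := ⟨fun a => A a / μ, fun a => rfl⟩
  have hAA : ∀ a, A a = μ * A₁ a := by
    intro a
    rw [hA₁]
    field_simp
  have P0 : A₁ 1 = 1 := by
    rw [hA₁, ← hμdef]
    exact div_self hμ
  have Padd : ∀ a c, A₁ (a + c) = A₁ a + A₁ c := by
    intro a c
    rw [hA₁, hA₁, hA₁, h.add, add_div]
  have Psl : ∀ s, s ^ (2 ^ n) = s → ∀ a, A₁ (s * a) = A₁ s * A₁ a := by
    intro s hs a
    have h1 := h.semilin hs a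
    rw [← hμdef] at h1
    rw [hA₁, hA₁, hA₁]
    field_simp
    linear_combination h1
  have PK : ∀ s, s ^ (2 ^ n) = s → (A₁ s) ^ (2 ^ n) = A₁ s := by
    intro s hs
    have h1 := h.line hs 1
    rw [mul_one, ← hμdef] at h1
    rw [hA₁]
    exact (suz_dep_iff hμ).mp h1
  have PB : ∀ e, e ^ (2 ^ n) = e → B e = μ ^ (2 ^ n + 1) * A₁ e := by
    intro e he
    obtain ⟨t, ht, rfl⟩ := sqrt_mem_K0 n (mem_K0.mpr he)
    rw [mem_K0] at ht
    have e1 : t ^ 2 = t ^ (2 ^ n + 1) := by
      rw [pow_succ t (2 ^ n), ht]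
      ring
    have e2 : A₁ (t ^ 2) = A₁ t * A₁ t := by
      rw [pow_two]
      exact Psl t ht t
    rw [e2, e1, h.bn, hAA, mul_pow, pow_succ (A₁ t), PK t ht]
  have PN : ∀ a, (A₁ a) ^ (2 ^ n + 1) = A₁ (a ^ (2 ^ n + 1)) := by
    intro a
    have e1 := PB _ (norm_fixed (n := n) a)
    rw [h.bn, hAA, mul_pow] at e1
    exact mul_left_cancel₀ (pow_ne_zero _ hμ) e1
  have PT : ∀ a, A₁ (a + a ^ (2 ^ n)) = A₁ a + (A₁ a) ^ (2 ^ n) := by
    intro a
    have e1 := PN (1 + a)
    have e2 : (1 + a) ^ (2 ^ n + 1) = 1 + (a + a ^ (2 ^ n)) + a ^ (2 ^ n + 1) := by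
      rw [pow_succ, suz_add, one_pow, pow_succ]
      ring
    have e3 : (1 + A₁ a) ^ (2 ^ n + 1)
        = 1 + (A₁ a + (A₁ a) ^ (2 ^ n)) + (A₁ a) ^ (2 ^ n + 1) := by
      rw [pow_succ, suz_add, one_pow, pow_succ]
      ring
    rw [Padd, P0, e3, e2, Padd, Padd, P0, ← PN] at e1
    linear_combination -e1
  have PS : ∀ a, A₁ (a * a) = A₁ a * A₁ a := by
    intro a
    have e1 : a * a = (a + a ^ (2 ^ n)) * a + a ^ (2 ^ n + 1) := by
      rw [pow_succ]
      linear_combination (-(a ^ (2 ^ n) * a)) * h2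
    have e2 : A₁ (a * a) = A₁ ((a + a ^ (2 ^ n)) * a + a ^ (2 ^ n + 1)) := by rw [← e1]
    rw [e2, Padd, Psl _ (mem_K0.mp (tr_mem_K0 n a)), PT, ← PN, pow_succ]
    linear_combination ((A₁ a) ^ (2 ^ n) * A₁ a) * h2
  obtain ⟨w, hw⟩ := exists_not_mem_K0 (F := F) n
  have hww : w + w ^ (2 ^ n) ≠ 0 := fun h0 => hw ((suz_add_eq_zero (n := n)).mp h0).symm
  have hdec : ∀ c : F, ∃ s t : F, s ^ (2 ^ n) = s ∧ t ^ (2 ^ n) = t ∧ c = s + t * w := by
    intro c
    have htK : ((c + c ^ (2 ^ n)) / (w + w ^ (2 ^ n))) ^ (2 ^ n)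
        = (c + c ^ (2 ^ n)) / (w + w ^ (2 ^ n)) := by
      rw [div_pow, mem_K0.mp (tr_mem_K0 n c), mem_K0.mp (tr_mem_K0 n w)]
    have hmul : (c + c ^ (2 ^ n)) / (w + w ^ (2 ^ n)) * (w + w ^ (2 ^ n)) = c + c ^ (2 ^ n) :=
      div_mul_cancel₀ _ hww
    refine ⟨c + (c + c ^ (2 ^ n)) / (w + w ^ (2 ^ n)) * w, (c + c ^ (2 ^ n)) / (w + w ^ (2 ^ n)),
      ?_, htK, ?_⟩
    · rw [suz_add, mul_pow, htK]
      linear_combination hmul
        + (c ^ (2 ^ n) - (c + c ^ (2 ^ n)) / (w + w ^ (2 ^ n)) * w) * h2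
    · linear_combination (-((c + c ^ (2 ^ n)) / (w + w ^ (2 ^ n)) * w)) * h2
  have Pw : ∀ c, A₁ (w * c) = A₁ w * A₁ c := by
    intro c
    obtain ⟨s, t, hs, ht, rfl⟩ := hdec c
    have e1 : w * (s + t * w) = s * w + t * (w * w) := by ring
    rw [e1, Padd, Padd, Psl s hs, Psl t ht, Psl t ht, PS]
    ring
  have Pmul : ∀ a c, A₁ (a * c) = A₁ a * A₁ c := by
    intro a c
    obtain ⟨s, t, hs, ht, rfl⟩ := hdec a
    have e1 : (s + t * w) * c = s * c + t * (w * c) := by ring
    rw [e1, Padd, Padd, Psl s hs, Psl t ht, Psl t ht, Pw]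
    ring
  let f : F →+* F :=
    { toFun := A₁
      map_one' := P0
      map_mul' := Pmul
      map_zero' := by
        have := Padd 0 0
        rw [add_zero] at this
        linear_combination -this
      map_add' := Padd }
  have hf : Function.Injective f := f.injective
  exact ⟨μ, hμ, RingEquiv.ofBijective f ⟨hf, Finite.surjective_of_injective hf⟩, hAA⟩

end semilin

section autstruct

variable {F : Type*} [Field F] [Fintype F] {n : ℕ} [hS : SuzFin F n]

theorem autA_mul (α β : MulAut (Par F n)) (a : F) : autA (α * β) a = autA α (autA β a) := by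
  show (α (β (Par.lift a))).a = _
  rw [autA_spec α]
  rfl

theorem autA_one (a : F) : autA (1 : MulAut (Par F n)) a = a := rfl

theorem autA_inv_left (α : MulAut (Par F n)) (a : F) : autA α⁻¹ (autA α a) = a := by
  rw [← autA_mul, inv_mul_cancel, autA_one]

theorem autA_inv_right (α : MulAut (Par F n)) (a : F) : autA α (autA α⁻¹ a) = a := by
  rw [← autA_mul, mul_inv_cancel, autA_one]

theorem autA_zero (α : MulAut (Par F n)) : autA α 0 = 0 := by
  have := autA_add α 0 0
  rw [add_zero] at this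
  linear_combination -this

/-- total version of `zc` -/
noncomputable def Par.zt (c : F) : Par F n := if h : c ^ (2 ^ n) = c then Par.zc c h else 1

theorem Par.zt_eq (c : F) (hc : c ^ (2 ^ n) = c) : (Par.zt c : Par F n) = Par.zc c hc :=
  dif_pos hc

/-- The map induced by an automorphism on the centre, in coordinates. -/
noncomputable def autB (α : MulAut (Par F n)) (c : F) : F := (α (Par.zt c)).b

theorem autB_spec (α : MulAut (Par F n)) (c : F) (hc : c ^ (2 ^ n) = c) :
    ∃ h' : (autB α c) ^ (2 ^ n) = autB α c, α (Par.zc c hc) = Par.zc (autB α c) h' := by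
  have ha : (α (Par.zc c hc)).a = 0 :=
    (Par.mem_center_iff _).mp ((mulEquiv_mem_center α _).mpr (Par.zc_mem_center c hc))
  have e : autB α c = (α (Par.zc c hc)).b := by
    unfold autB
    rw [Par.zt_eq c hc]
  refine ⟨by rw [e]; exact Par.b_fixed_of_a_zero ha, ?_⟩
  apply Par.ext
  · exact ha
  · exact e.symm

theorem autSL (α : MulAut (Par F n)) : SLHyp n (autA α) (autB α) where
  add := autA_add α
  inj := by
    intro a h
    have := autA_inv_left α a
    rw [h, autA_zero] at this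
    exact this.symm
  badd := by
    intro c d hc hd
    obtain ⟨hc', ec⟩ := autB_spec α c hc
    obtain ⟨hd', ed⟩ := autB_spec α d hd
    obtain ⟨hcd', ecd⟩ := autB_spec α (c + d) (by rw [suz_add, hc, hd])
    have := congrArg α (Par.zc_mul c d hc hd)
    rw [map_mul, ec, ed, ecd, Par.zc_mul] at this
    exact (Par.zc_inj this).symm
  binj := by
    intro c hc h
    obtain ⟨hc', ec⟩ := autB_spec α c hc
    have h1 : α (Par.zc c hc) = 1 := by
      rw [ec]
      apply Par.ext
      · rfl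
      · exact h
    have h2 : Par.zc c hc = (1 : Par F n) := (α.map_eq_one_iff).mp h1
    exact congrArg Par.b h2
  bn := by
    intro a
    obtain ⟨h', e⟩ := autB_spec α (a ^ (2 ^ n + 1)) (norm_fixed a)
    have := autA_norm α a
    exact Par.zc_inj (e.symm.trans this)

/-- Every automorphism of the model acts on the first coordinate as a scalar multiple of a
field automorphism. -/
theorem autA_struct (α : MulAut (Par F n)) :
    ∃ μ : F, μ ≠ 0 ∧ ∃ σ : F ≃+* F, ∀ a, autA α a = μ * σ a :=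
  (autSL α).struct

end autstruct

end Cfsg.Agent.H60
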