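import Mathlib
import Cfsg.Prelude.Def_Solvable
import Cfsg.Prelude.Def_Transfer
import Cfsg.Agent.H60.SuzGam

set_option autoImplicit false

namespace Cfsg.Agent.H60

open Finset

open scoped Classical

/-- The number of ring automorphisms of a field with `2^m` elements. -/
theorem card_ringAut_two_pow {F : Type*} [Field F] [Fintype F] [CharP F 2] {m : ℕ}
    (h : Fintype.card F = 2 ^ m) : Nat.card (F ≃+* F) = m := by
  haveI : Fact (Nat.Prime 2) := ⟨Nat.prime_two⟩
  letI : Algebra (ZMod 2) F := ZMod.algebra F 2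
  have hfr : Module.finrank (ZMod 2) F = m := by
    have h1 := Module.card_eq_pow_finrank (K := ZMod 2) (V := F)
    rw [ZMod.card, h] at h1
    exact (Nat.pow_right_injective (le_refl 2) h1).symm
  have hbij := FiniteField.bijective_frobeniusAlgEquivOfAlgebraic_pow (ZMod 2) F
  have e1 : Nat.card (F ≃ₐ[ZMod 2] F) = m := by
    rw [← Nat.card_congr (Equiv.ofBijective _ hbij), Nat.card_eq_fintype_card, Fintype.card_fin,
      hfr]
  let e : (F ≃+* F) ≃ (F ≃ₐ[ZMod 2] F) :=
    { toFun := fun σ => AlgEquiv.ofRingEquiv (f := σ) (fun x =>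
        RingHom.congr_fun (Subsingleton.elim ((σ : F →+* F).comp (algebraMap (ZMod 2) F))
          (algebraMap (ZMod 2) F)) x)
      invFun := fun τ => τ.toRingEquiv
      left_inv := fun σ => by
        ext
        rfl
      right_inv := fun τ => by
        ext
        rfl }
  rw [Nat.card_congr e, e1]

section gam

variable {F : Type*} [Field F] [Fintype F] {n : ℕ} [hS : SuzFin F n]

/-- `(a, b) ↦ (μ σ a, μ^(q+1) σ b)` -/
def Par.gamFun (μ : F) (σ : F ≃+* F) (x : Par F n) : Par F n :=
  ⟨μ * σ x.a, μ ^ (2 ^ n + 1) * σ x.b, by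
    have hx := congrArg σ x.h
    simp only [map_add, map_pow] at hx
    rw [mul_pow, norm_fixed, mul_pow]
    linear_combination μ ^ (2 ^ n + 1) * hx⟩

@[simp] theorem Par.gamFun_a (μ : F) (σ : F ≃+* F) (x : Par F n) :
    (Par.gamFun μ σ x).a = μ * σ x.a := rfl

@[simp] theorem Par.gamFun_b (μ : F) (σ : F ≃+* F) (x : Par F n) :
    (Par.gamFun μ σ x).b = μ ^ (2 ^ n + 1) * σ x.b := rfl

theorem Par.gamFun_mul (μ : F) (σ : F ≃+* F) (x y : Par F n) :
    Par.gamFun μ σ (x * y) = Par.gamFun μ σ x * Par.gamFun μ σ y := by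
  apply Par.ext
  · simp only [Par.gamFun_a, Par.mul_a, map_add]
    ring
  · simp only [Par.gamFun_b, Par.mul_b, Par.gamFun_a, map_add, map_mul, map_pow]
    ring

theorem Par.gamFun_injective (μ : F) (hμ : μ ≠ 0) (σ : F ≃+* F) :
    Function.Injective (Par.gamFun (n := n) μ σ) := by
  intro x y h
  have ha := congrArg Par.a h
  have hb := congrArg Par.b h
  simp only [Par.gamFun_a, Par.gamFun_b] at ha hb
  apply Par.ext
  · exact σ.injective (mul_left_cancel₀ hμ ha)
  · exact σ.injective (mul_left_cancel₀ (pow_ne_zero _ hμ) hb)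

/-- The automorphism `(a, b) ↦ (μ σ a, μ^(q+1) σ b)` of the model. -/
noncomputable def Par.gam (μ : F) (hμ : μ ≠ 0) (σ : F ≃+* F) : MulAut (Par F n) :=
  MulEquiv.ofBijective (MonoidHom.mk' (Par.gamFun μ σ) (Par.gamFun_mul μ σ))
    ⟨Par.gamFun_injective μ hμ σ, Finite.surjective_of_injective (Par.gamFun_injective μ hμ σ)⟩

theorem Par.gam_apply (μ : F) (hμ : μ ≠ 0) (σ : F ≃+* F) (x : Par F n) :
    Par.gam μ hμ σ x = Par.gamFun μ σ x := rfl

theorem autA_gam (μ : F) (hμ : μ ≠ 0) (σ : F ≃+* F) (a : F) :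
    autA (Par.gam (n := n) μ hμ σ) a = μ * σ a := rfl

variable (F n) in
/-- The fixed field as an additive subgroup. -/
def K0add : AddSubgroup F where
  carrier := {c | c ^ (2 ^ n) = c}
  add_mem' := by
    intro c d hc hd
    show (c + d) ^ (2 ^ n) = c + d
    rw [suz_add, hc, hd]
  zero_mem' := Par.zero_pow_q
  neg_mem' := by
    intro c hc
    show (-c) ^ (2 ^ n) = -c
    have e : -c = c := by linear_combination (-c) * suz_two F n
    rw [e]
    exact hc

theorem mem_K0add {c : F} : c ∈ K0add F n ↔ c ^ (2 ^ n) = c := Iff.rfl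

theorem K0add_card : Nat.card ↥(K0add F n) = 2 ^ n := by
  rw [← K0_card (F := F) n, ← Fintype.card_coe (K0 F n), ← Nat.card_eq_fintype_card]
  apply Nat.card_congr
  exact Equiv.subtypeEquivRight (fun c => by rw [mem_K0, mem_K0add])

/-- `(a, b) ↦ (a, b + f a)` -/
def Par.cenFun (f : F →+ ↥(K0add F n)) (x : Par F n) : Par F n :=
  ⟨x.a, x.b + (f x.a : F), by
    have hx := x.h
    have hf : ((f x.a : F)) ^ (2 ^ n) = (f x.a : F) := (f x.a).2
    have h2 := suz_two F n
    rw [suz_add, hf]
    linear_combination hx + (f x.a : F) * h2⟩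

@[simp] theorem Par.cenFun_a (f : F →+ ↥(K0add F n)) (x : Par F n) :
    (Par.cenFun f x).a = x.a := rfl

@[simp] theorem Par.cenFun_b (f : F →+ ↥(K0add F n)) (x : Par F n) :
    (Par.cenFun f x).b = x.b + (f x.a : F) := rfl

theorem Par.cenFun_mul (f : F →+ ↥(K0add F n)) (x y : Par F n) :
    Par.cenFun f (x * y) = Par.cenFun f x * Par.cenFun f y := by
  apply Par.ext
  · rfl
  · simp only [Par.cenFun_b, Par.mul_b, Par.cenFun_a, Par.mul_a, map_add, AddSubgroup.coe_add]
    ring

theorem Par.cenFun_cenFun (f : F →+ ↥(K0add F n)) (x : Par F n) :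
    Par.cenFun f (Par.cenFun f x) = x := by
  apply Par.ext
  · rfl
  · simp only [Par.cenFun_b, Par.cenFun_a]
    linear_combination (f x.a : F) * suz_two F n

/-- The central automorphism attached to an additive map into the fixed field. -/
def Par.cen (f : F →+ ↥(K0add F n)) : MulAut (Par F n) :=
  { toFun := Par.cenFun f
    invFun := Par.cenFun f
    left_inv := Par.cenFun_cenFun f
    right_inv := Par.cenFun_cenFun f
    map_mul' := Par.cenFun_mul f }

theorem Par.cen_apply (f : F →+ ↥(K0add F n)) (x : Par F n) : Par.cen f x = Par.cenFun f x := rfl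

theorem autA_cen (f : F →+ ↥(K0add F n)) (a : F) : autA (Par.cen (n := n) f) a = a := rfl

theorem Par.cen_injective : Function.Injective (Par.cen (F := F) (n := n)) := by
  intro f g h
  ext a
  have h1 := congrArg (fun α : MulAut (Par F n) => (α (Par.lift a)).b) h
  simp only [Par.cen_apply, Par.cenFun_b, Par.lift_a] at h1
  exact add_left_cancel h1

theorem Par.cen_mul_self (f : F →+ ↥(K0add F n)) : Par.cen f * Par.cen f = 1 := by
  apply MulEquiv.ext
  intro x
  exact Par.cenFun_cenFun f x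

theorem Par.cen_comm (f g : F →+ ↥(K0add F n)) : Par.cen f * Par.cen g = Par.cen g * Par.cen f := by
  apply MulEquiv.ext
  intro x
  apply Par.ext
  · rfl
  · show x.b + (g x.a : F) + (f x.a : F) = x.b + (f x.a : F) + (g x.a : F)
    ring

/-- Automorphisms inducing the identity on first coordinates are central automorphisms. -/
theorem exists_cen_of_autA_id (α : MulAut (Par F n)) (hα : ∀ a, autA α a = a) :
    ∃ f : F →+ ↥(K0add F n), α = Par.cen f := by
  have h2 := suz_two F n
  have hfix : ∀ z : Par F n, z.a = 0 → α z = z := by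
    intro z hz
    have hzK := Par.b_fixed_of_a_zero hz
    by_cases hb : z.b = 0
    · have : z = 1 := Par.ext hz hb
      rw [this, map_one]
    · obtain ⟨d, hd⟩ := norm_surj n (mem_K0.mpr hzK) hb
      have e1 := autA_norm α d
      rw [hα d] at e1
      have e2 : z = Par.zc (d ^ (2 ^ n + 1)) (mem_K0.mp (norm_mem_K0 n d)) := by
        apply Par.ext
        · exact hz
        · exact hd.symm
      rw [e2]
      exact e1
  have hb : ∀ x : Par F n, ((α x).b + x.b) ^ (2 ^ n) = (α x).b + x.b := by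
    intro x
    have h1 := (α x).h
    rw [autA_spec, hα] at h1
    exact mem_K0.mp ((tr_eq_iff n _ _).mp (h1.trans x.h.symm))
  have hindep : ∀ x y : Par F n, x.a = y.a → (α x).b + x.b = (α y).b + y.b := by
    intro x y hxy
    have hk : (x⁻¹ * y).a = 0 := by
      simp only [Par.mul_a, Par.inv_a, hxy]
      exact suz_add_self n y.a
    have e1 : y = x * (x⁻¹ * y) := by group
    have e2 : α y = α x * (x⁻¹ * y) := by
      conv_lhs => rw [e1, map_mul, hfix _ hk]
    have e3 : (α y).b = (α x).b + (x⁻¹ * y).b := by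
      rw [e2, Par.mul_b, hk, mul_zero, add_zero]
    have e4 : y.b = x.b + (x⁻¹ * y).b := by
      conv_lhs => rw [e1, Par.mul_b, hk, mul_zero, add_zero]
    rw [e3, e4]
    linear_combination (-(x⁻¹ * y).b) * h2
  let f : F →+ ↥(K0add F n) := AddMonoidHom.mk'
    (fun a => ⟨(α (Par.lift a)).b + (Par.lift a : Par F n).b, hb _⟩) (by
      intro a a'
      apply Subtype.ext
      show (α (Par.lift (a + a'))).b + (Par.lift (a + a') : Par F n).b
        = ((α (Par.lift a)).b + (Par.lift a : Par F n).b)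
          + ((α (Par.lift a')).b + (Par.lift a' : Par F n).b)
      have h1 := hindep (Par.lift (a + a')) (Par.lift a * Par.lift a') (by simp)
      rw [h1, map_mul, Par.mul_b, Par.mul_b, autA_spec, autA_spec, hα, hα]
      simp only [Par.lift_a]
      linear_combination (a ^ (2 ^ n) * a') * h2)
  refine ⟨f, ?_⟩
  apply MulEquiv.ext
  intro x
  apply Par.ext
  · show (α x).a = x.a
    rw [autA_spec, hα]
  · show (α x).b = x.b + ((α (Par.lift x.a)).b + (Par.lift x.a : Par F n).b)
    have h1 := hindep x (Par.lift x.a) rfl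
    linear_combination h1 - x.b * h2

variable (F n) in
/-- The group of central automorphisms: those acting trivially on the first coordinate. -/
def cenAut : Subgroup (MulAut (Par F n)) where
  carrier := {α | ∀ a, autA α a = a}
  mul_mem' := by
    intro α β hα hβ a
    rw [autA_mul, hβ a, hα a]
  one_mem' := fun a => autA_one a
  inv_mem' := by
    intro α hα a
    have h1 := autA_inv_left α a
    rw [hα a] at h1
    exact h1

theorem mem_cenAut {α : MulAut (Par F n)} : α ∈ cenAut F n ↔ ∀ a, autA α a = a := Iff.rfl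

theorem cenAut_normal : (cenAut F n).Normal := ⟨by
  intro α hα g a
  rw [autA_mul, autA_mul, mem_cenAut.mp hα, autA_inv_right]⟩

theorem cen_mem_cenAut (f : F →+ ↥(K0add F n)) : Par.cen f ∈ cenAut F n := autA_cen f

theorem exists_cen_of_mem_cenAut {α : MulAut (Par F n)} (hα : α ∈ cenAut F n) :
    ∃ f : F →+ ↥(K0add F n), α = Par.cen f := exists_cen_of_autA_id α hα

theorem cenAut_sq {α : MulAut (Par F n)} (hα : α ∈ cenAut F n) : α ^ 2 = 1 := by
  obtain ⟨f, rfl⟩ := exists_cen_of_mem_cenAut hα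
  rw [pow_two]
  exact Par.cen_mul_self f

theorem cenAut_comm {α β : MulAut (Par F n)} (hα : α ∈ cenAut F n) (hβ : β ∈ cenAut F n) :
    α * β = β * α := by
  obtain ⟨f, rfl⟩ := exists_cen_of_mem_cenAut hα
  obtain ⟨g, rfl⟩ := exists_cen_of_mem_cenAut hβ
  exact Par.cen_comm f g

theorem cenAut_isPGroup : IsPGroup 2 ↥(cenAut F n) := by
  intro α
  refine ⟨1, ?_⟩
  apply Subtype.ext
  rw [pow_one]
  exact cenAut_sq α.2

theorem card_addHom : Nat.card (F →+ ↥(K0add F n)) = 2 ^ (2 * n ^ 2) := by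
  haveI : CharP F 2 := suz_charP F n
  haveI : Fact (Nat.Prime 2) := ⟨Nat.prime_two⟩
  letI : Algebra (ZMod 2) F := ZMod.algebra F 2
  letI : Module (ZMod 2) ↥(K0add F n) := AddCommGroup.zmodModule (n := 2) (by
    intro x
    apply Subtype.ext
    rw [AddSubgroup.coe_nsmul, two_nsmul]
    exact suz_add_self n (x : F))
  have hfrF : Module.finrank (ZMod 2) F = 2 * n := by
    have h1 := Module.card_eq_pow_finrank (K := ZMod 2) (V := F)
    rw [ZMod.card, hS.card, ← pow_mul] at h1
    rw [← Nat.pow_right_injective (le_refl 2) h1, mul_comm]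
  have hfrK : Module.finrank (ZMod 2) ↥(K0add F n) = n := by
    have h1 := Module.natCard_eq_pow_finrank (K := ZMod 2) (V := ↥(K0add F n))
    rw [Nat.card_zmod, K0add_card] at h1
    exact (Nat.pow_right_injective (le_refl 2) h1).symm
  rw [Nat.card_congr (AddMonoidHom.toZModLinearMapEquiv 2).toEquiv,
    Module.natCard_eq_pow_finrank (K := ZMod 2), Nat.card_zmod, Module.finrank_linearMap, hfrF,
    hfrK]
  congr 1
  ring

theorem cenAut_card : Nat.card ↥(cenAut F n) = 2 ^ (2 * n ^ 2) := by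
  rw [← card_addHom (F := F) (n := n)]
  symm
  apply Nat.card_congr
  refine Equiv.ofBijective (fun f => (⟨Par.cen f, cen_mem_cenAut f⟩ : ↥(cenAut F n))) ⟨?_, ?_⟩
  · intro f g h
    exact Par.cen_injective (congrArg Subtype.val h)
  · rintro ⟨α, hα⟩
    obtain ⟨f, rfl⟩ := exists_cen_of_mem_cenAut hα
    exact ⟨f, rfl⟩

/-- The order of the automorphism group of the model. -/
theorem par_aut_card :
    Nat.card (MulAut (Par F n)) = 2 ^ (2 * n ^ 2) * (2 * n * ((2 ^ n) ^ 2 - 1)) := by
  haveI : CharP F 2 := suz_charP F n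
  let Φ : (F →+ ↥(K0add F n)) × (Fˣ × (F ≃+* F)) → MulAut (Par F n) :=
    fun t => Par.cen t.1 * Par.gam (t.2.1 : F) t.2.1.ne_zero t.2.2
  have hA : ∀ t a, autA (Φ t) a = (t.2.1 : F) * t.2.2 a := by
    intro t a
    show autA (Par.cen t.1 * Par.gam (t.2.1 : F) t.2.1.ne_zero t.2.2) a = _
    rw [autA_mul, autA_cen, autA_gam]
  have hinj : Function.Injective Φ := by
    rintro ⟨f, μ, σ⟩ ⟨f', μ', σ'⟩ h
    have h1 : ∀ a, (μ : F) * σ a = (μ' : F) * σ' a := by
      intro a
      have h3 := hA ⟨f, μ, σ⟩ a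
      rw [h, hA] at h3
      exact h3.symm
    have hμμ : μ = μ' := by
      apply Units.ext
      simpa using h1 1
    subst hμμ
    have hσσ : σ = σ' := RingEquiv.ext (fun a => mul_left_cancel₀ μ.ne_zero (h1 a))
    subst hσσ
    have hff : Par.cen f = Par.cen f' := mul_right_cancel h
    rw [Par.cen_injective hff]
  have hsurj : Function.Surjective Φ := by
    intro α
    obtain ⟨μ, hμ, σ, hα⟩ := autA_struct α
    obtain ⟨f, hf⟩ := exists_cen_of_autA_id (α * (Par.gam μ hμ σ)⁻¹) (by
      intro a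
      rw [autA_mul, hα, ← autA_gam (n := n) μ hμ σ, autA_inv_right])
    refine ⟨⟨f, Units.mk0 μ hμ, σ⟩, ?_⟩
    show Par.cen f * Par.gam μ hμ σ = α
    rw [← hf]
    group
  rw [← Nat.card_congr (Equiv.ofBijective Φ ⟨hinj, hsurj⟩), Nat.card_prod, Nat.card_prod,
    card_addHom, Nat.card_units, Nat.card_eq_fintype_card, hS.card,
    card_ringAut_two_pow (F := F) (m := 2 * n) (by rw [hS.card, ← pow_mul, mul_comm])]
  ring

include hS in
theorem pow_two_pow_eq_one {x : F} {k : ℕ} (h : x ^ (2 ^ k) = 1) : x = 1 := by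
  haveI : CharP F 2 := suz_charP F n
  have h1 : (x + 1) ^ (2 ^ k) = 0 := by
    rw [add_pow_char_pow, h, one_pow]
    exact suz_add_self n 1
  have h2 : x + 1 = 0 := (pow_eq_zero_iff (pow_ne_zero k two_ne_zero)).mp h1
  exact (suz_add_eq_zero (n := n)).mp h2

theorem autA_pow_scalar (β : MulAut (Par F n)) (κ : F) (hβ : ∀ a, autA β a = κ * a) (m : ℕ)
    (a : F) : autA (β ^ m) a = κ ^ m * a := by
  induction m generalizing a with
  | zero => rw [pow_zero, pow_zero, one_mul, autA_one]
  | succ m ih =>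
    rw [pow_succ, autA_mul, hβ, ih, pow_succ]
    ring

theorem scalar_eq_one_of_isPGroup (N : Subgroup (MulAut (Par F n))) (hN : IsPGroup 2 N)
    (β : MulAut (Par F n)) (hβN : β ∈ N) (κ : F) (hβ : ∀ a, autA β a = κ * a) : κ = 1 := by
  obtain ⟨k, hk⟩ := hN ⟨β, hβN⟩
  have hk' : β ^ (2 ^ k) = 1 := by simpa using congrArg Subtype.val hk
  have h1 := autA_pow_scalar β κ hβ (2 ^ k) 1
  rw [hk', autA_one, mul_one] at h1
  exact pow_two_pow_eq_one (n := n) h1.symm

/-- Every normal 2-subgroup of the automorphism group consists of central automorphisms. -/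
theorem normal_two_le_cenAut (N : Subgroup (MulAut (Par F n))) (hNn : N.Normal)
    (hN : IsPGroup 2 N) : N ≤ cenAut F n := by
  intro α hα
  obtain ⟨μ, hμ, σ, hασ⟩ := autA_struct α
  have hσ : ∀ l : F, σ l = l := by
    intro l
    by_cases hl : l = 0
    · rw [hl, map_zero]
    obtain ⟨s, hs⟩ : ∃ s : MulAut (Par F n), s = Par.gam (n := n) l hl (RingEquiv.refl F) :=
      ⟨_, rfl⟩
    have hsA : ∀ a, autA s a = l * a := by
      intro a
      rw [hs]
      exact autA_gam l hl _ a
    have hsAinv : ∀ a, autA s⁻¹ a = l⁻¹ * a := by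
      intro a
      have h1 := autA_inv_left s (l⁻¹ * a)
      rw [hsA] at h1
      rw [← h1]
      congr 1
      field_simp
    have hβN : α * (s * α⁻¹ * s⁻¹) ∈ N := N.mul_mem hα (hNn.conj_mem _ (N.inv_mem hα) s)
    have hβ : ∀ a, autA (α * (s * α⁻¹ * s⁻¹)) a = (σ l / l) * a := by
      intro a
      rw [autA_mul, autA_mul, autA_mul, hsAinv, hsA, hασ, map_mul]
      have h1 := autA_inv_right α (l⁻¹ * a)
      rw [hασ] at h1
      calc μ * (σ l * σ (autA α⁻¹ (l⁻¹ * a))) = σ l * (μ * σ (autA α⁻¹ (l⁻¹ * a))) := by ring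
        _ = σ l * (l⁻¹ * a) := by rw [h1]
        _ = σ l / l * a := by field_simp
    have hκ := scalar_eq_one_of_isPGroup N hN _ hβN _ hβ
    exact (div_eq_one_iff_eq hl).mp hκ
  have hμ1 : μ = 1 := scalar_eq_one_of_isPGroup N hN α hα μ (by
    intro a
    rw [hασ, hσ])
  intro a
  rw [hασ, hσ, hμ1, one_mul]

end gam

/-- Characterisation of the `p`-core by its maximality, transported along an isomorphism. -/
theorem pCore_eq_comap_of_max {G H : Type*} [Group G] [Group H] (p : ℕ) (ε : G ≃* H)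
    (K : Subgroup H) (hKn : K.Normal) (hKp : IsPGroup p K)
    (hmax : ∀ N : Subgroup H, N.Normal → IsPGroup p N → N ≤ K) :
    Cfsg.pCore p G = K.comap ε.toMonoidHom := by
  apply le_antisymm
  · apply sSup_le
    rintro N ⟨hNn, hNp⟩
    rw [← Subgroup.map_le_iff_le_comap]
    haveI := hNn
    exact hmax _ (Subgroup.Normal.map hNn ε.toMonoidHom ε.surjective) (hNp.map ε.toMonoidHom)
  · apply le_sSup
    exact ⟨hKn.comap _, hKp.comap_of_injective ε.toMonoidHom ε.injective⟩

end Cfsg.Agent.H60
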