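import Mathlib
import Cfsg.Agent.H60.SuzGam2
import Cfsg.Agent.H60.Sp5

set_option autoImplicit false

namespace Cfsg.Agent.H60

open scoped Classical

open scoped commutatorElement

section sp5par

variable {F : Type*} [Field F] [Fintype F] {n : ℕ} [hS : SuzFin F n]

theorem Par.commutator_b (x y : Par F n) :
    (⁅x, y⁆).b = x.a ^ (2 ^ n) * y.a + y.a ^ (2 ^ n) * x.a := by
  have h2 := suz_two F n
  rw [commutatorElement_def]
  simp only [Par.mul_b, Par.mul_a, Par.inv_a, Par.inv_b, suz_add n]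
  linear_combination (x.b + y.b + x.a ^ (2 ^ n) * x.a + y.a ^ (2 ^ n) * y.a
    + x.a ^ (2 ^ n) * y.a) * h2

end sp5par

section n2

variable {F : Type*} [Field F] [Fintype F] [hS : SuzFin F 2]

theorem par_gam_a (ζ : F) (hζ0 : ζ ≠ 0) (y : Par F 2) :
    (Par.gam (n := 2) ζ hζ0 (RingEquiv.refl F) y).a = ζ * y.a := rfl

theorem par_gam_b (ζ : F) (hζ5 : ζ ^ 5 = 1) (hζ0 : ζ ≠ 0) (y : Par F 2) :
    (Par.gam (n := 2) ζ hζ0 (RingEquiv.refl F) y).b = y.b := by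
  have h5' : ζ ^ (2 ^ 2 + 1) = 1 := hζ5
  rw [Par.gam_apply, Par.gamFun_b, h5', one_mul]
  rfl

theorem par_sp5 (ζ : F) (hζ5 : ζ ^ 5 = 1) (hζ1 : ζ ≠ 1) (hζ0 : ζ ≠ 0) :
    Sp5 (Par.gam (n := 2) ζ hζ0 (RingEquiv.refl F)) (Par.lift 1)
      ⁅(Par.lift 1 : Par F 2), Par.gam (n := 2) ζ hζ0 (RingEquiv.refl F) (Par.lift 1)⁆
      ⁅(Par.lift 1 : Par F 2), Par.gam (n := 2) ζ hζ0 (RingEquiv.refl F)
        (Par.gam (n := 2) ζ hζ0 (RingEquiv.refl F) (Par.lift 1))⁆ := by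
  have h2 := suz_two F 2
  have ga := par_gam_a ζ hζ0
  have gb := par_gam_b ζ hζ5 hζ0
  refine ⟨?_, ?_, ?_, ?_, ?_, ?_, ?_, ?_, ?_, rfl, rfl⟩
  · rw [Par.card_eq]; norm_num
  · rw [Par.card_center]; norm_num
  · intro y
    apply Par.ext
    · simp only [ga]
      linear_combination y.a * hζ5
    · simp only [gb]
  · intro z hz
    have hza := (Par.mem_center_iff z).mp hz
    apply Par.ext
    · rw [ga, hza, mul_zero]
    · rw [gb]
  · intro z hz
    exact (Par.mul_self_eq_one_iff z).mpr ((Par.mem_center_iff z).mp hz)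
  · intro y hy
    rw [Par.mem_center_iff] at hy ⊢
    rw [Par.mul_a, Par.inv_a, ga] at hy
    have h1 : (1 + ζ) * y.a = 0 := by linear_combination hy
    rcases mul_eq_zero.mp h1 with h0 | h0
    · exfalso; apply hζ1; linear_combination h0 - h2
    · exact h0
  · intro y
    rw [Par.mem_center_iff]; exact Par.mul_self_a y
  · intro y w
    exact Par.commutator_mem_center y w
  · rw [Par.mem_center_iff, Par.lift_a]; exact one_ne_zero

theorem par_sp5_ne (ζ : F) (hζ5 : ζ ^ 5 = 1) (hζ1 : ζ ≠ 1) (hζ0 : ζ ≠ 0) :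
    ⁅(Par.lift 1 : Par F 2), Par.gam (n := 2) ζ hζ0 (RingEquiv.refl F) (Par.lift 1)⁆ ≠ 1 ∧
    ⁅(Par.lift 1 : Par F 2), Par.gam (n := 2) ζ hζ0 (RingEquiv.refl F)
        (Par.gam (n := 2) ζ hζ0 (RingEquiv.refl F) (Par.lift 1))⁆ ≠ 1 ∧
    ⁅(Par.lift 1 : Par F 2), Par.gam (n := 2) ζ hζ0 (RingEquiv.refl F) (Par.lift 1)⁆
      ≠ ⁅(Par.lift 1 : Par F 2), Par.gam (n := 2) ζ hζ0 (RingEquiv.refl F)
        (Par.gam (n := 2) ζ hζ0 (RingEquiv.refl F) (Par.lift 1))⁆ := by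
  have h2 := suz_two F 2
  have ga := par_gam_a ζ hζ0
  have hcyc : 1 + ζ + ζ ^ 2 + ζ ^ 3 + ζ ^ 4 = 0 := by
    have : (ζ - 1) * (1 + ζ + ζ ^ 2 + ζ ^ 3 + ζ ^ 4) = 0 := by linear_combination hζ5
    exact (mul_eq_zero.mp this).resolve_left (sub_ne_zero.mpr hζ1)
  have b1 : (⁅(Par.lift 1 : Par F 2), Par.gam (n := 2) ζ hζ0 (RingEquiv.refl F)
      (Par.lift 1)⁆).b = ζ + ζ ^ 4 := by
    rw [Par.commutator_b, ga, Par.lift_a]; ring
  have b2 : (⁅(Par.lift 1 : Par F 2), Par.gam (n := 2) ζ hζ0 (RingEquiv.refl F)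
        (Par.gam (n := 2) ζ hζ0 (RingEquiv.refl F) (Par.lift 1))⁆).b = ζ ^ 2 + ζ ^ 3 := by
    rw [Par.commutator_b, ga, ga, Par.lift_a]
    linear_combination ζ ^ 3 * hζ5
  refine ⟨?_, ?_, ?_⟩
  · intro e
    have e' := congrArg Par.b e
    rw [b1, Par.one_b] at e'
    have h13 : 1 + ζ ^ 3 = 0 := by
      have : ζ * (1 + ζ ^ 3) = 0 := by linear_combination e'
      exact (mul_eq_zero.mp this).resolve_left hζ0
    have : ζ ^ 2 = 0 := by linear_combination hcyc - h13 - e'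
    exact hζ0 (pow_eq_zero_iff (two_ne_zero) |>.mp this)
  · intro e
    have e' := congrArg Par.b e
    rw [b2, Par.one_b] at e'
    have h1 : 1 + ζ = 0 := by
      have : ζ ^ 2 * (1 + ζ) = 0 := by linear_combination e'
      exact (mul_eq_zero.mp this).resolve_left (pow_ne_zero _ hζ0)
    apply hζ1
    linear_combination h1 - h2
  · intro e
    have e' := congrArg Par.b e
    rw [b1, b2] at e'
    have : (1 : F) = 0 := by linear_combination hcyc - e' - (ζ ^ 2 + ζ ^ 3) * h2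
    exact one_ne_zero this

end n2

end Cfsg.Agent.H60
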