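import Mathlib
import Cfsg.Agent.H81.DihBDefs

/-!
# S4481-LATD (team piece for helper81): the vector `u · h` and the final shape of the lattice
-/

set_option autoImplicit false

namespace Cfsg.Agent.H60.DihB

open Cfsg.Agent.H81.DihB

universe u

set_option maxHeartbeats 1000000 in
theorem latD : StmtLatD.{u} := by
  intro ι _ m h d u i₀ L hsym i₁ δ₁ j hC
  classical
  obtain ⟨hδ, hi10, hC3, hC4⟩ := hC
  have hm := L.hm
  have hh := L.hh
  have hh0 : 0 < h := by omega
  have hhm : h < m := by omega
  have hw0 : u i₀ h = -1 := L.hu0 h hh0 hhm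
  have hsq4 : ∑ i, u i h * u i h = 4 := by
    have h4 := L.hG h h hh0 hhm hh0 hhm
    rw [h4, if_pos rfl, if_pos (by omega)]; norm_num
  have hsq3 : ∑ i ∈ Finset.univ.erase i₀, u i h * u i h = 3 := by
    have h3 := Finset.add_sum_erase Finset.univ (fun i => u i h * u i h) (Finset.mem_univ i₀)
    rw [hsq4, hw0] at h3
    linarith
  have hbound : ∀ i, i ≠ i₀ → u i h = -1 ∨ u i h = 0 ∨ u i h = 1 := by
    intro i hi
    have hle : u i h * u i h ≤ ∑ i ∈ Finset.univ.erase i₀, u i h * u i h :=
      Finset.single_le_sum (f := fun i => u i h * u i h) (fun x _ => mul_self_nonneg _)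
        (Finset.mem_erase.mpr ⟨hi, Finset.mem_univ i⟩)
    rw [hsq3] at hle
    have h1 : u i h ≤ 1 := by nlinarith
    have h2 : -1 ≤ u i h := by nlinarith
    omega
  -- the support of `u · h` outside `i₀`
  obtain ⟨T, hTmem⟩ : ∃ T : Finset ι, ∀ i, i ∈ T ↔ i ≠ i₀ ∧ u i h ≠ 0 :=
    ⟨(Finset.univ.erase i₀).filter (fun i => u i h ≠ 0), fun i => by simp⟩
  have hTeq : T = (Finset.univ.erase i₀).filter (fun i => u i h ≠ 0) := by
    ext i; rw [hTmem]; simp
  have hTcard : T.card = 3 := by
    have h1 : ∑ i ∈ Finset.univ.erase i₀, u i h * u i h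
        = ∑ i ∈ Finset.univ.erase i₀, (if u i h ≠ 0 then (1:ℤ) else 0) := by
      apply Finset.sum_congr rfl
      intro i hi
      have hi' := (Finset.mem_erase.mp hi).1
      rcases hbound i hi' with e | e | e <;> rw [e] <;> norm_num
    rw [hsq3, Finset.sum_boole, ← hTeq] at h1
    exact_mod_cast h1.symm
  have hTval : ∀ i ∈ T, u i h = 1 ∨ u i h = -1 := by
    intro i hi
    obtain ⟨hi0, hne⟩ := (hTmem i).mp hi
    rcases hbound i hi0 with e | e | e
    · exact Or.inr e
    · exact absurd e hne
    · exact Or.inl e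
  have hTzero : ∀ i, i ≠ i₀ → i ∉ T → u i h = 0 := by
    intro i hi0 hiT
    by_contra hne
    exact hiT ((hTmem i).mpr ⟨hi0, hne⟩)
  have pick2 : ∀ c ∈ T, ∃ a b, a ≠ b ∧ a ≠ c ∧ b ≠ c ∧ a ∈ T ∧ b ∈ T ∧
      ∀ i ∈ T, i = c ∨ i = a ∨ i = b := by
    intro c hc
    have hcard : (T.erase c).card = 2 := by rw [Finset.card_erase_of_mem hc, hTcard]
    obtain ⟨a, b, hab, hE⟩ := Finset.card_eq_two.mp hcard
    have ha : a ∈ T.erase c := by rw [hE]; simp
    have hb : b ∈ T.erase c := by rw [hE]; simp
    refine ⟨a, b, hab, (Finset.mem_erase.mp ha).1, (Finset.mem_erase.mp hb).1,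
      (Finset.mem_erase.mp ha).2, (Finset.mem_erase.mp hb).2, ?_⟩
    intro i hi
    by_cases hic : i = c
    · exact Or.inl hic
    · right
      have hi' : i ∈ T.erase c := Finset.mem_erase.mpr ⟨hic, hi⟩
      rw [hE] at hi'
      simpa using hi'
  -- the generic columns
  have hrow : ∀ k, 0 < k → k < m → k ≠ h → ∀ i, u i k =
      (if i = j k then δ₁ else 0) - (if i = i₀ then 1 else 0) - (if i = i₁ then δ₁ else 0) := by
    intro k h1 h2 h3 i
    obtain ⟨hj0, hj1, hu1, huj, hrest⟩ := hC3 k h1 h2 h3
    by_cases hi0 : i = i₀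
    · rw [hi0, if_neg (Ne.symm hj0), if_pos rfl, if_neg (Ne.symm hi10), L.hu0 k h1 h2]; norm_num
    · by_cases hi1 : i = i₁
      · rw [hi1, if_neg (Ne.symm hj1), if_neg hi10, if_pos rfl, hu1]; ring
      · by_cases hij : i = j k
        · rw [hij, if_pos rfl, if_neg hj0, if_neg hj1, huj]; ring
        · rw [if_neg hij, if_neg hi0, if_neg hi1, hrest i hi0 hi1 hij]; norm_num
  have hb : ∀ k, 0 < k → k < m → k ≠ h → u (j k) h - u i₁ h = δ₁ := by
    intro k h1 h2 h3
    have hG := L.hG k h h1 h2 hh0 hhm
    have hsum : ∑ i, u i k * u i h = δ₁ * u (j k) h - u i₀ h - δ₁ * u i₁ h := by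
      rw [Finset.sum_congr rfl (fun i _ => by rw [hrow k h1 h2 h3 i])]
      simp [sub_mul, Finset.sum_sub_distrib, ite_mul]
    rw [hsum, hw0, if_neg h3, if_neg (by omega)] at hG
    rcases hδ with e | e <;> rw [e] at hG ⊢ <;> linarith
  have hjsym : ∀ s, 0 < s → s < m → s ≠ h → j (m - s) = j s := by
    intro s h1 h2 h3
    obtain ⟨hj0, hj1, hu1, huj, hrest⟩ := hC3 s h1 h2 h3
    have g1 : 0 < m - s := by omega
    have g2 : m - s < m := by omega
    have g3 : m - s ≠ h := by omega
    obtain ⟨hj0', hj1', hu1', huj', hrest'⟩ := hC3 (m - s) g1 g2 g3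
    by_contra hne
    have hz := hrest' (j s) hj0 hj1 (fun e => hne e.symm)
    rw [hsym s h1 h2, huj] at hz
    rcases hδ with e | e <;> rw [e] at hz <;> norm_num at hz
  have a1 : (0:ℕ) < 1 := one_pos
  have a2 : 1 < m := by omega
  have a3 : 1 ≠ h := by omega
  have hcase : u i₁ h = -δ₁ ∨ u i₁ h = δ₁ ∨ u i₁ h = 0 := by
    rcases hbound i₁ hi10 with e | e | e <;> rcases hδ with e' | e' <;> omega
  rcases hcase with hA | hB | hCz
  · -- Case A: `u i₁ h = -δ₁`
    have hjz : ∀ k, 0 < k → k < m → k ≠ h → u (j k) h = 0 := by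
      intro k h1 h2 h3
      have hbk := hb k h1 h2 h3
      omega
    have hi1T : i₁ ∈ T := by
      rw [hTmem]
      refine ⟨hi10, ?_⟩
      rcases hδ with e | e <;> omega
    obtain ⟨a, b, hab, ha1, hb1, haT, hbT, hall⟩ := pick2 i₁ hi1T
    have ha0 := ((hTmem a).mp haT).1
    have hb0 := ((hTmem b).mp hbT).1
    have hane := ((hTmem a).mp haT).2
    have hbne := ((hTmem b).mp hbT).2
    have haj : ∀ k, 0 < k → k < m → k ≠ h → a ≠ j k := by
      intro k h1 h2 h3 e
      exact hane (by rw [e]; exact hjz k h1 h2 h3)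
    have hbj : ∀ k, 0 < k → k < m → k ≠ h → b ≠ j k := by
      intro k h1 h2 h3 e
      exact hbne (by rw [e]; exact hjz k h1 h2 h3)
    refine ⟨i₁, a, b, fun t => j (t.1 + 1), δ₁, u a h, u b h, ?_⟩
    refine ⟨hδ, hTval a haT, hTval b hbT, ?_, hi10, ha0, hb0, Ne.symm ha1, Ne.symm hb1, hab,
      ?_, ?_⟩
    · intro t t' e
      have ht := t.2
      have ht' := t'.2
      have e' : j (t.1 + 1) = j (t'.1 + 1) := e
      rcases hC4 (t.1 + 1) (t'.1 + 1) (by omega) (by omega) (by omega) (by omega) (by omega)
        (by omega) e' with e1 | e1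
      · apply Fin.ext; omega
      · exfalso; omega
    · intro t
      have ht := t.2
      have g1 : 0 < t.1 + 1 := by omega
      have g2 : t.1 + 1 < m := by omega
      have g3 : t.1 + 1 ≠ h := by omega
      obtain ⟨hj0', hj1', -, -, -⟩ := hC3 (t.1 + 1) g1 g2 g3
      exact ⟨hj0', hj1', fun e => haj _ g1 g2 g3 e.symm, fun e => hbj _ g1 g2 g3 e.symm⟩
    · intro k h1 h2
      by_cases hk : k = h
      · rw [hk]
        refine ⟨hA, by rw [if_pos rfl], by rw [if_pos rfl], ?_, ?_⟩
        · intro t
          have ht := t.2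
          rw [if_neg (by omega)]
          exact hjz (t.1 + 1) (by omega) (by omega) (by omega)
        · intro i hi0 hi1 hia hib hit
          apply hTzero i hi0
          intro hiT
          rcases hall i hiT with e | e | e
          · exact hi1 e
          · exact hia e
          · exact hib e
      · obtain ⟨hj0, hj1, hu1, huj, hrest⟩ := hC3 k h1 h2 hk
        refine ⟨hu1, ?_, ?_, ?_, ?_⟩
        · rw [if_neg hk]; exact hrest a ha0 ha1 (haj k h1 h2 hk)
        · rw [if_neg hk]; exact hrest b hb0 hb1 (hbj k h1 h2 hk)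
        · intro t
          have ht := t.2
          have g1 : 0 < t.1 + 1 := by omega
          have g2 : t.1 + 1 < m := by omega
          have g3 : t.1 + 1 ≠ h := by omega
          obtain ⟨hj0', hj1', hu1', huj', hrest'⟩ := hC3 (t.1 + 1) g1 g2 g3
          by_cases hc : k = t.1 + 1 ∨ k + (t.1 + 1) = m
          · rw [if_pos hc]
            rcases hc with e | e
            · rw [e]; exact huj'
            · have e' : k = m - (t.1 + 1) := by omega
              rw [e', hsym (t.1 + 1) g1 g2]; exact huj'
          · rw [if_neg hc]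
            push Not at hc
            apply hrest (j (t.1 + 1)) hj0' hj1'
            intro e
            rcases hC4 (t.1 + 1) k g1 g2 g3 h1 h2 hk e with e1 | e1
            · exact hc.1 e1.symm
            · exact hc.2 (by omega)
        · intro i hi0 hi1 hia hib hit
          apply hrest i hi0 hi1
          by_cases hkh : k < h
          · have h' : i ≠ j (k - 1 + 1) := hit ⟨k - 1, by omega⟩
            have e : k - 1 + 1 = k := by omega
            rwa [e] at h'
          · have h' : i ≠ j (m - k - 1 + 1) := hit ⟨m - k - 1, by omega⟩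
            have e : m - k - 1 + 1 = m - k := by omega
            rw [e, hjsym k h1 h2 hk] at h'
            exact h'
  · -- Case B: `u i₁ h = δ₁` is impossible
    exfalso
    obtain ⟨hj0, -, -, -, -⟩ := hC3 1 a1 a2 a3
    have hb1 := hb 1 a1 a2 a3
    rcases hbound (j 1) hj0 with e | e | e <;> rcases hδ with e' | e' <;> omega
  · -- Case C: `u i₁ h = 0`
    have hjd : ∀ k, 0 < k → k < m → k ≠ h → u (j k) h = δ₁ := by
      intro k h1 h2 h3
      have hbk := hb k h1 h2 h3
      omega
    have hδ0 : δ₁ ≠ 0 := by rcases hδ with e | e <;> omega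
    have hjT : ∀ k, 0 < k → k < m → k ≠ h → j k ∈ T := by
      intro k h1 h2 h3
      rw [hTmem]
      exact ⟨(hC3 k h1 h2 h3).1, by rw [hjd k h1 h2 h3]; exact hδ0⟩
    obtain ⟨hj0, hj1, hu1, huj, hrest⟩ := hC3 1 a1 a2 a3
    obtain ⟨a, b, hab, ha1, hb1, haT, hbT, hall⟩ := pick2 (j 1) (hjT 1 a1 a2 a3)
    have ha0 := ((hTmem a).mp haT).1
    have hb0 := ((hTmem b).mp hbT).1
    have hane := ((hTmem a).mp haT).2
    have hbne := ((hTmem b).mp hbT).2
    have hhcases : h = 2 ∨ 4 ≤ h := by
      obtain ⟨c, hc⟩ := L.he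
      omega
    rcases hhcases with h2 | h4
    · -- `h = 2`: swap the roles of `i₁` and `j 1`
      have hai1 : a ≠ i₁ := fun e => hane (by rw [e]; exact hCz)
      have hbi1 : b ≠ i₁ := fun e => hbne (by rw [e]; exact hCz)
      have hk13 : ∀ k, 0 < k → k < m → k ≠ h → ∀ i, u i k = u i 1 := by
        intro k h1 h2' h3 i
        have hk : k = 1 ∨ k = 3 := by omega
        rcases hk with rfl | rfl
        · rfl
        · have hs := hsym 1 a1 a2 i
          have e : m - 1 = 3 := by omega
          rw [e] at hs; exact hs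
      refine ⟨j 1, a, b, fun _ => i₁, -δ₁, u a h, u b h, ?_⟩
      refine ⟨?_, hTval a haT, hTval b hbT, ?_, hj0, ha0, hb0, Ne.symm ha1, Ne.symm hb1, hab,
        ?_, ?_⟩
      · rcases hδ with e | e
        · right; rw [e]
        · left; rw [e]; norm_num
      · intro t t' _
        have ht := t.2
        have ht' := t'.2
        apply Fin.ext; omega
      · intro t
        exact ⟨hi10, Ne.symm hj1, Ne.symm hai1, Ne.symm hbi1⟩
      · intro k h1 h2'
        by_cases hk : k = h
        · rw [hk]
          refine ⟨by rw [neg_neg]; exact hjd 1 a1 a2 a3, by rw [if_pos rfl], by rw [if_pos rfl],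
            ?_, ?_⟩
          · intro t
            have ht := t.2
            rw [if_neg (by omega)]
            exact hCz
          · intro i hi0 hi1 hia hib hit
            apply hTzero i hi0
            intro hiT
            rcases hall i hiT with e | e | e
            · exact hi1 e
            · exact hia e
            · exact hib e
        · have hk1 := hk13 k h1 h2' hk
          refine ⟨by rw [hk1, neg_neg]; exact huj, ?_, ?_, ?_, ?_⟩
          · rw [if_neg hk, hk1]; exact hrest a ha0 hai1 ha1
          · rw [if_neg hk, hk1]; exact hrest b hb0 hbi1 hb1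
          · intro t
            have ht := t.2
            rw [if_pos (by omega), hk1]
            exact hu1
          · intro i hi0 hi1 hia hib hit
            rw [hk1]
            exact hrest i hi0 (hit ⟨0, by omega⟩) hi1
    · -- `h ≥ 4`: impossible by the degree equation
      exfalso
      have b1 : (0:ℕ) < 2 := two_pos
      have b2 : 2 < m := by omega
      have b3 : 2 ≠ h := by omega
      have c1 : (0:ℕ) < 3 := by norm_num
      have c2 : 3 < m := by omega
      have c3 : 3 ≠ h := by omega
      have h12 : j 2 ≠ j 1 := by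
        intro e
        rcases hC4 2 1 b1 b2 b3 a1 a2 a3 e with e1 | e1 <;> omega
      have h13 : j 3 ≠ j 1 := by
        intro e
        rcases hC4 3 1 c1 c2 c3 a1 a2 a3 e with e1 | e1 <;> omega
      have h23 : j 2 ≠ j 3 := by
        intro e
        rcases hC4 2 3 b1 b2 b3 c1 c2 c3 e with e1 | e1 <;> omega
      have hua : u a h = δ₁ ∧ u b h = δ₁ := by
        have e2 := hall (j 2) (hjT 2 b1 b2 b3)
        have e3 := hall (j 3) (hjT 3 c1 c2 c3)
        have v2 := hjd 2 b1 b2 b3
        have v3 := hjd 3 c1 c2 c3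
        rcases e2 with e2 | e2 | e2
        · exact absurd e2 h12
        · rcases e3 with e3 | e3 | e3
          · exact absurd e3 h13
          · exact absurd (e2.trans e3.symm) h23
          · exact ⟨by rw [← e2]; exact v2, by rw [← e3]; exact v3⟩
        · rcases e3 with e3 | e3 | e3
          · exact absurd e3 h13
          · exact ⟨by rw [← e3]; exact v3, by rw [← e2]; exact v2⟩
          · exact absurd (e2.trans e3.symm) h23
      have hrowh : ∀ i, u i h = (if i = j 1 then δ₁ else 0) + (if i = a then δ₁ else 0)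
          + (if i = b then δ₁ else 0) - (if i = i₀ then 1 else 0) := by
        intro i
        by_cases hi0 : i = i₀
        · rw [hi0, if_neg (Ne.symm hj0), if_neg (Ne.symm ha0), if_neg (Ne.symm hb0), if_pos rfl,
            hw0]; norm_num
        · by_cases hi1 : i = j 1
          · rw [hi1, if_pos rfl, if_neg (Ne.symm ha1), if_neg (Ne.symm hb1), if_neg hj0,
              hjd 1 a1 a2 a3]; norm_num
          · by_cases hia : i = a
            · rw [hia, if_neg ha1, if_pos rfl, if_neg hab, if_neg ha0, hua.1]; norm_num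
            · by_cases hib : i = b
              · rw [hib, if_neg hb1, if_neg (Ne.symm hab), if_pos rfl, if_neg hb0, hua.2]
                norm_num
              · rw [if_neg hi1, if_neg hia, if_neg hib, if_neg hi0]
                have hz : u i h = 0 := by
                  apply hTzero i hi0
                  intro hiT
                  rcases hall i hiT with e | e | e
                  · exact hi1 e
                  · exact hia e
                  · exact hib e
                rw [hz]; norm_num
      have hD := L.hD h hh0 hhm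
      have hsum : ∑ i, u i h * (d i : ℤ)
          = δ₁ * (d (j 1) : ℤ) + δ₁ * (d a : ℤ) + δ₁ * (d b : ℤ) - (d i₀ : ℤ) := by
        rw [Finset.sum_congr rfl (fun i _ => by rw [hrowh i])]
        simp [sub_mul, add_mul, Finset.sum_sub_distrib, Finset.sum_add_distrib, ite_mul]
      rw [hsum, L.hd0] at hD
      have p1 : (1:ℤ) ≤ (d (j 1) : ℤ) := by exact_mod_cast L.hd (j 1)
      have p2 : (1:ℤ) ≤ (d a : ℤ) := by exact_mod_cast L.hd a
      have p3 : (1:ℤ) ≤ (d b : ℤ) := by exact_mod_cast L.hd b
      rcases hδ with e | e <;> rw [e] at hD <;> push_cast at hD <;> linarith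

example : StmtLatD.{u} := latD

end Cfsg.Agent.H60.DihB
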