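import Mathlib

set_option autoImplicit false

namespace Cfsg.Agent.H60

section ext5

variable {G H T : Type*} [Group G] [Group H] [Group T]

theorem pow_conj_gen (i : T →* G) (s : G) (γ : MulAut T)
    (hc : ∀ y, s * i y * s⁻¹ = i (γ y)) (k : ℕ) (y : T) :
    s ^ k * i y = i ((γ ^ k) y) * s ^ k := by
  induction k with
  | zero => simp
  | succ k ih =>
    have e : (γ ^ (k + 1)) y = γ ((γ ^ k) y) := by
      rw [pow_succ', MulAut.mul_apply]
    rw [e, ← hc, pow_succ', mul_assoc, ih]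
    group

/-- `G` is the split extension of (the image of) `T` by an element `s` of order 5 inducing
`γ` on `T`. -/
structure Ext5 (i : T →* G) (s : G) (γ : MulAut T) : Prop where
  inj : Function.Injective i
  conj : ∀ y, s * i y * s⁻¹ = i (γ y)
  s5 : s ^ 5 = 1
  sT : ∀ k : ℕ, s ^ k ∈ i.range → 5 ∣ k
  gen : ∀ g, ∃ y, ∃ k : ℕ, g = i y * s ^ k

theorem Ext5.rep_unique {i : T →* G} {s : G} {γ : MulAut T} (E : Ext5 i s γ)
    {y y' : T} {k k' : ℕ} (h : i y * s ^ k = i y' * s ^ k') : y = y' ∧ k % 5 = k' % 5 := by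
  have h5 : ∀ m : ℕ, s ^ (5 * m) = 1 := fun m => by rw [pow_mul, E.s5, one_pow]
  have h1 : s ^ (k + 4 * k') ∈ i.range := by
    refine ⟨y⁻¹ * y', ?_⟩
    have e1 : s ^ k = (i y)⁻¹ * (i y' * s ^ k') := by rw [← h]; group
    have e2 : s ^ (k + 4 * k') = (i y)⁻¹ * i y' * s ^ (5 * k') := by
      rw [pow_add, e1, show 5 * k' = k' + 4 * k' by ring, pow_add]
      group
    rw [e2, h5, mul_one, map_mul, map_inv]
  have h2 := E.sT _ h1
  have hk : k % 5 = k' % 5 := by omega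
  refine ⟨?_, hk⟩
  have e3 : s ^ k = s ^ k' := by
    rw [pow_eq_pow_mod k E.s5, pow_eq_pow_mod k' E.s5, hk]
  rw [e3] at h
  exact E.inj (mul_right_cancel h)

/-- extension of a compatible pair to a homomorphism on the split extension -/
theorem Ext5.lift {i : T →* G} {s : G} {γ : MulAut T} (E : Ext5 i s γ)
    (j : T →* H) (h : H) (hh : ∀ y, h * j y * h⁻¹ = j (γ y)) (hh5 : h ^ 5 = 1) :
    ∃ f : G →* H, ∀ (y : T) (k : ℕ), f (i y * s ^ k) = j y * h ^ k := by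
  choose yG kG hG using E.gen
  have key : ∀ (y : T) (k : ℕ), j (yG (i y * s ^ k)) * h ^ (kG (i y * s ^ k)) = j y * h ^ k := by
    intro y k
    obtain ⟨e1, e2⟩ := E.rep_unique (hG (i y * s ^ k))
    rw [← e1, pow_eq_pow_mod (kG (i y * s ^ k)) hh5, pow_eq_pow_mod k hh5, e2]
  have hmul : ∀ g g' : G, j (yG (g * g')) * h ^ (kG (g * g'))
      = (j (yG g) * h ^ (kG g)) * (j (yG g') * h ^ (kG g')) := by
    intro g g'
    have e : g * g' = i (yG g * (γ ^ (kG g)) (yG g')) * s ^ (kG g + kG g') := by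
      conv_lhs => rw [hG g, hG g']
      rw [mul_assoc, ← mul_assoc (s ^ kG g), pow_conj_gen i s γ E.conj, map_mul, pow_add]
      group
    rw [e, key, map_mul, pow_add, mul_assoc (j (yG g)), ← mul_assoc (j _) (h ^ kG g),
      ← pow_conj_gen j h γ hh]
    group
  refine ⟨MonoidHom.mk' (fun g => j (yG g) * h ^ (kG g)) hmul, ?_⟩
  intro y k
  exact key y k

theorem Ext5.iso {i : T →* G} {s : G} {γ : MulAut T} (E₁ : Ext5 i s γ)
    {j : T →* H} {h : H} (E₂ : Ext5 j h γ) : Nonempty (G ≃* H) := by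
  obtain ⟨f, hf⟩ := E₁.lift j h E₂.conj E₂.s5
  obtain ⟨f', hf'⟩ := E₂.lift i s E₁.conj E₁.s5
  refine ⟨MonoidHom.toMulEquiv f f' ?_ ?_⟩
  · ext g
    obtain ⟨y, k, rfl⟩ := E₁.gen g
    rw [MonoidHom.comp_apply, hf, hf']
    rfl
  · ext g
    obtain ⟨y, k, rfl⟩ := E₂.gen g
    rw [MonoidHom.comp_apply, hf', hf]
    rfl

theorem Ext5.transport {T' : Type*} [Group T'] {i : T →* G} {s : G} {γ : MulAut T}
    (E : Ext5 i s γ) (Φ : T ≃* T') (γ' : MulAut T') (h : ∀ y, Φ (γ y) = γ' (Φ y)) :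
    Ext5 (i.comp Φ.symm.toMonoidHom) s γ' := by
  refine ⟨?_, ?_, E.s5, ?_, ?_⟩
  · exact E.inj.comp Φ.symm.injective
  · intro y
    show s * i (Φ.symm y) * s⁻¹ = i (Φ.symm (γ' y))
    rw [E.conj]
    congr 1
    apply Φ.injective
    rw [h, Φ.apply_symm_apply, Φ.apply_symm_apply]
  · intro k hk
    apply E.sT k
    obtain ⟨y, hy⟩ := hk
    exact ⟨Φ.symm y, hy⟩
  · intro g
    obtain ⟨y, k, rfl⟩ := E.gen g
    refine ⟨Φ y, k, ?_⟩
    show i y * s ^ k = i (Φ.symm (Φ y)) * s ^ k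
    rw [Φ.symm_apply_apply]

end ext5

end Cfsg.Agent.H60
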