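import Mathlib
import Cfsg.Agent.H60.Fpf3

/-!
# helper60: a finite `p`-group with a fixed-point-free automorphism of order three has class ≤ 2

* `Fpf3.cc_swap`, `Fpf3.cc_rho_gen`, `Fpf3.cc_rho2_gen`: the commutator identities
  `⁅ρ x, y⁆ = ⁅x, ρ y⁆ = ρ² ⁅x, y⁆` (no nilpotency assumption).
* `Fpf3.mem_of_inv_mul_mem`: `ρ` stays fixed-point-free modulo a `ρ`-stable subgroup.
* `jacobi_of_central3`: the Jacobi identity when all triple commutators are central.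
* `Fpf3.class2`: all triple commutators vanish.
-/

set_option autoImplicit false

namespace Cfsg.Agent.H60

open scoped Classical

open scoped commutatorElement

universe u

section jac

variable {T : Type*} [Group T]

theorem conj_central (g c : T) (hc : c ∈ Subgroup.center T) : g * c * g⁻¹ = c := by
  have h := Subgroup.mem_center_iff.mp hc g
  rw [h, mul_inv_cancel_right]

theorem cc_inv_left_of_central (u w : T) (hc : ⁅u, w⁆ ∈ Subgroup.center T) :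
    ⁅u⁻¹, w⁆ = ⁅u, w⁆⁻¹ := by
  have e : ⁅u⁻¹, w⁆ = u⁻¹ * ⁅u, w⁆⁻¹ * u⁻¹⁻¹ := by
    simp only [commutatorElement_def]; group
  rw [e, conj_central _ _ (inv_mem hc)]

theorem cc_inv_right_of_central (u w : T) (hc : ⁅u, w⁆ ∈ Subgroup.center T) :
    ⁅u, w⁻¹⁆ = ⁅u, w⁆⁻¹ := by
  have e : ⁅u, w⁻¹⁆ = w⁻¹ * ⁅u, w⁆⁻¹ * w⁻¹⁻¹ := by
    simp only [commutatorElement_def]; group
  rw [e, conj_central _ _ (inv_mem hc)]

theorem cc_mul_central_right (u w g : T) (hg : g ∈ Subgroup.center T) : ⁅u, w * g⁆ = ⁅u, w⁆ := by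
  rw [cc_mul_right u w g (by rw [cc_central_right u g hg]; exact Subgroup.one_mem _),
    cc_central_right u g hg, mul_one]

/-- The Jacobi identity in a group all of whose triple commutators are central. -/
theorem jacobi_of_central3 (H : ∀ x y z : T, ⁅⁅x, y⁆, z⁆ ∈ Subgroup.center T) (x y z : T) :
    ⁅⁅x, y⁆, z⁆ * (⁅⁅z, x⁆, y⁆ * ⁅⁅y, z⁆, x⁆) = 1 := by
  have H' : ∀ x y z : T, ⁅z, ⁅x, y⁆⁆ ∈ Subgroup.center T := by
    intro x y z
    rw [← commutatorElement_inv]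
    exact inv_mem (H x y z)
  -- the two correction terms
  have hQ : ⁅x⁻¹, ⁅y⁻¹, z⁆⁆ = ⁅x, ⁅y, z⁆⁆ := by
    have e1 : ⁅y⁻¹, z⁆ = ⁅y, z⁆⁻¹ * ⁅⁅y, z⁆, y⁻¹⁆ := by
      simp only [commutatorElement_def]; group
    rw [e1, cc_mul_central_right _ _ _ (H y z y⁻¹)]
    have e2 : ⁅x, ⁅y, z⁆⁻¹⁆ ∈ Subgroup.center T := by
      rw [commutatorElement_inv y z]; exact H' z y x
    rw [cc_inv_left_of_central _ _ e2, cc_inv_right_of_central _ _ (H' y z x), inv_inv]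
  have hP : ⁅y, ⁅z⁻¹, x⁻¹⁆⁆ = ⁅y, ⁅z, x⁆⁆ := by
    have e1 : ⁅z⁻¹, x⁻¹⁆ = ⁅z, x⁆ * ⁅⁅z, x⁆⁻¹, (x * z)⁻¹⁆ := by
      simp only [commutatorElement_def]; group
    have e2 : ⁅⁅z, x⁆⁻¹, (x * z)⁻¹⁆ ∈ Subgroup.center T := by
      rw [commutatorElement_inv z x]; exact H x z _
    rw [e1, cc_mul_central_right _ _ _ e2]
  have hw : ⁅z, ⁅x, y⁆⁆ = x * z * ⁅y, ⁅z⁻¹, x⁻¹⁆⁆⁻¹ * z⁻¹ * y * ⁅x⁻¹, ⁅y⁻¹, z⁆⁆⁻¹ * y⁻¹ * x⁻¹ := by
    group
  rw [hP, hQ] at hw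
  have e3 : x * z * ⁅y, ⁅z, x⁆⁆⁻¹ * z⁻¹ * y * ⁅x, ⁅y, z⁆⁆⁻¹ * y⁻¹ * x⁻¹
      = ((x * z) * ⁅y, ⁅z, x⁆⁆⁻¹ * (x * z)⁻¹) * ((x * y) * ⁅x, ⁅y, z⁆⁆⁻¹ * (x * y)⁻¹) := by
    group
  rw [e3, conj_central _ _ (inv_mem (H' z x y)), conj_central _ _ (inv_mem (H' y z x)),
    commutatorElement_inv, commutatorElement_inv, ← commutatorElement_inv ⁅x, y⁆ z] at hw
  rw [← hw, mul_inv_cancel]

end jac

namespace Fpf3

variable {T : Type*} [Group T] {ρ : MulAut T}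

/-- `⁅ρ x, y⁆ = ⁅x, ρ y⁆`. -/
theorem cc_swap [Finite T] (h : Fpf3 ρ) (x y : T) : ⁅ρ x, y⁆ = ⁅x, ρ y⁆ := by
  have r1 : x * ρ x = ρ x * x := h.comm x
  have r2 : y * ρ y = ρ y * y := h.comm y
  have r3 := h.comm (x⁻¹ * y)
  simp only [map_mul, map_inv] at r3
  -- r3 : x⁻¹ * y * ((ρ x)⁻¹ * ρ y) = (ρ x)⁻¹ * ρ y * (x⁻¹ * y)
  have e1 : y * (ρ x)⁻¹ * ρ y = x * (ρ x)⁻¹ * ρ y * x⁻¹ * y := by
    have : y * (ρ x)⁻¹ * ρ y = x * (x⁻¹ * y * ((ρ x)⁻¹ * ρ y)) := by group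
    rw [this, r3]; group
  have e2 : ρ x * x * (ρ x)⁻¹ = x := by rw [← r1]; group
  have e3 : y * (ρ y)⁻¹ * y⁻¹ = (ρ y)⁻¹ := by
    have : y * (ρ y)⁻¹ * y⁻¹ = (ρ y)⁻¹ * (ρ y * y) * (ρ y)⁻¹ * y⁻¹ := by group
    rw [this, ← r2]; group
  calc ⁅ρ x, y⁆ = ρ x * (y * (ρ x)⁻¹ * ρ y) * (ρ y)⁻¹ * y⁻¹ := by
        simp only [commutatorElement_def]; group
    _ = ρ x * (x * (ρ x)⁻¹ * ρ y * x⁻¹ * y) * (ρ y)⁻¹ * y⁻¹ := by rw [e1]
    _ = (ρ x * x * (ρ x)⁻¹) * ρ y * x⁻¹ * (y * (ρ y)⁻¹ * y⁻¹) := by group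
    _ = x * ρ y * x⁻¹ * (ρ y)⁻¹ := by rw [e2, e3]
    _ = ⁅x, ρ y⁆ := by simp only [commutatorElement_def]

/-- `⁅ρ² x, y⁆ = ρ ⁅x, y⁆`. -/
theorem cc_rho_left2_gen [Finite T] (h : Fpf3 ρ) (x y : T) : ⁅ρ (ρ x), y⁆ = ρ ⁅x, y⁆ := by
  rw [h.cc_swap (ρ x) y, map_commutatorElement]

/-- `⁅ρ x, y⁆ = ρ² ⁅x, y⁆`. -/
theorem cc_rho_left_gen [Finite T] (h : Fpf3 ρ) (x y : T) : ⁅ρ x, y⁆ = ρ (ρ ⁅x, y⁆) := by
  have e : ρ x = ρ (ρ (ρ (ρ x))) := by rw [h.r3]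
  rw [e, h.cc_rho_left2_gen (ρ (ρ x)) y, h.cc_rho_left2_gen x y]

/-- `⁅x, ρ y⁆ = ρ² ⁅x, y⁆`. -/
theorem cc_rho_gen [Finite T] (h : Fpf3 ρ) (x y : T) : ⁅x, ρ y⁆ = ρ (ρ ⁅x, y⁆) := by
  rw [← h.cc_swap x y, h.cc_rho_left_gen x y]

/-- `⁅x, ρ² y⁆ = ρ ⁅x, y⁆`. -/
theorem cc_rho2_gen [Finite T] (h : Fpf3 ρ) (x y : T) : ⁅x, ρ (ρ y)⁆ = ρ ⁅x, y⁆ := by
  rw [h.cc_rho_gen x (ρ y), h.cc_rho_gen x y, h.r3]

/-- `ρ` is fixed-point-free modulo a stable subgroup. -/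
theorem mem_of_inv_mul_mem [Finite T] (h : Fpf3 ρ) (N : Subgroup T) (hN : RInv ρ N) (x : T)
    (hx : x⁻¹ * ρ x ∈ N) : x ∈ N := by
  have hinj : Function.Injective (fun n : ↥N => (⟨(n : T)⁻¹ * ρ n, N.mul_mem (N.inv_mem n.2)
      (hN _ n.2)⟩ : ↥N)) := by
    intro n m hnm
    have hnm' : (n : T)⁻¹ * ρ n = (m : T)⁻¹ * ρ m := congrArg Subtype.val hnm
    have e : ρ ((m : T) * (n : T)⁻¹) = (m : T) * (n : T)⁻¹ := by
      rw [map_mul, map_inv]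
      have e' : ρ (m : T) = (m : T) * ((n : T)⁻¹ * ρ n) := by rw [hnm']; group
      rw [e']; group
    have h1 := h.fp _ e
    exact Subtype.ext (mul_inv_eq_one.mp h1).symm
  obtain ⟨n, hn⟩ := (Finite.surjective_of_injective hinj) ⟨x⁻¹ * ρ x, hx⟩
  have hn' : (n : T)⁻¹ * ρ n = x⁻¹ * ρ x := congrArg Subtype.val hn
  have e : ρ (x * (n : T)⁻¹) = x * (n : T)⁻¹ := by
    rw [map_mul, map_inv]
    have e' : ρ x = x * ((n : T)⁻¹ * ρ n) := by rw [hn']; group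
    rw [e']; group
  have h1 := h.fp _ e
  rw [mul_inv_eq_one.mp h1]
  exact n.2

/-- If all triple commutators are central, they vanish. -/
theorem class2_of_central3 [Finite T] (h : Fpf3 ρ)
    (H : ∀ x y z : T, ⁅⁅x, y⁆, z⁆ ∈ Subgroup.center T) (x y z : T) : ⁅⁅x, y⁆, z⁆ = 1 := by
  have j1 := jacobi_of_central3 H x y z
  have j2 := jacobi_of_central3 H x y (ρ z)
  have e1 : ⁅⁅x, y⁆, ρ z⁆ = ρ (ρ ⁅⁅x, y⁆, z⁆) := h.cc_rho_gen _ _
  have e2 : ⁅⁅ρ z, x⁆, y⁆ = ρ ⁅⁅z, x⁆, y⁆ := by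
    rw [h.cc_rho_left_gen z x, h.cc_rho_left2_gen]
  have e3 : ⁅⁅y, ρ z⁆, x⁆ = ρ ⁅⁅y, z⁆, x⁆ := by
    rw [h.cc_rho_gen y z, h.cc_rho_left2_gen]
  rw [e1, e2, e3, ← map_mul, ← map_mul] at j2
  have j3 : ρ ⁅⁅x, y⁆, z⁆ * (⁅⁅z, x⁆, y⁆ * ⁅⁅y, z⁆, x⁆) = 1 := by
    have := j2
    rw [← map_one ρ] at this
    exact ρ.injective this
  have j4 : ρ ⁅⁅x, y⁆, z⁆ = ⁅⁅x, y⁆, z⁆ := mul_right_cancel (j3.trans j1.symm)
  exact h.fp _ j4

/-- A finite `p`-group with a fixed-point-free automorphism of order three has class at most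
two. -/
theorem class2_aux {p : ℕ} [Fact p.Prime] : ∀ (n : ℕ) (T : Type u) [Group T] [Finite T]
    (ρ : MulAut T), Nat.card T ≤ n → IsPGroup p T → Fpf3 ρ →
    ∀ x y z : T, ⁅⁅x, y⁆, z⁆ = 1 := by
  intro n
  induction n with
  | zero =>
    intro T _ _ ρ hn
    have := Nat.card_pos (α := T)
    omega
  | succ n ih =>
    intro T _ _ ρ hn hp h
    by_cases hsub : Subsingleton T
    · intro x y z; exact Subsingleton.elim _ _
    rw [not_subsingleton_iff_nontrivial] at hsub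
    haveI := hsub
    haveI := hp.center_nontrivial
    have hZ1 : 1 < Nat.card ↥(Subgroup.center T) := Finite.one_lt_card
    have hcq : Nat.card (T ⧸ Subgroup.center T) ≤ n := by
      have e := Subgroup.card_eq_card_quotient_mul_card_subgroup (Subgroup.center T)
      have hq : 0 < Nat.card (T ⧸ Subgroup.center T) := Nat.card_pos
      nlinarith
    have hmap : Subgroup.map (ρ : T →* T) (Subgroup.center T) = Subgroup.center T := by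
      apply le_antisymm
      · rintro _ ⟨z, hz, rfl⟩
        exact rinv_center z hz
      · intro z hz
        refine ⟨ρ (ρ z), rinv_center _ (rinv_center z hz), ?_⟩
        exact h.r3 z
    set ρ' : MulAut (T ⧸ Subgroup.center T) :=
      QuotientGroup.congr (Subgroup.center T) (Subgroup.center T) ρ hmap with hρ'
    have hmk : ∀ x : T, ρ' (x : T ⧸ Subgroup.center T) = ((ρ x : T) : T ⧸ Subgroup.center T) :=
      fun x => QuotientGroup.congr_mk _ _ ρ hmap x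
    have h' : Fpf3 ρ' := by
      constructor
      · intro q
        obtain ⟨x, rfl⟩ := QuotientGroup.mk_surjective q
        rw [hmk, hmk, hmk, h.r3]
      · intro q hq
        obtain ⟨x, rfl⟩ := QuotientGroup.mk_surjective q
        rw [hmk] at hq
        have hx : x⁻¹ * ρ x ∈ Subgroup.center T := by
          rw [← QuotientGroup.eq_one_iff, QuotientGroup.mk_mul, QuotientGroup.mk_inv, hq,
            inv_mul_cancel]
        exact (QuotientGroup.eq_one_iff x).mpr (h.mem_of_inv_mul_mem _ rinv_center x hx)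
    have H : ∀ x y z : T, ⁅⁅x, y⁆, z⁆ ∈ Subgroup.center T := by
      intro x y z
      have e := ih (T ⧸ Subgroup.center T) ρ' hcq (hp.to_quotient _) h'
        (x : T ⧸ Subgroup.center T) (y : T ⧸ Subgroup.center T) (z : T ⧸ Subgroup.center T)
      rw [← QuotientGroup.eq_one_iff]
      have e' : ((⁅⁅x, y⁆, z⁆ : T) : T ⧸ Subgroup.center T)
          = ⁅⁅(x : T ⧸ Subgroup.center T), (y : T ⧸ Subgroup.center T)⁆,
              (z : T ⧸ Subgroup.center T)⁆ := by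
        simp only [commutatorElement_def, QuotientGroup.mk_mul, QuotientGroup.mk_inv]
      rw [e', e]
    exact h.class2_of_central3 H

theorem class2 {p : ℕ} [Fact p.Prime] {T : Type u} [Group T] [Finite T] {ρ : MulAut T}
    (h : Fpf3 ρ) (hp : IsPGroup p T) (x y : T) : ⁅x, y⁆ ∈ Subgroup.center T := by
  rw [Subgroup.mem_center_iff]
  intro z
  have e := class2_aux (p := p) (Nat.card T) T ρ le_rfl hp h x y z
  exact (commutatorElement_eq_one_iff_mul_comm.mp e).symm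

end Fpf3

end Cfsg.Agent.H60
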