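import Mathlib
import Cfsg.Agent.H60.Fpf3Cl

/-!
# helper60: abelian 2-groups with a fixed-point-free automorphism of order three and an involutory
automorphism with at most four fixed points

* `zpowers_invol`: the unique involution of a cyclic 2-group.
* `rank2_struct`: rank at most two implies homocyclic of rank two.
* `abel_struct`: elementary abelian of order 16, or homocyclic of rank two.
* `fix_quot_le`: an automorphism has at most as many fixed points on a quotient as on the group.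
-/

set_option autoImplicit false

namespace Cfsg.Agent.H60

open scoped Classical

open scoped commutatorElement

section rank2

variable {A : Type*} [Group A]

/-- The unique involution of a cyclic 2-group. -/
theorem zpowers_invol {x : A} {n : ℕ} (hx : orderOf x = 2 ^ (n + 1)) {w : A}
    (hw : w ∈ Subgroup.zpowers x) (hw2 : w * w = 1) (hw1 : w ≠ 1) : w = x ^ 2 ^ n := by
  obtain ⟨k, rfl⟩ := Subgroup.mem_zpowers_iff.mp hw
  have h1 : x ^ (2 * k) = 1 := by rw [two_mul, zpow_add]; exact hw2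
  have h2 : ((orderOf x : ℕ) : ℤ) ∣ 2 * k := orderOf_dvd_iff_zpow_eq_one.mpr h1
  rw [hx] at h2
  have h3 : ((2 : ℤ) ^ n) ∣ k := by
    have e : ((2 ^ (n + 1) : ℕ) : ℤ) = 2 * 2 ^ n := by push_cast; ring
    rw [e] at h2
    exact (mul_dvd_mul_iff_left (two_ne_zero)).mp h2
  obtain ⟨m, rfl⟩ := h3
  have hu2 : x ^ 2 ^ n * x ^ 2 ^ n = 1 := by
    rw [← pow_add, ← two_mul, ← pow_succ', ← hx, pow_orderOf_eq_one]
  have e1 : x ^ ((2 : ℤ) ^ n * m) = (x ^ 2 ^ n) ^ m := by
    rw [zpow_mul]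
    congr 1
    exact_mod_cast zpow_natCast x (2 ^ n)
  rw [e1] at hw1 ⊢
  rcases Int.even_or_odd' m with ⟨j, rfl | rfl⟩
  · exfalso; apply hw1
    rw [zpow_mul, zpow_two, hu2, one_zpow]
  · rw [zpow_add, zpow_mul, zpow_two, hu2, one_zpow, one_mul, zpow_one]

/-- An abelian 2-group with at most four solutions of `x² = 1` and a fixed-point-free
automorphism of order three is homocyclic of rank two. -/
theorem rank2_struct [Finite A] (hcomm : ∀ a b : A, a * b = b * a) (hA : IsPGroup 2 A)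
    (ρ : MulAut A) (hρ : Fpf3 ρ) (Ω : Subgroup A) (hΩ : ∀ x, x ∈ Ω ↔ x * x = 1)
    (hΩ4 : Nat.card ↥Ω ≤ 4) :
    ∃ n : ℕ, ∃ x : A, orderOf x = 2 ^ n ∧ Subgroup.closure {x, ρ x} = ⊤ ∧
      Nonempty (A ≃* Multiplicative (ZMod (2 ^ n)) × Multiplicative (ZMod (2 ^ n))) := by
  obtain ⟨sq, hsq⟩ : ∃ sq : A →* A, ∀ a, sq a = a * a :=
    ⟨MonoidHom.mk' (fun a => a * a) (by
      intro a b
      show a * b * (a * b) = a * a * (b * b)
      rw [mul_assoc, ← mul_assoc b, hcomm b a, mul_assoc, mul_assoc]), fun a => rfl⟩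
  obtain ⟨x, hx⟩ : ∃ x : A, ∀ y : A, orderOf y ≤ orderOf x :=
    Finite.exists_max (fun y : A => orderOf y)
  obtain ⟨n, hn⟩ : ∃ n, orderOf x = 2 ^ n := by
    obtain ⟨k, hk⟩ := hA x
    obtain ⟨n, -, hn⟩ := (Nat.dvd_prime_pow Nat.prime_two).mp (orderOf_dvd_of_pow_eq_one hk)
    exact ⟨n, hn⟩
  have hexp : ∀ y : A, y ^ 2 ^ n = 1 := by
    intro y
    obtain ⟨k, hk⟩ := hA y
    obtain ⟨m, -, hm⟩ := (Nat.dvd_prime_pow Nat.prime_two).mp (orderOf_dvd_of_pow_eq_one hk)
    have hle := hx y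
    rw [hm, hn] at hle
    have hmn : m ≤ n := (Nat.pow_le_pow_iff_right (by norm_num)).mp hle
    apply orderOf_dvd_iff_pow_eq_one.mp
    rw [hm]; exact pow_dvd_pow 2 hmn
  have hcard : ∀ k : ℕ, ∀ H : Subgroup A, (∀ y ∈ H, y ^ 2 ^ k = 1) → Nat.card ↥H ≤ 4 ^ k := by
    intro k
    induction k with
    | zero =>
      intro H hH
      have e : H = ⊥ := by
        rw [eq_bot_iff]; intro y hy; rw [Subgroup.mem_bot]; simpa using hH y hy
      rw [e, Subgroup.card_bot]; norm_num
    | succ k ih =>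
      intro H hH
      set f : ↥H →* A := sq.comp H.subtype with hf
      have h1 : Nat.card ↥f.ker * f.ker.index = Nat.card ↥H := Subgroup.card_mul_index f.ker
      rw [Subgroup.index_ker] at h1
      have h2 : Nat.card ↥f.range ≤ 4 ^ k := by
        apply ih
        rintro _ ⟨y, rfl⟩
        show (sq (y : A)) ^ 2 ^ k = 1
        rw [hsq, ← pow_two, ← pow_mul, ← pow_succ']
        exact hH y y.2
      have h3 : Nat.card ↥f.ker ≤ 4 := by
        have h4 : Nat.card ↥f.ker ≤ Nat.card ↥Ω := by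
          apply Nat.card_le_card_of_injective (fun y : ↥f.ker => (⟨((y : ↥H) : A), by
            have h5 := y.2
            rw [MonoidHom.mem_ker] at h5
            rw [hΩ, ← hsq]; exact h5⟩ : ↥Ω))
          intro y y' hyy'
          have h6 : ((y : ↥H) : A) = ((y' : ↥H) : A) := congrArg (fun z : ↥Ω => (z : A)) hyy'
          exact Subtype.ext (Subtype.ext h6)
        omega
      calc Nat.card ↥H = Nat.card ↥f.ker * Nat.card ↥f.range := h1.symm
        _ ≤ 4 * 4 ^ k := Nat.mul_le_mul h3 h2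
        _ = 4 ^ (k + 1) := by ring
  have hA4 : Nat.card A ≤ 4 ^ n := by
    have h1 := hcard n ⊤ (fun y _ => hexp y)
    rwa [Subgroup.card_top] at h1
  have hρx : orderOf (ρ x) = 2 ^ n := by rw [← hn]; exact MulEquiv.orderOf_eq ρ x
  have hdisj : ∀ w : A, w ∈ Subgroup.zpowers x → w ∈ Subgroup.zpowers (ρ x) → w = 1 := by
    intro w hw hw'
    by_contra hw1
    rcases Nat.eq_zero_or_pos n with hn0 | hn0
    · rw [hn0, pow_zero, orderOf_eq_one_iff] at hn
      rw [hn, Subgroup.zpowers_one_eq_bot, Subgroup.mem_bot] at hw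
      exact hw1 hw
    obtain ⟨m, rfl⟩ : ∃ m, n = m + 1 := ⟨n - 1, by omega⟩
    obtain ⟨j, hj⟩ : ∃ j : ℕ, orderOf w = 2 ^ (j + 1) := by
      obtain ⟨k, hk⟩ := hA w
      obtain ⟨j, -, hj⟩ := (Nat.dvd_prime_pow Nat.prime_two).mp (orderOf_dvd_of_pow_eq_one hk)
      rcases Nat.eq_zero_or_pos j with h0 | h0
      · rw [h0, pow_zero, orderOf_eq_one_iff] at hj; exact absurd hj hw1
      · exact ⟨j - 1, by rw [hj]; congr 1; omega⟩
    have hv2 : w ^ 2 ^ j * w ^ 2 ^ j = 1 := by
      rw [← pow_add, ← two_mul, ← pow_succ', ← hj, pow_orderOf_eq_one]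
    have hv1 : w ^ 2 ^ j ≠ 1 := by
      intro h1
      have h2 := orderOf_dvd_of_pow_eq_one h1
      rw [hj] at h2
      have h3 := Nat.le_of_dvd (by positivity) h2
      have h4 : 2 ^ j < 2 ^ (j + 1) := Nat.pow_lt_pow_right (by norm_num) (by omega)
      omega
    have e1 := zpowers_invol hn (Subgroup.pow_mem _ hw _) hv2 hv1
    have e2 := zpowers_invol hρx (Subgroup.pow_mem _ hw' _) hv2 hv1
    have e3 : ρ (w ^ 2 ^ j) = w ^ 2 ^ j := by
      have e4 : ρ (w ^ 2 ^ j) = ρ (x ^ 2 ^ m) := by rw [← e1]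
      rw [e4, map_pow]; exact e2.symm
    exact hv1 (hρ.fp _ e3)
  have hcommxy : ∀ (a : ↥(Subgroup.zpowers x)) (b : ↥(Subgroup.zpowers (ρ x))),
      Commute ((Subgroup.zpowers x).subtype a) ((Subgroup.zpowers (ρ x)).subtype b) :=
    fun a b => hcomm _ _
  obtain ⟨ψ, hψapp⟩ : ∃ ψ : ↥(Subgroup.zpowers x) × ↥(Subgroup.zpowers (ρ x)) →* A,
      ∀ a b, ψ (a, b) = (a : A) * (b : A) :=
    ⟨MonoidHom.noncommCoprod (Subgroup.zpowers x).subtype (Subgroup.zpowers (ρ x)).subtype
      hcommxy, fun a b => rfl⟩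
  have hψinj : Function.Injective ψ := by
    rw [injective_iff_map_eq_one]
    rintro ⟨a, b⟩ hab
    rw [hψapp] at hab
    have ha : (a : A) = (b : A)⁻¹ := eq_inv_of_mul_eq_one_left hab
    have ha1 : (a : A) = 1 := hdisj _ a.2 (by rw [ha]; exact inv_mem b.2)
    have hb1 : (b : A) = 1 := by rw [ha1, one_mul] at hab; exact hab
    exact Prod.ext (Subtype.ext ha1) (Subtype.ext hb1)
  have k1 : Nat.card ↥(Subgroup.zpowers x) = 2 ^ n := by rw [Nat.card_zpowers, hn]
  have k2 : Nat.card ↥(Subgroup.zpowers (ρ x)) = 2 ^ n := by rw [Nat.card_zpowers, hρx]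
  have hcardprod : Nat.card (↥(Subgroup.zpowers x) × ↥(Subgroup.zpowers (ρ x))) = 4 ^ n := by
    rw [Nat.card_prod, k1, k2, ← mul_pow]
    norm_num
  have hψbij : Function.Bijective ψ :=
    hψinj.bijective_of_nat_card_le (by rw [hcardprod]; exact hA4)
  refine ⟨n, x, hn, ?_, ?_⟩
  · rw [eq_top_iff]
    intro y _
    obtain ⟨⟨a, b⟩, rfl⟩ := hψbij.2 y
    rw [hψapp]
    have hx1 : x ∈ Subgroup.closure {x, ρ x} := Subgroup.subset_closure (Or.inl rfl)
    have hx2 : ρ x ∈ Subgroup.closure {x, ρ x} := Subgroup.subset_closure (Or.inr rfl)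
    exact Subgroup.mul_mem _ (Subgroup.zpowers_le.mpr hx1 a.2) (Subgroup.zpowers_le.mpr hx2 b.2)
  · have c1 : IsCyclic ↥(Subgroup.zpowers x) := inferInstance
    have c2 : IsCyclic ↥(Subgroup.zpowers (ρ x)) := inferInstance
    have g1 : Multiplicative (ZMod (2 ^ n)) ≃*
        Multiplicative (ZMod (Nat.card ↥(Subgroup.zpowers x))) :=
      AddEquiv.toMultiplicative (ZMod.ringEquivCongr k1.symm).toAddEquiv
    have g2 : Multiplicative (ZMod (2 ^ n)) ≃*
        Multiplicative (ZMod (Nat.card ↥(Subgroup.zpowers (ρ x)))) :=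
      AddEquiv.toMultiplicative (ZMod.ringEquivCongr k2.symm).toAddEquiv
    have f1 : Multiplicative (ZMod (2 ^ n)) ≃* ↥(Subgroup.zpowers x) :=
      MulEquiv.trans g1 (zmodCyclicMulEquiv c1)
    have f2 : Multiplicative (ZMod (2 ^ n)) ≃* ↥(Subgroup.zpowers (ρ x)) :=
      MulEquiv.trans g2 (zmodCyclicMulEquiv c2)
    exact ⟨((MulEquiv.ofBijective ψ hψbij).symm).trans (MulEquiv.prodCongr f1.symm f2.symm)⟩

end rank2

section abel

variable {A : Type*} [Group A]

theorem Fpf3.card_le16 [Finite A] (hA : IsPGroup 2 A) {ρ : MulAut A} (hρ : Fpf3 ρ)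
    (M : Subgroup A) (hM : RInv ρ M) (h16 : Nat.card ↥M ≤ 16) :
    Nat.card ↥M = 1 ∨ Nat.card ↥M = 4 ∨ Nat.card ↥M = 16 := by
  haveI : Fact (Nat.Prime 2) := ⟨Nat.prime_two⟩
  obtain ⟨k, hk⟩ := IsPGroup.iff_card.mp (hA.to_subgroup M)
  have hmod := hρ.card_mod M hM
  rw [hk] at hmod h16 ⊢
  have hk2 : k ≤ 4 := by
    by_contra hlt
    push Not at hlt
    have h5 : 2 ^ 5 ≤ 2 ^ k := Nat.pow_le_pow_right (by norm_num) hlt
    omega
  interval_cases k <;> simp [Nat.ModEq] at hmod ⊢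

theorem Fpf3.card_le4 [Finite A] (hA : IsPGroup 2 A) {ρ : MulAut A} (hρ : Fpf3 ρ)
    (M : Subgroup A) (hM : RInv ρ M) (h4 : Nat.card ↥M ≤ 4) :
    Nat.card ↥M = 1 ∨ Nat.card ↥M = 4 := by
  rcases hρ.card_le16 hA M hM (by omega) with h | h | h
  · exact Or.inl h
  · exact Or.inr h
  · omega

/-- An abelian 2-group with a fixed-point-free automorphism `ρ` of order three and a commuting
involutory automorphism `t` with at most four fixed points is elementary abelian of order 16 or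
homocyclic of rank two. -/
theorem abel_struct [Finite A] (hcomm : ∀ a b : A, a * b = b * a)
    (hA : IsPGroup 2 A) (ρ t : MulAut A) (hρ : Fpf3 ρ) (ht2 : ∀ x, t (t x) = x)
    (htρ : ∀ x, t (ρ x) = ρ (t x)) (C : Subgroup A) (hC : ∀ x, x ∈ C ↔ t x = x)
    (hC4 : Nat.card ↥C ≤ 4) :
    (Nat.card A = 16 ∧ ∀ x : A, x * x = 1) ∨
    (∃ n : ℕ, ∃ x : A, orderOf x = 2 ^ n ∧ Subgroup.closure {x, ρ x} = ⊤ ∧
      Nonempty (A ≃* Multiplicative (ZMod (2 ^ n)) × Multiplicative (ZMod (2 ^ n)))) := by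
  haveI : Fact (Nat.Prime 2) := ⟨Nat.prime_two⟩
  have hmul4 : ∀ a b : A, a * b * (a * b) = (a * a) * (b * b) := by
    intro a b
    rw [mul_assoc, ← mul_assoc b, hcomm b a, mul_assoc, mul_assoc]
  obtain ⟨sq, hsq⟩ : ∃ sq : A →* A, ∀ a, sq a = a * a :=
    ⟨MonoidHom.mk' (fun a => a * a) (fun a b => hmul4 a b), fun a => rfl⟩
  obtain ⟨Ω, hΩ⟩ : ∃ Ω : Subgroup A, ∀ x, x ∈ Ω ↔ x * x = 1 :=
    ⟨{ carrier := {x | x * x = 1}
       mul_mem' := by
         intro a b ha hb
         have ha' : a * a = 1 := ha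
         have hb' : b * b = 1 := hb
         show a * b * (a * b) = 1
         rw [hmul4, ha', hb', one_mul]
       one_mem' := one_mul 1
       inv_mem' := by
         intro a ha
         have ha' : a * a = 1 := ha
         show a⁻¹ * a⁻¹ = 1
         rw [← mul_inv_rev, ha', inv_one] }, fun x => Iff.rfl⟩
  have hΩinv : RInv ρ Ω := by
    intro x hx
    rw [hΩ] at hx ⊢
    rw [← map_mul, hx, map_one]
  have hCinv : RInv ρ C := by
    intro x hx
    rw [hC] at hx ⊢
    rw [htρ, hx]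
  have hord : ∀ k : A, k * k ≠ 1 → ∃ m, orderOf k = 2 ^ (m + 2) := by
    intro k hkk
    obtain ⟨i, hi⟩ := hA k
    obtain ⟨j, -, hj⟩ := (Nat.dvd_prime_pow Nat.prime_two).mp (orderOf_dvd_of_pow_eq_one hi)
    have hj2 : 2 ≤ j := by
      by_contra hlt
      push Not at hlt
      apply hkk
      have h1 : orderOf k ∣ 2 := by
        rw [hj]
        exact pow_dvd_pow 2 (by omega : j ≤ 1)
      rw [← pow_two]; exact orderOf_dvd_iff_pow_eq_one.mp h1
    exact ⟨j - 2, by rw [hj]; congr 1; omega⟩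
  -- `C` has exponent two
  have hCsq : ∀ c ∈ C, c * c = 1 := by
    intro c hc
    by_contra hcc
    obtain ⟨m, hm⟩ := hord c hcc
    have hle : Nat.card ↥(Subgroup.zpowers c) ≤ Nat.card ↥C :=
      Subgroup.card_le_of_le (Subgroup.zpowers_le.mpr hc)
    rw [Nat.card_zpowers, hm] at hle
    have hm0 : m = 0 := by
      by_contra hne
      have h8 : 2 ^ 3 ≤ 2 ^ (m + 2) := Nat.pow_le_pow_right (by norm_num) (by omega)
      omega
    rw [hm0] at hm
    have heq : Subgroup.zpowers c = C :=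
      Subgroup.eq_of_le_of_card_ge (Subgroup.zpowers_le.mpr hc)
        (by rw [Nat.card_zpowers, hm]; exact hC4)
    have hu2 : c ^ 2 ^ 1 * c ^ 2 ^ 1 = 1 := by
      rw [← pow_add]
      have e : (2 : ℕ) ^ 1 + 2 ^ 1 = orderOf c := by rw [hm]; norm_num
      rw [e, pow_orderOf_eq_one]
    have hu1 : c ^ 2 ^ 1 ≠ 1 := by
      intro h
      apply hcc
      rw [← pow_two]
      simpa using h
    have hρu : ρ (c ^ 2 ^ 1) ∈ Subgroup.zpowers c := by
      rw [heq]; exact hCinv _ (C.pow_mem hc _)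
    have e := zpowers_invol (n := 1) hm hρu (by rw [← map_mul, hu2, map_one])
      (fun h => hu1 ((map_eq_one_iff ρ ρ.injective).mp h))
    exact hu1 (hρ.fp _ e)
  -- the norm homomorphism
  obtain ⟨N, hN⟩ : ∃ N : A →* A, ∀ a, N a = a * t a :=
    ⟨MonoidHom.mk' (fun a => a * t a) (by
      intro a b
      show a * b * t (a * b) = a * t a * (b * t b)
      rw [map_mul, mul_assoc, ← mul_assoc b, hcomm b (t a), mul_assoc, mul_assoc]), fun a => rfl⟩
  have hNC : ∀ a, N a ∈ C := by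
    intro a
    rw [hC, hN, map_mul, ht2, hcomm]
  have hΩ16 : Nat.card ↥Ω ≤ 16 := by
    set f : ↥Ω →* A := N.comp Ω.subtype with hf
    have h1 : Nat.card ↥f.ker * f.ker.index = Nat.card ↥Ω := Subgroup.card_mul_index f.ker
    rw [Subgroup.index_ker] at h1
    have h2 : Nat.card ↥f.range ≤ 4 := by
      have hle : f.range ≤ C := by
        rintro _ ⟨y, rfl⟩
        exact hNC _
      exact (Subgroup.card_le_of_le hle).trans hC4
    have h3 : Nat.card ↥f.ker ≤ 4 := by
      have h4 : Nat.card ↥f.ker ≤ Nat.card ↥C := by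
        apply Nat.card_le_card_of_injective (fun y : ↥f.ker => (⟨((y : ↥Ω) : A), by
          have h5 := y.2
          rw [MonoidHom.mem_ker] at h5
          have h6 : ((y : ↥Ω) : A) * t ((y : ↥Ω) : A) = 1 := by rw [← hN]; exact h5
          have h7 : ((y : ↥Ω) : A) * ((y : ↥Ω) : A) = 1 := (hΩ _).mp (y : ↥Ω).2
          rw [hC]
          exact mul_left_cancel (h6.trans h7.symm)⟩ : ↥C))
        intro y y' hyy'
        have h6 : ((y : ↥Ω) : A) = ((y' : ↥Ω) : A) := congrArg (fun z : ↥C => (z : A)) hyy'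
        exact Subtype.ext (Subtype.ext h6)
      omega
    calc Nat.card ↥Ω = Nat.card ↥f.ker * Nat.card ↥f.range := h1.symm
      _ ≤ 4 * 4 := Nat.mul_le_mul h3 h2
      _ = 16 := by norm_num
  rcases hρ.card_le16 hA Ω hΩinv hΩ16 with h1 | h4 | h16
  · right; exact rank2_struct hcomm hA ρ hρ Ω hΩ (by omega)
  · right; exact rank2_struct hcomm hA ρ hρ Ω hΩ (by omega)
  · left
    have hCK : C ≤ N.ker := by
      intro c hc
      rw [MonoidHom.mem_ker, hN, (hC c).mp hc]
      exact hCsq c hc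
    have hKinv : RInv ρ N.ker := by
      intro k hk
      rw [MonoidHom.mem_ker, hN] at hk ⊢
      rw [htρ, ← map_mul, hk, map_one]
    have hKsq : ∀ k ∈ N.ker, k * k = 1 := by
      intro k hk
      by_contra hkk
      obtain ⟨m, hm⟩ := hord k hkk
      have hu2 : k ^ 2 ^ (m + 1) * k ^ 2 ^ (m + 1) = 1 := by
        rw [← pow_add, ← two_mul, ← pow_succ', ← hm, pow_orderOf_eq_one]
      have hu1 : k ^ 2 ^ (m + 1) ≠ 1 := by
        intro h1
        have h2 := orderOf_dvd_of_pow_eq_one h1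
        rw [hm] at h2
        have h3 := Nat.le_of_dvd (by positivity) h2
        have h4 : 2 ^ (m + 1) < 2 ^ (m + 2) := Nat.pow_lt_pow_right (by norm_num) (by omega)
        omega
      have huK : k ^ 2 ^ (m + 1) ∈ N.ker := Subgroup.pow_mem _ hk _
      have husq : k ^ 2 ^ (m + 1) ∈ N.ker.map sq :=
        ⟨k ^ 2 ^ m, Subgroup.pow_mem _ hk _, by rw [hsq, ← pow_add, ← two_mul, ← pow_succ']⟩
      have huC : k ^ 2 ^ (m + 1) ∈ C := by
        rw [hC]
        have h5 := huK
        rw [MonoidHom.mem_ker, hN] at h5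
        exact mul_left_cancel (h5.trans hu2.symm)
      have hS'inv : RInv ρ (N.ker.map sq ⊓ C) := rinv_inf (by
        rintro _ ⟨y, hy, rfl⟩
        exact ⟨ρ y, hKinv y hy, by rw [hsq, hsq, map_mul]⟩) hCinv
      have hS'le : N.ker.map sq ⊓ C ≤ C := inf_le_right
      have hS'card := Subgroup.card_le_of_le hS'le
      have hS'ne : Nat.card ↥(N.ker.map sq ⊓ C) ≠ 1 := by
        intro h1
        have e := Subgroup.eq_bot_of_card_eq _ h1
        have hmem : k ^ 2 ^ (m + 1) ∈ N.ker.map sq ⊓ C := ⟨husq, huC⟩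
        rw [e, Subgroup.mem_bot] at hmem
        exact hu1 hmem
      have hS'eq : N.ker.map sq ⊓ C = C := by
        rcases hρ.card_le4 hA _ hS'inv (hS'card.trans hC4) with h1 | h4
        · exact absurd h1 hS'ne
        · exact Subgroup.eq_of_le_of_card_ge hS'le (by omega)
      have hΩC : Ω ≤ C := by
        intro f hf
        have hd : N f ∈ N.ker.map sq := by
          have h5 : N f ∈ N.ker.map sq ⊓ C := by rw [hS'eq]; exact hNC f
          exact h5.1
        obtain ⟨k₀, hk₀, hk₀d⟩ := hd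
        rw [hsq, hN] at hk₀d
        have hff : f * f = 1 := (hΩ f).mp hf
        have hk₀t : k₀ * t k₀ = 1 := by rw [← hN]; exact hk₀
        have h1 : t (f * k₀) = f * k₀ := by
          rw [map_mul]
          have e1 : t k₀ = k₀⁻¹ := eq_inv_of_mul_eq_one_right hk₀t
          have e2 : t f = f⁻¹ * (k₀ * k₀) := by rw [hk₀d]; group
          have e3 : f⁻¹ = f := inv_eq_of_mul_eq_one_right hff
          rw [e1, e2, e3]; group
        have h2 : f * k₀ ∈ N.ker := hCK ((hC _).mpr h1)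
        have h3 : f ∈ N.ker := by
          have h5 := Subgroup.mul_mem _ h2 (Subgroup.inv_mem _ hk₀)
          rwa [mul_inv_cancel_right] at h5
        rw [MonoidHom.mem_ker, hN] at h3
        rw [hC]
        exact mul_left_cancel (h3.trans hff.symm)
      have h5 := Subgroup.card_le_of_le hΩC
      omega
    have hKC : N.ker ≤ C := by
      intro k hk
      have h1 := hKsq k hk
      have h2 := hk
      rw [MonoidHom.mem_ker, hN] at h2
      rw [hC]
      exact mul_left_cancel (h2.trans h1.symm)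
    have hcardA : Nat.card A ≤ 16 := by
      have h1 : Nat.card ↥N.ker * N.ker.index = Nat.card A := Subgroup.card_mul_index N.ker
      rw [Subgroup.index_ker] at h1
      have h2 : Nat.card ↥N.range ≤ 4 := by
        have hle : N.range ≤ C := by
          rintro _ ⟨y, rfl⟩
          exact hNC _
        exact (Subgroup.card_le_of_le hle).trans hC4
      have h3 : Nat.card ↥N.ker ≤ 4 := (Subgroup.card_le_of_le hKC).trans hC4
      calc Nat.card A = Nat.card ↥N.ker * Nat.card ↥N.range := h1.symm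
        _ ≤ 4 * 4 := Nat.mul_le_mul h3 h2
        _ = 16 := by norm_num
    have hΩle := Subgroup.card_le_card_group Ω
    have hΩtop : Ω = ⊤ := Subgroup.eq_top_of_card_eq _ (by omega)
    exact ⟨by omega, fun x => (hΩ x).mp (hΩtop ▸ Subgroup.mem_top x)⟩

end abel

section quot

/-- An automorphism has at most as many fixed points on a quotient as on the group. -/
theorem fix_quot_le {X : Type*} [Group X] [Finite X] (t : MulAut X) (N : Subgroup X) [N.Normal]
    (C : Subgroup X) (hC : ∀ x, t x = x → x ∈ C) (F : Subgroup (X ⧸ N))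
    (hF : ∀ x : X, (x : X ⧸ N) ∈ F → x⁻¹ * t x ∈ N) : Nat.card ↥F ≤ Nat.card ↥C := by
  set P : Subgroup X := F.comap (QuotientGroup.mk' N) with hP
  have hPmem : ∀ x, x ∈ P → (x : X ⧸ N) ∈ F := fun x hx => hx
  have h1 : P.index = F.index :=
    Subgroup.index_comap_of_surjective F (QuotientGroup.mk'_surjective N)
  have h2 := Subgroup.card_mul_index P
  have h3 := Subgroup.card_mul_index F
  have h4 := Subgroup.card_eq_card_quotient_mul_card_subgroup N
  have key : ∀ x y : X, x⁻¹ * t x = y⁻¹ * t y → t (x * y⁻¹) = x * y⁻¹ := by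
    intro x y h
    have e1 : t x = x * (y⁻¹ * t y) := by rw [← h]; group
    rw [map_mul, map_inv, e1]; group
  have hchoose : ∀ n : X, ∃ r : X, (∃ y ∈ P, y⁻¹ * t y = n) → r⁻¹ * t r = n := by
    intro n
    by_cases h : ∃ y ∈ P, y⁻¹ * t y = n
    · obtain ⟨y, hy, hyn⟩ := h
      exact ⟨y, fun _ => hyn⟩
    · exact ⟨1, fun h' => absurd h' h⟩
  choose r hr using hchoose
  have hinj : Nat.card ↥P ≤ Nat.card (↥N × ↥C) := by
    apply Nat.card_le_card_of_injective (fun x : ↥P =>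
      ((⟨(x : X)⁻¹ * t x, hF x (hPmem x x.2)⟩ : ↥N),
       (⟨(x : X) * (r ((x : X)⁻¹ * t x))⁻¹,
          hC _ (key x (r ((x : X)⁻¹ * t x)) (hr ((x : X)⁻¹ * t x) ⟨x, x.2, rfl⟩).symm)⟩ : ↥C)))
    intro x x' hxx'
    have h5 : (x : X)⁻¹ * t x = (x' : X)⁻¹ * t x' :=
      congrArg (fun p : ↥N × ↥C => (p.1 : X)) hxx'
    have h6 : (x : X) * (r ((x : X)⁻¹ * t x))⁻¹ = (x' : X) * (r ((x' : X)⁻¹ * t x'))⁻¹ :=
      congrArg (fun p : ↥N × ↥C => (p.2 : X)) hxx'
    rw [← h5] at h6
    exact Subtype.ext (mul_right_cancel h6)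
  have hidx : 0 < F.index := Nat.pos_of_ne_zero Subgroup.index_ne_zero_of_finite
  have hNpos : 0 < Nat.card ↥N := Nat.card_pos
  rw [Nat.card_prod] at hinj
  have h5 : Nat.card ↥P * F.index = Nat.card ↥F * Nat.card ↥N * F.index := by
    calc Nat.card ↥P * F.index = Nat.card ↥P * P.index := by rw [h1]
      _ = Nat.card X := h2
      _ = Nat.card (X ⧸ N) * Nat.card ↥N := h4
      _ = Nat.card ↥F * F.index * Nat.card ↥N := by rw [h3]
      _ = Nat.card ↥F * Nat.card ↥N * F.index := by ring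
  have h6 : Nat.card ↥P = Nat.card ↥F * Nat.card ↥N := Nat.eq_of_mul_eq_mul_right hidx h5
  rw [h6] at hinj
  exact Nat.le_of_mul_le_mul_left (by rw [mul_comm]; exact hinj) hNpos

end quot

end Cfsg.Agent.H60
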