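import Mathlib
import Cfsg.Prelude.Def_Classical
import Cfsg.Agent.H60.SuzSU
import Cfsg.Agent.H60.Sp5Par
import Cfsg.Agent.H60.Ext5

set_option autoImplicit false

namespace Cfsg.Agent.H60

open Finset Matrix

open scoped Classical

section cent

variable {F : Type*} [Field F] [Fintype F] [hS : SuzFin F 2]

omit [Fintype F] hS in
theorem hSU_det (l : F) (hl : l ^ 5 = 1) : (Matrix.diagonal ![l, l, l ^ 3]).det = 1 := by
  rw [Matrix.det_diagonal, Fin.prod_univ_three]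
  simp only [Matrix.cons_val_zero, Matrix.cons_val_one, Matrix.cons_val_two, Matrix.head_cons,
    Matrix.tail_cons]
  linear_combination hl

omit [Fintype F] hS in
theorem hSU_pres (l : F) (hl : l ^ 5 = 1) (u v : Fin 3 → F) :
    Cfsg.hermForm 3 F (2 ^ 2) (Matrix.diagonal ![l, l, l ^ 3] *ᵥ u)
      (Matrix.diagonal ![l, l, l ^ 3] *ᵥ v) = Cfsg.hermForm 3 F (2 ^ 2) u v := by
  unfold Cfsg.hermForm
  simp only [Matrix.mulVec_diagonal, Fin.sum_univ_three, Matrix.cons_val_zero, Matrix.cons_val_one,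
    Matrix.cons_val_two, Matrix.head_cons, Matrix.tail_cons]
  linear_combination (u 0 * v 0 ^ 4 + u 1 * v 1 ^ 4) * hl
    + u 2 * v 2 ^ 4 * (l ^ 10 + l ^ 5 + 1) * hl

/-- the diagonal unitary matrix `diag(l, l, l^3)` for `l^5 = 1` -/
def hSU (l : F) (hl : l ^ 5 = 1) : ↥(Cfsg.SU 3 F (2 ^ 2)) :=
  ⟨⟨Matrix.diagonal ![l, l, l ^ 3], hSU_det l hl⟩, hSU_pres l hl⟩

omit [Fintype F] hS in
theorem hSU_coe (l : F) (hl : l ^ 5 = 1) :
    ((hSU l hl : ↥(Cfsg.SU 3 F (2 ^ 2))).1 : Matrix (Fin 3) (Fin 3) F)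
      = Matrix.diagonal ![l, l, l ^ 3] := rfl

omit [Fintype F] hS in
theorem hSU_congr {l l' : F} (h : l = l') (hl : l ^ 5 = 1) (hl' : l' ^ 5 = 1) :
    hSU l hl = hSU l' hl' := by
  subst h; rfl

omit [Fintype F] hS in
theorem hSU_one (h1 : (1 : F) ^ 5 = 1) : hSU (1 : F) h1 = 1 := by
  apply Subtype.ext
  apply Subtype.ext
  show Matrix.diagonal ![(1 : F), 1, 1 ^ 3] = 1
  ext i j
  fin_cases i <;> fin_cases j <;> simp

omit [Fintype F] hS in
theorem hSU_mul (l l' : F) (hl : l ^ 5 = 1) (hl' : l' ^ 5 = 1) (hll : (l * l') ^ 5 = 1) :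
    hSU l hl * hSU l' hl' = hSU (l * l') hll := by
  apply Subtype.ext
  apply Subtype.ext
  show Matrix.diagonal ![l, l, l ^ 3] * Matrix.diagonal ![l', l', l' ^ 3]
    = Matrix.diagonal ![l * l', l * l', (l * l') ^ 3]
  rw [Matrix.diagonal_mul_diagonal]
  congr 1
  ext i
  fin_cases i <;> simp [mul_pow]

omit [Fintype F] hS in
theorem hSU_pow (l : F) (hl : l ^ 5 = 1) (k : ℕ) (hlk : (l ^ k) ^ 5 = 1) :
    hSU (l ^ k) hlk = (hSU l hl) ^ k := by
  induction k with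
  | zero =>
    calc hSU (l ^ 0) hlk = hSU 1 (one_pow 5) := hSU_congr (pow_zero l) _ _
      _ = 1 := hSU_one _
      _ = (hSU l hl) ^ 0 := (pow_zero _).symm
  | succ k ih =>
    have hk : (l ^ k) ^ 5 = 1 := by rw [← pow_mul, mul_comm, pow_mul, hl, one_pow]
    have hk' : (l ^ k * l) ^ 5 = 1 := by rw [← pow_succ]; exact hlk
    calc hSU (l ^ (k + 1)) hlk = hSU (l ^ k * l) hk' := hSU_congr (pow_succ l k) _ _
      _ = hSU (l ^ k) hk * hSU l hl := (hSU_mul (l ^ k) l hk hl hk').symm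
      _ = (hSU l hl) ^ k * hSU l hl := by rw [ih hk]
      _ = (hSU l hl) ^ (k + 1) := (pow_succ _ k).symm

theorem hSU_mul_par (l : F) (hl : l ^ 5 = 1) (hl0 : l ^ 2 ≠ 0) (x : Par F 2) :
    hSU l hl * parToSU x
      = parToSU (Par.gam (n := 2) (l ^ 2) hl0 (RingEquiv.refl F) x) * hSU l hl := by
  apply Subtype.ext
  apply Subtype.ext
  show Matrix.diagonal ![l, l, l ^ 3] * gmat 2 x.a x.b
    = gmat 2 (l ^ 2 * x.a) ((l ^ 2) ^ (2 ^ 2 + 1) * x.b) * Matrix.diagonal ![l, l, l ^ 3]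
  ext i j
  rw [Matrix.diagonal_mul, Matrix.mul_diagonal]
  fin_cases i <;> fin_cases j <;>
    simp only [gmat, Matrix.of_apply, Matrix.cons_val', Matrix.cons_val_zero, Matrix.cons_val_one,
      Matrix.cons_val_two, Matrix.cons_val_fin_one, Matrix.head_cons, Matrix.tail_cons,
      Matrix.head_fin_const, Fin.zero_eta, Fin.mk_one, Fin.reduceFinMk]
  · linear_combination (-(l * x.b * (l ^ 5 + 1))) * hl
  · linear_combination (-(l * x.b * (l ^ 5 + 1))) * hl
  · linear_combination (-(l * x.a ^ 4 * (l ^ 5 + 1))) * hl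
  · linear_combination (-(l * x.b * (l ^ 5 + 1))) * hl
  · linear_combination (-(l * x.b * (l ^ 5 + 1))) * hl
  · linear_combination (-(l * x.a ^ 4 * (l ^ 5 + 1))) * hl
  · ring
  · ring
  · ring

/-- the central involution of the Sylow 2-subgroup, as a unitary matrix -/
def tSU (F : Type*) [Field F] [Fintype F] [hS : SuzFin F 2] : ↥(Cfsg.SU 3 F (2 ^ 2)) :=
  parToSU (Par.zc (n := 2) (1 : F) (one_pow _))

theorem par_comm_tSU (x : Par F 2) : parToSU x * tSU F = tSU F * parToSU x := by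
  unfold tSU
  rw [← parToSU_mul, ← parToSU_mul]
  congr 1
  exact Subgroup.mem_center_iff.mp (Par.zc_mem_center (n := 2) (1 : F) (one_pow _)) x

theorem hSU_comm_tSU (l : F) (hl : l ^ 5 = 1) : hSU l hl * tSU F = tSU F * hSU l hl := by
  have hl0 : l ^ 2 ≠ 0 := by
    intro h0
    have : l = 0 := pow_eq_zero_iff (two_ne_zero) |>.mp h0
    rw [this] at hl
    norm_num at hl
  unfold tSU
  rw [hSU_mul_par l hl hl0]
  congr 2
  have h5 : (l ^ 2) ^ 5 = 1 := by rw [← pow_mul, mul_comm, pow_mul, hl, one_pow]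
  apply Par.ext
  · rw [par_gam_a, Par.zc_a, mul_zero]
  · rw [par_gam_b _ h5]

theorem tSU_order : orderOf (tSU F) = 2 := by
  haveI : Fact (Nat.Prime 2) := ⟨Nat.prime_two⟩
  apply orderOf_eq_prime
  · have e : (tSU F) ^ 2 = tSU F * tSU F := pow_two _
    rw [e]
    unfold tSU
    rw [← parToSU_mul, Par.zc_mul_self, parToSU_one]
  · unfold tSU
    intro h
    rw [← parToSU_one] at h
    have := congrArg Par.b (parToSU_injective h)
    simp at this

attribute [local instance] suVecAction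

theorem cent_struct (g : ↥(Cfsg.SU 3 F (2 ^ 2))) (hg : g * tSU F = tSU F * g) :
    ∃ (l : F) (hl : l ^ 5 = 1) (x : Par F 2), g = hSU l hl * parToSU x := by
  have h2 := suz_two F 2
  have z0 : (0 : F) ^ (2 ^ 2) = 0 := Par.zero_pow_q
  have hm : (g.1 : Matrix (Fin 3) (Fin 3) F) * gmat 2 (0 : F) 1
      = gmat 2 (0 : F) 1 * (g.1 : Matrix (Fin 3) (Fin 3) F) :=
    congrArg (fun g : ↥(Cfsg.SU 3 F (2 ^ 2)) => (g.1 : Matrix (Fin 3) (Fin 3) F)) hg
  obtain ⟨⟨M, hdet⟩, hpres⟩ := g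
  have hpres' : ∀ u v, Cfsg.hermForm 3 F (2 ^ 2) (M *ᵥ u) (M *ᵥ v)
      = Cfsg.hermForm 3 F (2 ^ 2) u v := hpres
  have hm' : M * gmat 2 (0 : F) 1 = gmat 2 (0 : F) 1 * M := hm
  have h00 := congrFun (congrFun hm' 0) 0
  have h01 := congrFun (congrFun hm' 0) 1
  have h02 := congrFun (congrFun hm' 0) 2
  have h20 := congrFun (congrFun hm' 2) 0
  simp [gmat, Matrix.mul_apply, Fin.sum_univ_three] at h00 h01 h02 h20
  have hu := hpres' ![1, 1, 0] ![1, 0, 0]
  simp [Cfsg.hermForm, Matrix.mulVec, dotProduct, Fin.sum_univ_three] at hu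
  have e10 : M 1 0 = M 0 1 := by linear_combination -h00
  have e11 : M 1 1 = M 0 0 := by linear_combination -h01
  have e12 : M 1 2 = M 0 2 := by linear_combination -h02 - M 0 2 * h2
  have e21 : M 2 1 = M 2 0 := by linear_combination h20 - M 2 0 * h2
  rw [e10, e11, e21] at hu
  have e4 : (M 0 0 + M 0 1) ^ 4 = M 0 0 ^ 4 + M 0 1 ^ 4 := suz_add (n := 2) _ _
  have hl : (M 0 0 + M 0 1) ^ 5 = 1 := by
    have e5 : (M 0 0 + M 0 1) ^ 5 = (M 0 0 + M 0 1) * (M 0 0 + M 0 1) ^ 4 := by ring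
    rw [e5, e4]
    linear_combination hu - M 2 0 ^ 5 * h2
  have hgv : (⟨⟨M, hdet⟩, hpres⟩ : ↥(Cfsg.SU 3 F (2 ^ 2))) • (![1, 1, 0] : Fin 3 → F)
      = hSU (M 0 0 + M 0 1) hl • (![1, 1, 0] : Fin 3 → F) := by
    rw [su_smul_def, su_smul_def]
    show M *ᵥ ![1, 1, 0] = Matrix.diagonal ![M 0 0 + M 0 1, M 0 0 + M 0 1, (M 0 0 + M 0 1) ^ 3]
      *ᵥ ![1, 1, 0]
    ext i
    fin_cases i
    · simp [Matrix.mulVec, dotProduct, Fin.sum_univ_three]
    · simp [Matrix.mulVec, dotProduct, Fin.sum_univ_three, e10, e11, add_comm]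
    · simp [Matrix.mulVec, dotProduct, Fin.sum_univ_three, e21]
      linear_combination M 2 0 * h2
  have hmem : (hSU (M 0 0 + M 0 1) hl)⁻¹ * ⟨⟨M, hdet⟩, hpres⟩ ∈ stabU F (2 ^ 2) := by
    show ((hSU (M 0 0 + M 0 1) hl)⁻¹ * (⟨⟨M, hdet⟩, hpres⟩ : ↥(Cfsg.SU 3 F (2 ^ 2))))
      • (![1, 1, 0] : Fin 3 → F) = ![1, 1, 0]
    rw [mul_smul, inv_smul_eq_iff]
    exact hgv
  obtain ⟨x, hx⟩ := exists_par_of_mem_stab hmem
  refine ⟨M 0 0 + M 0 1, hl, x, ?_⟩
  rw [hx, mul_inv_cancel_left]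

theorem su4_center : Subgroup.center ↥(Cfsg.SU 3 F (2 ^ 2)) = ⊥ := by
  have h2 := suz_two F 2
  rw [eq_bot_iff]
  intro z hz
  rw [Subgroup.mem_bot]
  have hzc := Subgroup.mem_center_iff.mp hz
  obtain ⟨l, hl, x, hzx⟩ := cent_struct z (hzc (tSU F)).symm
  have hl0 : l ^ 2 ≠ 0 := by
    intro h0
    have : l = 0 := pow_eq_zero_iff (two_ne_zero) |>.mp h0
    rw [this] at hl
    norm_num at hl
  have key := hzc (parToSU (Par.gam (n := 2) (l ^ 2) hl0 (RingEquiv.refl F) (Par.lift 1)))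
  rw [hzx, ← mul_assoc, ← hSU_mul_par, mul_assoc, mul_assoc, ← parToSU_mul, ← parToSU_mul] at key
  have key2 := parToSU_injective (mul_left_cancel key)
  have ha := congrArg Par.a key2
  simp only [Par.mul_a, Par.lift_a, par_gam_a] at ha
  have hl2 : l ^ 2 = 1 := by linear_combination -ha
  have hl1 : l = 1 := by linear_combination hl - l * (l ^ 2 + 1) * hl2
  subst hl1
  rw [hSU_one, one_mul] at hzx
  have hmem : z ∈ stabU F (2 ^ 2) ⊓ Subgroup.center ↥(Cfsg.SU 3 F (2 ^ 2)) :=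
    ⟨hzx ▸ parToSU_mem_stab x, hz⟩
  rw [stab_inf_center] at hmem
  exact Subgroup.mem_bot.mp hmem

theorem exists_fifth_root : ∃ l : F, l ^ 5 = 1 ∧ l ≠ 1 := by
  haveI : Fact (Nat.Prime 5) := ⟨by norm_num⟩
  have hcard : Nat.card Fˣ = 15 := by
    rw [Nat.card_eq_fintype_card, Fintype.card_units, hS.card]
    norm_num
  obtain ⟨u, hu⟩ := exists_prime_orderOf_dvd_card' (G := Fˣ) 5 (by rw [hcard]; norm_num)
  refine ⟨(u : F), ?_, ?_⟩
  · have h5 : u ^ 5 = 1 := by rw [← hu]; exact pow_orderOf_eq_one u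
    have := congrArg (fun v : Fˣ => (v : F)) h5
    simpa using this
  · intro h
    have h1 : u = 1 := Units.ext h
    rw [h1, orderOf_one] at hu
    norm_num at hu

omit [Fintype F] hS in
theorem fifth_root_pow (l : F) (hl : l ^ 5 = 1) (hl1 : l ≠ 1) (m : F) (hm : m ^ 5 = 1) :
    ∃ k : ℕ, m = l ^ k := by
  haveI : Fact (Nat.Prime 5) := ⟨by norm_num⟩
  have ho : orderOf l = 5 := orderOf_eq_prime hl hl1
  have hp : IsPrimitiveRoot l 5 := ho ▸ IsPrimitiveRoot.orderOf l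
  obtain ⟨i, -, hi⟩ := hp.eq_pow_of_pow_eq_one hm
  exact ⟨i, hi.symm⟩

theorem par_mem_cent (x : Par F 2) :
    parToSU x ∈ Subgroup.centralizer ({tSU F} : Set ↥(Cfsg.SU 3 F (2 ^ 2))) := by
  rw [Subgroup.mem_centralizer_iff]
  rintro _ rfl
  exact (par_comm_tSU x).symm

theorem hSU_mem_cent (l : F) (hl : l ^ 5 = 1) :
    hSU l hl ∈ Subgroup.centralizer ({tSU F} : Set ↥(Cfsg.SU 3 F (2 ^ 2))) := by
  rw [Subgroup.mem_centralizer_iff]
  rintro _ rfl
  exact (hSU_comm_tSU l hl).symm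

/-- the centralizer of the involution is the split extension of the model by the diagonal
element of order 5 -/
theorem cent_ext5 (l : F) (hl : l ^ 5 = 1) (hl1 : l ≠ 1) (hl0 : l ^ 2 ≠ 0) :
    Ext5 ((parHom (F := F) (n := 2)).codRestrict
        (Subgroup.centralizer ({tSU F} : Set ↥(Cfsg.SU 3 F (2 ^ 2)))) par_mem_cent)
      (⟨hSU l hl, hSU_mem_cent l hl⟩ :
        ↥(Subgroup.centralizer ({tSU F} : Set ↥(Cfsg.SU 3 F (2 ^ 2)))))
      (Par.gam (n := 2) (l ^ 2) hl0 (RingEquiv.refl F)) := by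
  haveI : Fact (Nat.Prime 5) := ⟨by norm_num⟩
  have hpk : ∀ k : ℕ, (l ^ k) ^ 5 = 1 := fun k => by
    rw [← pow_mul, mul_comm, pow_mul, hl, one_pow]
  have hconj : ∀ y : Par F 2,
      (⟨hSU l hl, hSU_mem_cent l hl⟩ :
        ↥(Subgroup.centralizer ({tSU F} : Set ↥(Cfsg.SU 3 F (2 ^ 2)))))
        * (parHom (F := F) (n := 2)).codRestrict
          (Subgroup.centralizer ({tSU F} : Set ↥(Cfsg.SU 3 F (2 ^ 2)))) par_mem_cent y
        * (⟨hSU l hl, hSU_mem_cent l hl⟩ :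
          ↥(Subgroup.centralizer ({tSU F} : Set ↥(Cfsg.SU 3 F (2 ^ 2)))))⁻¹
      = (parHom (F := F) (n := 2)).codRestrict
          (Subgroup.centralizer ({tSU F} : Set ↥(Cfsg.SU 3 F (2 ^ 2)))) par_mem_cent
          (Par.gam (n := 2) (l ^ 2) hl0 (RingEquiv.refl F) y) := by
    intro y
    apply Subtype.ext
    show hSU l hl * parToSU y * (hSU l hl)⁻¹
      = parToSU (Par.gam (n := 2) (l ^ 2) hl0 (RingEquiv.refl F) y)
    rw [hSU_mul_par l hl hl0, mul_inv_cancel_right]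
  refine ⟨?_, hconj, ?_, ?_, ?_⟩
  · intro x y h
    exact parToSU_injective (congrArg Subtype.val h)
  · apply Subtype.ext
    show (hSU l hl) ^ 5 = 1
    rw [← hSU_pow l hl 5 (hpk 5)]
    exact (hSU_congr hl _ (one_pow 5)).trans (hSU_one _)
  · rintro k ⟨x, hx⟩
    have hx' : parToSU x = (hSU l hl) ^ k := congrArg Subtype.val hx
    rw [← hSU_pow l hl k (hpk k)] at hx'
    have hmat : gmat 2 x.a x.b = Matrix.diagonal ![l ^ k, l ^ k, (l ^ k) ^ 3] :=
      congrArg (fun g : ↥(Cfsg.SU 3 F (2 ^ 2)) => (g.1 : Matrix (Fin 3) (Fin 3) F)) hx'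
    have h01 := congrFun (congrFun hmat 0) 1
    have h00 := congrFun (congrFun hmat 0) 0
    simp [gmat] at h01 h00
    rw [h01, add_zero] at h00
    have ho : orderOf l = 5 := orderOf_eq_prime hl hl1
    rw [← ho]
    exact orderOf_dvd_of_pow_eq_one h00.symm
  · intro g
    have hg := Subgroup.mem_centralizer_iff.mp g.2 (tSU F) rfl
    obtain ⟨m, hm, x, hgx⟩ := cent_struct g.1 hg.symm
    obtain ⟨k, rfl⟩ := fifth_root_pow l hl hl1 m hm
    rw [hSU_pow l hl k hm] at hgx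
    have e : g = (⟨hSU l hl, hSU_mem_cent l hl⟩ :
        ↥(Subgroup.centralizer ({tSU F} : Set ↥(Cfsg.SU 3 F (2 ^ 2))))) ^ k
        * (parHom (F := F) (n := 2)).codRestrict
          (Subgroup.centralizer ({tSU F} : Set ↥(Cfsg.SU 3 F (2 ^ 2)))) par_mem_cent x := by
      apply Subtype.ext
      exact hgx
    rw [pow_conj_gen _ _ _ hconj] at e
    exact ⟨_, k, e⟩

end cent

/-- centralizers correspond under an isomorphism -/
theorem centralizer_mulEquiv {A B : Type*} [Group A] [Group B] (e : A ≃* B) (t : A) :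
    Nonempty (↥(Subgroup.centralizer ({t} : Set A)) ≃* ↥(Subgroup.centralizer ({e t} : Set B))) := by
  refine ⟨{ toFun := fun g => ⟨e g.1, ?_⟩, invFun := fun k => ⟨e.symm k.1, ?_⟩,
            left_inv := ?_, right_inv := ?_, map_mul' := ?_ }⟩
  · rw [Subgroup.mem_centralizer_iff]
    intro h hh
    rw [Set.mem_singleton_iff] at hh
    rw [hh]
    have := Subgroup.mem_centralizer_iff.mp g.2 t rfl
    rw [← map_mul, ← map_mul, this]
  · rw [Subgroup.mem_centralizer_iff]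
    intro h hh
    rw [Set.mem_singleton_iff] at hh
    rw [hh]
    have := Subgroup.mem_centralizer_iff.mp k.2 (e t) rfl
    apply e.injective
    rw [map_mul, map_mul, e.apply_symm_apply]
    exact this
  · intro g
    apply Subtype.ext
    exact e.symm_apply_apply g.1
  · intro k
    apply Subtype.ext
    exact e.apply_symm_apply k.1
  · intro g g'
    apply Subtype.ext
    exact map_mul e g.1 g'.1

section final

variable {F : Type*} [Field F] [Fintype F] [hS : SuzFin F 2]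

/-- A split extension of the model by an element of order 5 acting as the diagonal element
is the centralizer of an involution of `PSU_3(4)`. -/
theorem cent_iso_of_ext5 {G : Type*} [Group G] (l : F) (hl : l ^ 5 = 1) (hl1 : l ≠ 1)
    (hl0 : l ^ 2 ≠ 0) {i : Par F 2 →* G} {s : G}
    (E : Ext5 i s (Par.gam (n := 2) (l ^ 2) hl0 (RingEquiv.refl F))) :
    ∃ t : Cfsg.PSU 3 F (2 ^ 2), orderOf t = 2 ∧
      Nonempty (G ≃* ↥(Subgroup.centralizer ({t} : Set (Cfsg.PSU 3 F (2 ^ 2))))) := by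
  obtain ⟨e₀⟩ := E.iso (cent_ext5 l hl hl1 hl0)
  have hinj : Function.Injective
      (QuotientGroup.mk' (Subgroup.center ↥(Cfsg.SU 3 F (2 ^ 2)))) := by
    rw [injective_iff_map_eq_one]
    intro a ha
    rw [QuotientGroup.mk'_apply, QuotientGroup.eq_one_iff, su4_center, Subgroup.mem_bot] at ha
    exact ha
  let π : ↥(Cfsg.SU 3 F (2 ^ 2)) ≃* Cfsg.PSU 3 F (2 ^ 2) :=
    MulEquiv.ofBijective (QuotientGroup.mk' (Subgroup.center ↥(Cfsg.SU 3 F (2 ^ 2))))
      ⟨hinj, QuotientGroup.mk'_surjective _⟩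
  obtain ⟨e₁⟩ := centralizer_mulEquiv π (tSU F)
  refine ⟨π (tSU F), ?_, ⟨e₀.trans e₁⟩⟩
  rw [MulEquiv.orderOf_eq]
  exact tSU_order

end final

end Cfsg.Agent.H60
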