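import Mathlib
import Cfsg.Agent.H60.Fpf3Ab
import Cfsg.Agent.H60.SuzSU
import Cfsg.Agent.H60.Sp5Par
import Cfsg.Agent.H60.SuzCent

/-!
# helper60: 2-groups with a fixed-point-free automorphism of order three and a commuting involutory
automorphism with at most four fixed points

* `nonab_card`: such a group, if non-abelian, has order 64.
* `t_struct`: elementary abelian of order 16, homocyclic of rank two, or `T64`.
* `E64`, `E64.iso`: recognition of the group of order 64 all of whose involutions are central.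
* `T64.r64_or_e64`: the dichotomy.
* `par_e64`: the model `Par F 2` (a Sylow 2-subgroup of `PSU₃(4)`) is of type `E64`.
-/

set_option autoImplicit false

namespace Cfsg.Agent.H60

open scoped Classical

open scoped commutatorElement

universe u

section nonab

variable {X : Type u} [Group X]

theorem top_of_map_top (N B : Subgroup X) [N.Normal] (hNB : N ≤ B) (K : Subgroup (X ⧸ N))
    (hK : K = ⊤) (hKB : K ≤ B.map (QuotientGroup.mk' N)) : B = ⊤ := by
  rw [eq_top_iff]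
  intro g _
  have h1 : (QuotientGroup.mk' N g) ∈ B.map (QuotientGroup.mk' N) :=
    hKB (hK ▸ Subgroup.mem_top _)
  obtain ⟨b, hb, hbg⟩ := h1
  have h2 : b⁻¹ * g ∈ N := QuotientGroup.eq.mp hbg
  have h3 : g = b * (b⁻¹ * g) := by group
  rw [h3]; exact B.mul_mem hb (hNB h2)

theorem exists_quot_aut (N : Subgroup X) [N.Normal] (α : MulAut X) (hα : ∀ n ∈ N, α n ∈ N)
    (hα' : ∀ n ∈ N, ∃ m ∈ N, α m = n) :
    ∃ α' : MulAut (X ⧸ N), ∀ x : X, α' (x : X ⧸ N) = ((α x : X) : X ⧸ N) := by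
  have hmap : Subgroup.map (α : X →* X) N = N := by
    apply le_antisymm
    · rintro _ ⟨z, hz, rfl⟩
      exact hα z hz
    · intro z hz
      obtain ⟨m, hm, rfl⟩ := hα' z hz
      exact ⟨m, hm, rfl⟩
  exact ⟨QuotientGroup.congr N N α hmap, fun x => QuotientGroup.congr_mk _ _ α hmap x⟩

set_option maxHeartbeats 1000000 in
/-- A non-abelian 2-group with a fixed-point-free automorphism of order three and a commuting
involutory automorphism with at most four fixed points has order 64. -/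
theorem nonab_card [Finite X] (hX : IsPGroup 2 X) (ρ t : MulAut X)
    (hρ : Fpf3 ρ) (ht2 : ∀ x, t (t x) = x) (htρ : ∀ x, t (ρ x) = ρ (t x))
    (C : Subgroup X) (hC : ∀ x, x ∈ C ↔ t x = x) (hC4 : Nat.card ↥C ≤ 4)
    (a b : X) (hab : a * b ≠ b * a) : Nat.card X = 64 := by
  haveI : Fact (Nat.Prime 2) := ⟨Nat.prime_two⟩
  have hcl : ∀ x y : X, ⁅x, y⁆ ∈ Subgroup.center X := fun x y => hρ.class2 hX x y
  obtain ⟨N, hNdef⟩ : ∃ N : Subgroup X, N = commutator X := ⟨_, rfl⟩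
  haveI hNn : N.Normal := by rw [hNdef]; infer_instance
  have hNZ : N ≤ Subgroup.center X := by
    rw [hNdef, commutator_def, Subgroup.commutator_le]
    intro g₁ _ g₂ _
    exact hcl g₁ g₂
  have hcN : ∀ x y : X, ⁅x, y⁆ ∈ N := fun x y => by
    rw [hNdef]
    exact Subgroup.commutator_mem_commutator (Subgroup.mem_top x) (Subgroup.mem_top y)
  have hchar : ∀ (α : MulAut X), ∀ n ∈ N, α n ∈ N := by
    intro α n hn
    have hch : N.Characteristic := by rw [hNdef]; infer_instance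
    exact (Subgroup.characteristic_iff_map_le.mp hch α) ⟨n, hn, rfl⟩
  have hNρ : RInv ρ N := hchar ρ
  obtain ⟨ρ', hρ'⟩ := exists_quot_aut N ρ (hchar ρ)
    (fun n hn => ⟨ρ (ρ n), hchar ρ _ (hchar ρ n hn), hρ.r3 n⟩)
  obtain ⟨t', ht'⟩ := exists_quot_aut N t (hchar t) (fun n hn => ⟨t n, hchar t n hn, ht2 n⟩)
  have hcommQ : ∀ p q : X ⧸ N, p * q = q * p := by
    intro p q
    obtain ⟨x, rfl⟩ := QuotientGroup.mk_surjective p
    obtain ⟨y, rfl⟩ := QuotientGroup.mk_surjective q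
    rw [← commutatorElement_eq_one_iff_mul_comm]
    have e : ⁅(x : X ⧸ N), (y : X ⧸ N)⁆ = ((⁅x, y⁆ : X) : X ⧸ N) := by
      simp only [commutatorElement_def, QuotientGroup.mk_mul, QuotientGroup.mk_inv]
    rw [e]; exact (QuotientGroup.eq_one_iff _).mpr (hcN x y)
  have hρ'f : Fpf3 ρ' := by
    constructor
    · intro q
      obtain ⟨x, rfl⟩ := QuotientGroup.mk_surjective q
      rw [hρ', hρ', hρ', hρ.r3]
    · intro q hq
      obtain ⟨x, rfl⟩ := QuotientGroup.mk_surjective q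
      rw [hρ'] at hq
      have hx : x⁻¹ * ρ x ∈ N := by
        rw [← QuotientGroup.eq_one_iff, QuotientGroup.mk_mul, QuotientGroup.mk_inv, hq,
          inv_mul_cancel]
      exact (QuotientGroup.eq_one_iff x).mpr (hρ.mem_of_inv_mul_mem _ hNρ x hx)
  have ht'2 : ∀ q, t' (t' q) = q := by
    intro q
    obtain ⟨x, rfl⟩ := QuotientGroup.mk_surjective q
    rw [ht', ht', ht2]
  have ht'ρ' : ∀ q, t' (ρ' q) = ρ' (t' q) := by
    intro q
    obtain ⟨x, rfl⟩ := QuotientGroup.mk_surjective q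
    rw [hρ', ht', ht', hρ', htρ]
  obtain ⟨C', hC'⟩ : ∃ C' : Subgroup (X ⧸ N), ∀ q, q ∈ C' ↔ t' q = q :=
    ⟨{ carrier := {q | t' q = q}
       mul_mem' := by
         intro p q hp hq
         have hp' : t' p = p := hp
         have hq' : t' q = q := hq
         show t' (p * q) = p * q
         rw [map_mul, hp', hq']
       one_mem' := map_one t'
       inv_mem' := by
         intro p hp
         have hp' : t' p = p := hp
         show t' p⁻¹ = p⁻¹
         rw [map_inv, hp'] }, fun q => Iff.rfl⟩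
  have hC'4 : Nat.card ↥C' ≤ 4 := by
    refine (fix_quot_le t N C (fun x hx => (hC x).mpr hx) C' ?_).trans hC4
    intro x hx
    rw [hC', ht'] at hx
    rw [← QuotientGroup.eq_one_iff, QuotientGroup.mk_mul, QuotientGroup.mk_inv, hx,
      inv_mul_cancel]
  have hQ : IsPGroup 2 (X ⧸ N) := hX.to_quotient N
  have hcardXN := Subgroup.card_eq_card_quotient_mul_card_subgroup N
  have hNne : Nat.card ↥N ≠ 1 := by
    intro h1
    have e := Subgroup.eq_bot_of_card_eq _ h1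
    have hm := hcN a b
    rw [e, Subgroup.mem_bot] at hm
    exact hab (commutatorElement_eq_one_iff_mul_comm.mp hm)
  have hXmod := hρ.card_mod ⊤ (fun y _ => Subgroup.mem_top _)
  rw [Subgroup.card_top] at hXmod
  rcases abel_struct hcommQ hQ ρ' t' hρ'f ht'2 ht'ρ' C' hC' hC'4 with
    ⟨hQ16, hQsq⟩ | ⟨n, q, -, hq, -⟩
  · have hsqN : ∀ x : X, x * x ∈ N := by
      intro x
      rw [← QuotientGroup.eq_one_iff, QuotientGroup.mk_mul]
      exact hQsq _
    haveI : Nontrivial (X ⧸ N) := Finite.one_lt_card_iff_nontrivial.mp (by rw [hQ16]; norm_num)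
    obtain ⟨q₁, hq₁⟩ := exists_ne (1 : X ⧸ N)
    obtain ⟨x, rfl⟩ := QuotientGroup.mk_surjective q₁
    obtain ⟨M₁, hM₁⟩ : ∃ M₁ : Subgroup (X ⧸ N),
        M₁ = Subgroup.closure {(x : X ⧸ N), ρ' (x : X ⧸ N)} := ⟨_, rfl⟩
    have hM₁inv : RInv ρ' M₁ := by rw [hM₁]; exact hρ'f.rinv_pair _
    have hM₁le : Nat.card ↥M₁ ≤ 4 := by
      have hle : M₁ ≤ ⊥ ⊔ Subgroup.zpowers (x : X ⧸ N) ⊔ Subgroup.zpowers (ρ' (x : X ⧸ N)) := by
        rw [hM₁, Subgroup.closure_le]
        intro w hw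
        rcases hw with hw | hw
        · rw [hw]
          exact Subgroup.mem_sup_left (Subgroup.mem_sup_right (Subgroup.mem_zpowers _))
        · rw [Set.mem_singleton_iff.mp hw]
          exact Subgroup.mem_sup_right (Subgroup.mem_zpowers _)
      exact (Subgroup.card_le_of_le hle).trans (card_chain2 _ _ (hQsq _) (hQsq _)
        (commutatorElement_eq_one_iff_mul_comm.mpr (hcommQ _ _)))
    obtain ⟨q₂, hq₂⟩ : ∃ q₂ : X ⧸ N, q₂ ∉ M₁ := by
      by_contra hcon
      push Not at hcon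
      have e : M₁ = ⊤ := (Subgroup.eq_top_iff' M₁).mpr hcon
      rw [e, Subgroup.card_top, hQ16] at hM₁le
      omega
    obtain ⟨y, rfl⟩ := QuotientGroup.mk_surjective q₂
    obtain ⟨M₂, hM₂⟩ : ∃ M₂ : Subgroup (X ⧸ N),
        M₂ = M₁ ⊔ Subgroup.closure {(y : X ⧸ N), ρ' (y : X ⧸ N)} := ⟨_, rfl⟩
    have hM₂inv : RInv ρ' M₂ := by rw [hM₂]; exact rinv_sup hM₁inv (hρ'f.rinv_pair _)
    have hM₂top : M₂ = ⊤ := by
      have hx1 : (x : X ⧸ N) ∈ M₁ := by rw [hM₁]; exact Subgroup.subset_closure (Or.inl rfl)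
      have hM₁ne : Nat.card ↥M₁ ≠ 1 := by
        intro h1
        have e := Subgroup.eq_bot_of_card_eq _ h1
        rw [e, Subgroup.mem_bot] at hx1
        exact hq₁ hx1
      have hM₁4 : Nat.card ↥M₁ = 4 := by
        rcases hρ'f.card_le4 hQ M₁ hM₁inv hM₁le with h | h
        · exact absurd h hM₁ne
        · exact h
      have hle12 : M₁ ≤ M₂ := by rw [hM₂]; exact le_sup_left
      have hy2 : (y : X ⧸ N) ∈ M₂ := by
        rw [hM₂]
        exact Subgroup.mem_sup_right (Subgroup.subset_closure (Or.inl rfl))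
      have hM₂16 : Nat.card ↥M₂ ≤ 16 := by rw [← hQ16]; exact Subgroup.card_le_card_group M₂
      rcases hρ'f.card_le16 hQ M₂ hM₂inv hM₂16 with h | h | h
      · have h5 := Subgroup.card_le_of_le hle12
        omega
      · exfalso
        have e : M₁ = M₂ := Subgroup.eq_of_le_of_card_ge hle12 (by omega)
        exact hq₂ (e ▸ hy2)
      · exact Subgroup.eq_top_of_card_eq _ (by omega)
    obtain ⟨B, hB⟩ : ∃ B : Subgroup X,
        B = Subgroup.closure {x, ρ x} ⊔ Subgroup.closure {y, ρ y} ⊔ N := ⟨_, rfl⟩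
    have hxB : x ∈ B := by
      rw [hB]
      exact Subgroup.mem_sup_left (Subgroup.mem_sup_left (Subgroup.subset_closure (Or.inl rfl)))
    have hρxB : ρ x ∈ B := by
      rw [hB]
      exact Subgroup.mem_sup_left (Subgroup.mem_sup_left (Subgroup.subset_closure (Or.inr rfl)))
    have hyB : y ∈ B := by
      rw [hB]
      exact Subgroup.mem_sup_left (Subgroup.mem_sup_right (Subgroup.subset_closure (Or.inl rfl)))
    have hρyB : ρ y ∈ B := by
      rw [hB]
      exact Subgroup.mem_sup_left (Subgroup.mem_sup_right (Subgroup.subset_closure (Or.inr rfl)))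
    have hNB : N ≤ B := by rw [hB]; exact le_sup_right
    have hBtop : B = ⊤ := by
      apply top_of_map_top N B hNB M₂ hM₂top
      rw [hM₂, hM₁]
      apply sup_le
      · rw [Subgroup.closure_le]
        intro w hw
        rcases hw with hw | hw
        · rw [hw]; exact ⟨x, hxB, rfl⟩
        · rw [Set.mem_singleton_iff.mp hw, hρ']; exact ⟨ρ x, hρxB, rfl⟩
      · rw [Subgroup.closure_le]
        intro w hw
        rcases hw with hw | hw
        · rw [hw]; exact ⟨y, hyB, rfl⟩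
        · rw [Set.mem_singleton_iff.mp hw, hρ']; exact ⟨ρ y, hρyB, rfl⟩
    obtain ⟨c, hc⟩ : ∃ c : X, c = ⁅x, y⁆ := ⟨_, rfl⟩
    have hcZ : c ∈ Subgroup.center X := by rw [hc]; exact hcl x y
    have hcsq : c * c = 1 := by
      have e : ⁅x * x, y⁆ = ⁅x, y⁆ * ⁅x, y⁆ := cc_mul_left x x y (hcl x y)
      rw [hc, ← e]
      exact cc_central_left _ _ (hNZ (hsqN x))
    have hρcsq : ρ c * ρ c = 1 := by rw [← map_mul, hcsq, map_one]
    obtain ⟨W, hW⟩ : ∃ W : Subgroup X,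
        W = ⊥ ⊔ Subgroup.zpowers c ⊔ Subgroup.zpowers (ρ c) := ⟨_, rfl⟩
    have hWZ : W ≤ Subgroup.center X := by
      rw [hW]
      exact sup_le (sup_le bot_le (Subgroup.zpowers_le.mpr hcZ))
        (Subgroup.zpowers_le.mpr (rinv_center c hcZ))
    have hW4 : Nat.card ↥W ≤ 4 := by
      rw [hW]
      exact card_chain2 c (ρ c) hcsq hρcsq (cc_central_left _ _ (rinv_center c hcZ))
    have hcW : c ∈ W := by
      rw [hW]
      exact Subgroup.mem_sup_left (Subgroup.mem_sup_right (Subgroup.mem_zpowers c))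
    have hρcW : ρ c ∈ W := by
      rw [hW]
      exact Subgroup.mem_sup_right (Subgroup.mem_zpowers _)
    have hρρcW : ρ (ρ c) ∈ W := by
      rw [hρ.rr c]; exact W.inv_mem (W.mul_mem hcW hρcW)
    have k_xy : ⁅x, y⁆ ∈ W := by rw [← hc]; exact hcW
    have k_x_ρy : ⁅x, ρ y⁆ ∈ W := by rw [hρ.cc_rho_gen, ← hc]; exact hρρcW
    have k_ρx_y : ⁅ρ x, y⁆ ∈ W := by rw [hρ.cc_rho_left_gen, ← hc]; exact hρρcW
    have k_ρx_ρy : ⁅ρ x, ρ y⁆ ∈ W := by rw [← map_commutatorElement, ← hc]; exact hρcW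
    have k_x_ρx : ⁅x, ρ x⁆ ∈ W := by
      rw [commutatorElement_eq_one_iff_mul_comm.mpr (hρ.comm x)]; exact W.one_mem
    have k_y_ρy : ⁅y, ρ y⁆ ∈ W := by
      rw [commutatorElement_eq_one_iff_mul_comm.mpr (hρ.comm y)]; exact W.one_mem
    have hswap : ∀ u v : X, ⁅u, v⁆ ∈ W → ⁅v, u⁆ ∈ W := by
      intro u v h; rw [← commutatorElement_inv]; exact W.inv_mem h
    have hself : ∀ u : X, ⁅u, u⁆ ∈ W := by
      intro u; rw [commutatorElement_self]; exact W.one_mem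
    have hNcd : ∀ g : X, N ≤ cdSub W hWZ g := by
      intro g n hn
      rw [mem_cdSub, cc_central_right g n (hNZ hn)]; exact W.one_mem
    have hgen : ∀ g : X, ⁅g, x⁆ ∈ W → ⁅g, ρ x⁆ ∈ W → ⁅g, y⁆ ∈ W → ⁅g, ρ y⁆ ∈ W →
        ∀ v, ⁅g, v⁆ ∈ W := by
      intro g h1 h2 h3 h4 v
      have hle : B ≤ cdSub W hWZ g := by
        rw [hB]
        apply sup_le (sup_le _ _) (hNcd g)
        · rw [Subgroup.closure_le]
          intro w hw
          rcases hw with hw | hw
          · rw [hw]; exact (mem_cdSub W hWZ g x).mpr h1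
          · rw [Set.mem_singleton_iff.mp hw]; exact (mem_cdSub W hWZ g (ρ x)).mpr h2
        · rw [Subgroup.closure_le]
          intro w hw
          rcases hw with hw | hw
          · rw [hw]; exact (mem_cdSub W hWZ g y).mpr h3
          · rw [Set.mem_singleton_iff.mp hw]; exact (mem_cdSub W hWZ g (ρ y)).mpr h4
      rw [hBtop] at hle
      exact (mem_cdSub W hWZ g v).mp (hle (Subgroup.mem_top v))
    have hx_all := hgen x (hself x) k_x_ρx k_xy k_x_ρy
    have hρx_all := hgen (ρ x) (hswap _ _ k_x_ρx) (hself _) k_ρx_y k_ρx_ρy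
    have hy_all := hgen y (hswap _ _ k_xy) (hswap _ _ k_ρx_y) (hself y) k_y_ρy
    have hρy_all := hgen (ρ y) (hswap _ _ k_x_ρy) (hswap _ _ k_ρx_ρy) (hswap _ _ k_y_ρy)
      (hself _)
    have hall : ∀ u v : X, ⁅u, v⁆ ∈ W := by
      intro u v
      exact hgen u (hswap _ _ (hx_all u)) (hswap _ _ (hρx_all u)) (hswap _ _ (hy_all u))
        (hswap _ _ (hρy_all u)) v
    have hNW : N ≤ W := by
      rw [hNdef, commutator_def, Subgroup.commutator_le]
      intro g₁ _ g₂ _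
      exact hall g₁ g₂
    have hN4 : Nat.card ↥N ≤ 4 := (Subgroup.card_le_of_le hNW).trans hW4
    obtain ⟨k, hk⟩ := IsPGroup.iff_card.mp hX
    rw [hQ16] at hcardXN
    have hNpos : 0 < Nat.card ↥N := Nat.card_pos
    have hXle : Nat.card X ≤ 64 := by rw [hcardXN]; omega
    have hXge : 32 ≤ Nat.card X := by rw [hcardXN]; omega
    rw [hk] at hXle hXge hXmod ⊢
    have hk6 : k ≤ 6 := by
      by_contra hlt
      push Not at hlt
      have h7 : 2 ^ 7 ≤ 2 ^ k := Nat.pow_le_pow_right (by norm_num) hlt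
      omega
    interval_cases k <;> simp [Nat.ModEq] at hXmod hXge ⊢
  · exfalso
    obtain ⟨x, rfl⟩ := QuotientGroup.mk_surjective q
    have htop : Subgroup.closure {x, ρ x} ⊔ N = ⊤ := by
      apply top_of_map_top N _ le_sup_right _ hq
      rw [Subgroup.closure_le]
      intro w hw
      rcases hw with hw | hw
      · rw [hw]
        exact ⟨x, Subgroup.mem_sup_left (Subgroup.subset_closure (Or.inl rfl)), rfl⟩
      · rw [Set.mem_singleton_iff.mp hw, hρ']
        exact ⟨ρ x, Subgroup.mem_sup_left (Subgroup.subset_closure (Or.inr rfl)), rfl⟩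
    have hxZ : x ∈ Subgroup.center X :=
      hρ.central_of_top x N (hNZ.trans (Subgroup.center_le_centralizer _)) htop
    have hle : Subgroup.closure {x, ρ x} ⊔ N ≤ Subgroup.center X := by
      apply sup_le _ hNZ
      rw [Subgroup.closure_le]
      intro w hw
      rcases hw with hw | hw
      · rw [hw]; exact hxZ
      · rw [Set.mem_singleton_iff.mp hw]; exact rinv_center x hxZ
    rw [htop] at hle
    have hbZ : b ∈ Subgroup.center X := hle (Subgroup.mem_top b)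
    exact hab (Subgroup.mem_center_iff.mp hbZ a)

/-- The trichotomy. -/
theorem t_struct [Finite X] (hX : IsPGroup 2 X) (ρ t : MulAut X)
    (hρ : Fpf3 ρ) (ht2 : ∀ x, t (t x) = x) (htρ : ∀ x, t (ρ x) = ρ (t x))
    (C : Subgroup X) (hC : ∀ x, x ∈ C ↔ t x = x) (hC4 : Nat.card ↥C ≤ 4) :
    (Nat.card X = 16 ∧ ∀ x : X, x * x = 1) ∨
    (∃ n : ℕ, Nonempty (X ≃* Multiplicative (ZMod (2 ^ n)) × Multiplicative (ZMod (2 ^ n)))) ∨
    T64 ρ := by
  by_cases hab : ∀ a b : X, a * b = b * a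
  · rcases abel_struct hab hX ρ t hρ ht2 htρ C hC hC4 with h | ⟨n, x, -, -, e⟩
    · exact Or.inl h
    · exact Or.inr (Or.inl ⟨n, e⟩)
  · push Not at hab
    obtain ⟨a, b, hab⟩ := hab
    exact Or.inr (Or.inr (T64.of_fpf hρ (nonab_card hX ρ t hρ ht2 htρ C hC hC4 a b hab) a b hab))

end nonab

namespace T64

variable {T : Type*} [Group T] {ρ : MulAut T}

/-- The centre is `{1, c, ρ c, ρ² c}` for any nontrivial central `c`. -/
theorem center_enum (h : T64 ρ) {c : T} (hc : c ∈ Subgroup.center T) (hc1 : c ≠ 1) {z : T}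
    (hz : z ∈ Subgroup.center T) : z = 1 ∨ z = c ∨ z = ρ c ∨ z = ρ (ρ c) := by
  haveI := h.finite
  letI : Fintype T := Fintype.ofFinite T
  have hcard : (Finset.univ.filter (fun y => y ∈ Subgroup.center T)).card = 4 := by
    rw [← h.cardZ, Nat.card_eq_fintype_card, Fintype.card_subtype]
  have h1 : ρ c ≠ c := fun e => hc1 (h.fpf.fp c e)
  have h2 : ρ c ≠ 1 := fun e => hc1 ((map_eq_one_iff ρ ρ.injective).mp e)
  have h3 : ρ (ρ c) ≠ 1 := fun e => h2 ((map_eq_one_iff ρ ρ.injective).mp e)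
  have h4 : ρ (ρ c) ≠ ρ c := fun e => h1 (ρ.injective e)
  have h5 : ρ (ρ c) ≠ c := by
    intro e
    apply h1
    have e' := congrArg ρ e
    rw [h.fpf.r3] at e'
    exact e'.symm
  have hsub : ({1, c, ρ c, ρ (ρ c)} : Finset T) ⊆
      Finset.univ.filter (fun y => y ∈ Subgroup.center T) := by
    intro y hy
    simp only [Finset.mem_insert, Finset.mem_singleton] at hy
    rw [Finset.mem_filter]
    refine ⟨Finset.mem_univ _, ?_⟩
    rcases hy with rfl | rfl | rfl | rfl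
    · exact Subgroup.one_mem _
    · exact hc
    · exact rinv_center _ hc
    · exact rinv_center _ (rinv_center _ hc)
  have hc4 : ({1, c, ρ c, ρ (ρ c)} : Finset T).card = 4 := by
    rw [Finset.card_insert_of_notMem, Finset.card_insert_of_notMem, Finset.card_pair h4.symm]
    · simp only [Finset.mem_insert, Finset.mem_singleton]
      push Not
      exact ⟨h1.symm, h5.symm⟩
    · simp only [Finset.mem_insert, Finset.mem_singleton]
      push Not
      exact ⟨hc1.symm, h2.symm, h3.symm⟩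
  have heq := Finset.eq_of_subset_of_card_le hsub (by rw [hcard, hc4])
  have hz' : z ∈ ({1, c, ρ c, ρ (ρ c)} : Finset T) := by
    rw [heq, Finset.mem_filter]; exact ⟨Finset.mem_univ _, hz⟩
  simpa only [Finset.mem_insert, Finset.mem_singleton] using hz'

/-- The commutator map `u ↦ ⁅w, u⁆` maps `⟨a, ρ a⟩` onto the centre if `⁅w, a⁆ ≠ 1`. -/
theorem exists_cc (h : T64 ρ) (w a : T) (hwa : ⁅w, a⁆ ≠ 1) (z : T)
    (hz : z ∈ Subgroup.center T) : ∃ u ∈ Subgroup.closure {a, ρ a}, ⁅w, u⁆ = z := by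
  haveI := h.finite
  obtain ⟨ψ, hψ⟩ : ∃ ψ : T →* T, ∀ u, ψ u = ⁅w, u⁆ :=
    ⟨MonoidHom.mk' (fun u => ⁅w, u⁆) (fun u u' => cc_mul_right w u u' (h.comm _ _)),
      fun u => rfl⟩
  have hmap : (Subgroup.closure {a, ρ a}).map ψ
      = Subgroup.closure {ρ (ρ ⁅w, a⁆), ρ (ρ (ρ ⁅w, a⁆))} := by
    rw [MonoidHom.map_closure, Set.image_pair, hψ, hψ, h.cc_rho w a, h.fpf.r3, Set.pair_comm]
  have hinv : RInv ρ ((Subgroup.closure {a, ρ a}).map ψ) := by
    rw [hmap]; exact h.fpf.rinv_pair _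
  have hle : (Subgroup.closure {a, ρ a}).map ψ ≤ Subgroup.center T := by
    rintro _ ⟨u, -, rfl⟩
    rw [hψ]; exact h.comm w u
  have hne : Nat.card ↥((Subgroup.closure {a, ρ a}).map ψ) ≠ 1 := by
    intro h1
    have e := Subgroup.eq_bot_of_card_eq _ h1
    have hm : ⁅w, a⁆ ∈ (Subgroup.closure {a, ρ a}).map ψ :=
      ⟨a, Subgroup.subset_closure (Or.inl rfl), hψ a⟩
    rw [e, Subgroup.mem_bot] at hm
    exact hwa hm
  have hcl := Subgroup.card_le_of_le hle
  rw [h.cardZ] at hcl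
  have heq : (Subgroup.closure {a, ρ a}).map ψ = Subgroup.center T := by
    rcases h.fpf.card_cases h.card _ hinv with h1 | h1 | h1 | h1
    · exact absurd h1 hne
    · exact Subgroup.eq_of_le_of_card_ge hle (by rw [h.cardZ]; omega)
    · omega
    · omega
  have hz' : z ∈ (Subgroup.closure {a, ρ a}).map ψ := by rw [heq]; exact hz
  obtain ⟨u, hu, hzu⟩ := hz'
  exact ⟨u, hu, by rw [← hψ]; exact hzu⟩

/-- Generation by `a, ρ a, b, ρ b` when `a` and `b` do not commute. -/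
theorem gen4 (h : T64 ρ) (a b : T) (hab : ⁅a, b⁆ ≠ 1) (B : Subgroup T) (ha : a ∈ B)
    (ha' : ρ a ∈ B) (hb : b ∈ B) (hb' : ρ b ∈ B) (hc : ⁅a, b⁆ ∈ B) (hc' : ρ ⁅a, b⁆ ∈ B) :
    B = ⊤ := by
  haveI := h.finite
  have hf := h.fpf
  have hT := h.card
  have hZ := h.cardZ
  have hZc : Subgroup.closure {⁅a, b⁆, ρ ⁅a, b⁆} = Subgroup.center T := by
    have hle : Subgroup.closure {⁅a, b⁆, ρ ⁅a, b⁆} ≤ Subgroup.center T := by
      rw [Subgroup.closure_le]
      intro w hw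
      rcases hw with hw | hw
      · rw [hw]; exact h.comm a b
      · rw [Set.mem_singleton_iff.mp hw]; exact rinv_center _ (h.comm a b)
    have hcl := Subgroup.card_le_of_le hle
    have hne : Nat.card ↥(Subgroup.closure {⁅a, b⁆, ρ ⁅a, b⁆}) ≠ 1 := by
      intro h1
      have e := Subgroup.eq_bot_of_card_eq _ h1
      have hm : ⁅a, b⁆ ∈ Subgroup.closure {⁅a, b⁆, ρ ⁅a, b⁆} :=
        Subgroup.subset_closure (Or.inl rfl)
      rw [e, Subgroup.mem_bot] at hm
      exact hab hm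
    rcases hf.card_cases hT _ (hf.rinv_pair ⁅a, b⁆) with h1 | h1 | h1 | h1
    · exact absurd h1 hne
    · exact Subgroup.eq_of_le_of_card_ge hle (by omega)
    · omega
    · omega
  have hZB : Subgroup.center T ≤ B := by
    rw [← hZc, Subgroup.closure_le]
    intro w hw
    rcases hw with hw | hw
    · rw [hw]; exact hc
    · rw [Set.mem_singleton_iff.mp hw]; exact hc'
  have hab' : a * b ≠ b * a := fun e => hab (commutatorElement_eq_one_iff_mul_comm.mpr e)
  have haZ : a ∉ Subgroup.center T := fun hz => hab' (Subgroup.mem_center_iff.mp hz b).symm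
  have hNle : Subgroup.closure {a, ρ a} ⊔ Subgroup.center T ≤ Subgroup.centralizer {a} :=
    sup_le (hf.pair_le_centralizer a) (Subgroup.center_le_centralizer _)
  have hbN : b ∉ Subgroup.closure {a, ρ a} ⊔ Subgroup.center T := by
    intro hb
    exact hab' (Subgroup.mem_centralizer_iff.mp (hNle hb) a rfl)
  have hNB : Subgroup.closure {a, ρ a} ⊔ Subgroup.center T ≤ B := by
    apply sup_le _ hZB
    rw [Subgroup.closure_le]
    intro w hw
    rcases hw with hw | hw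
    · rw [hw]; exact ha
    · rw [Set.mem_singleton_iff.mp hw]; exact ha'
  rcases hf.card_of_4 hT _ rinv_center hZ a haZ with hc16 | htop
  · have htop := hf.top_of_16 hT _ (rinv_sup (hf.rinv_pair a) rinv_center) hc16 b hbN
    have hle : Subgroup.closure {b, ρ b} ⊔ (Subgroup.closure {a, ρ a} ⊔ Subgroup.center T)
        ≤ B := by
      apply sup_le _ hNB
      rw [Subgroup.closure_le]
      intro w hw
      rcases hw with hw | hw
      · rw [hw]; exact hb
      · rw [Set.mem_singleton_iff.mp hw]; exact hb'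
    rw [htop] at hle
    exact top_le_iff.mp hle
  · rw [htop] at hNB
    exact top_le_iff.mp hNB

/-- A non-central involution yields the `R64` configuration. -/
theorem exists_r64 (h : T64 ρ) (a : T) (haZ : a ∉ Subgroup.center T) (ha : a * a = 1) :
    ∃ b, R64 ρ a b := by
  haveI := h.finite
  obtain ⟨w, hw⟩ : ∃ w : T, ⁅w, a⁆ ≠ 1 := by
    by_contra hcon
    push Not at hcon
    apply haZ
    rw [Subgroup.mem_center_iff]
    intro g
    exact commutatorElement_eq_one_iff_mul_comm.mp (hcon g)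
  obtain ⟨u, hu, hwu⟩ := h.exists_cc w a hw (w * w) (h.sq w)
  have hk : ∀ x ∈ ({a, ρ a} : Set T), ∀ y ∈ ({a, ρ a} : Set T), x * y = y * x := by
    intro x hx y hy
    rcases hx with hx | hx <;> rcases hy with hy | hy
    · rw [hx, hy]
    · rw [hx, Set.mem_singleton_iff.mp hy]; exact h.fpf.comm a
    · rw [Set.mem_singleton_iff.mp hx, hy]; exact (h.fpf.comm a).symm
    · rw [Set.mem_singleton_iff.mp hx, Set.mem_singleton_iff.mp hy]
  have hEcomm : ∀ u ∈ Subgroup.closure {a, ρ a}, ∀ v ∈ Subgroup.closure {a, ρ a},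
      u * v = v * u := by
    intro u hu v hv
    have e := (Subgroup.isMulCommutative_closure hk).is_comm.comm
      (⟨u, hu⟩ : ↥(Subgroup.closure {a, ρ a})) ⟨v, hv⟩
    exact congrArg Subtype.val e
  have hsqE : ∀ u ∈ Subgroup.closure {a, ρ a}, u * u = 1 := by
    intro u hu
    induction hu using Subgroup.closure_induction with
    | mem x hx =>
      rcases hx with hx | hx
      · rw [hx]; exact ha
      · rw [Set.mem_singleton_iff.mp hx, ← map_mul, ha, map_one]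
    | one => exact one_mul 1
    | mul x y hx hy ihx ihy =>
      have hxy : x * y = y * x := hEcomm x hx y hy
      calc x * y * (x * y) = x * (y * x) * y := by group
        _ = x * (x * y) * y := by rw [hxy]
        _ = (x * x) * (y * y) := by group
        _ = 1 := by rw [ihx, ihy, one_mul]
    | inv x hx ihx => rw [← mul_inv_rev, ihx, inv_one]
  have huu : u * u = 1 := hsqE u hu
  have hau : ⁅a, u⁆ = 1 := commutatorElement_eq_one_iff_mul_comm.mpr
    (Subgroup.mem_centralizer_iff.mp (h.fpf.pair_le_centralizer a hu) a rfl)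
  refine ⟨w * u, h, ha, ?_, ?_⟩
  · rw [sq_mul_cc w u (h.comm u w), huu, mul_one, ← commutatorElement_inv w u, hwu,
      h.inv_c (h.sq w)]
    exact h.zsq _ (h.sq w)
  · rw [cc_mul_right a w u (h.comm _ _), hau, mul_one]
    intro e
    apply hw
    rw [← commutatorElement_inv, e, inv_one]

end T64

/-- A group of order 64 with a fixed-point-free automorphism of order three, in the normal form
of the "elliptic" case: `b² = a² ≠ 1`, `⁅a, b⁆ = ρ (a²)`. -/
structure E64 {T : Type*} [Group T] (ρ : MulAut T) (a b : T) : Prop where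
  t64 : T64 ρ
  ane : a * a ≠ 1
  bsq : b * b = a * a
  ab : ⁅a, b⁆ = ρ (a * a)

namespace E64

variable {T : Type*} [Group T] {ρ : MulAut T} {a b : T}

theorem zmem (h : E64 ρ a b) : a * a ∈ Subgroup.center T := h.t64.sq a

theorem k10 (h : E64 ρ a b) : ⁅ρ a, a⁆ = 1 := by
  haveI := h.t64.finite
  exact commutatorElement_eq_one_iff_mul_comm.mpr (h.t64.fpf.comm a).symm

theorem k20 (h : E64 ρ a b) : ⁅b, a⁆ = ρ (a * a) := by
  rw [← commutatorElement_inv a b, h.ab, h.t64.inv_c (rinv_center _ h.zmem)]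

theorem k21 (h : E64 ρ a b) : ⁅b, ρ a⁆ = a * a := by
  rw [h.t64.cc_rho b a, h.k20, h.t64.fpf.r3]

theorem k30 (h : E64 ρ a b) : ⁅ρ b, a⁆ = a * a := by
  rw [h.t64.cc_rho_left b a, h.k20, h.t64.fpf.r3]

theorem k31 (h : E64 ρ a b) : ⁅ρ b, ρ a⁆ = (a * a) * ρ (a * a) := by
  rw [← map_commutatorElement, h.k20, h.t64.rr_c h.zmem]

theorem k32 (h : E64 ρ a b) : ⁅ρ b, b⁆ = 1 := by
  haveI := h.t64.finite
  exact commutatorElement_eq_one_iff_mul_comm.mpr (h.t64.fpf.comm b).symm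

theorem gen (h : E64 ρ a b) (B : Subgroup T) (ha : a ∈ B) (ha' : ρ a ∈ B) (hb : b ∈ B)
    (hb' : ρ b ∈ B) : B = ⊤ := by
  haveI := h.t64.finite
  have hab : ⁅a, b⁆ ≠ 1 := by
    rw [h.ab]
    exact fun e => h.ane ((map_eq_one_iff ρ ρ.injective).mp e)
  apply h.t64.gen4 a b hab B ha ha' hb hb'
  · rw [h.ab, map_mul]; exact B.mul_mem ha' ha'
  · rw [h.ab, map_mul, map_mul, h.t64.fpf.rr a]
    exact B.mul_mem (B.inv_mem (B.mul_mem ha ha')) (B.inv_mem (B.mul_mem ha ha'))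

/-- Recognition: two such groups are isomorphic. -/
theorem iso {T₁ T₂ : Type*} [Group T₁] [Group T₂] {ρ₁ : MulAut T₁} {ρ₂ : MulAut T₂}
    {a₁ b₁ : T₁} {a₂ b₂ : T₂} (h₁ : E64 ρ₁ a₁ b₁) (h₂ : E64 ρ₂ a₂ b₂) :
    Nonempty (T₁ ≃* T₂) := by
  haveI := h₁.t64.finite
  haveI := h₂.t64.finite
  obtain ⟨e₁, he₁⟩ : ∃ e₁ : T₁ × T₂, e₁ = (a₁ * a₁, a₂ * a₂) := ⟨_, rfl⟩
  obtain ⟨e₂, he₂⟩ : ∃ e₂ : T₁ × T₂, e₂ = (ρ₁ (a₁ * a₁), ρ₂ (a₂ * a₂)) := ⟨_, rfl⟩
  have he₁c : e₁ ∈ Subgroup.center (T₁ × T₂) := by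
    rw [he₁]; exact prod_mem_center h₁.zmem h₂.zmem
  have he₂c : e₂ ∈ Subgroup.center (T₁ × T₂) := by
    rw [he₂]; exact prod_mem_center (rinv_center _ h₁.zmem) (rinv_center _ h₂.zmem)
  have he₁s : e₁ * e₁ = 1 := by
    rw [he₁]; exact Prod.ext (h₁.t64.zsq _ h₁.zmem) (h₂.t64.zsq _ h₂.zmem)
  have he₂s : e₂ * e₂ = 1 := by
    rw [he₂]
    exact Prod.ext (h₁.t64.zsq _ (rinv_center _ h₁.zmem)) (h₂.t64.zsq _ (rinv_center _ h₂.zmem))
  obtain ⟨D, hDdef⟩ : ∃ D : Subgroup (T₁ × T₂),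
      D = ⊥ ⊔ Subgroup.zpowers e₁ ⊔ Subgroup.zpowers e₂ := ⟨_, rfl⟩
  have hD : D ≤ Subgroup.center (T₁ × T₂) := by
    rw [hDdef]
    exact sup_le (sup_le bot_le (Subgroup.zpowers_le.mpr he₁c)) (Subgroup.zpowers_le.mpr he₂c)
  have hcD : Nat.card ↥D ≤ 4 := by
    rw [hDdef]; exact card_chain2 e₁ e₂ he₁s he₂s (cc_central_left e₂ e₁ he₂c)
  have he₁D : e₁ ∈ D := by
    rw [hDdef]
    exact Subgroup.mem_sup_left (Subgroup.mem_sup_right (Subgroup.mem_zpowers e₁))
  have he₂D : e₂ ∈ D := by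
    rw [hDdef]; exact Subgroup.mem_sup_right (Subgroup.mem_zpowers e₂)
  have he₁₂D : e₁ * e₂ ∈ D := D.mul_mem he₁D he₂D
  obtain ⟨g₀, hg₀⟩ : ∃ g₀ : T₁ × T₂, g₀ = (a₁, a₂) := ⟨_, rfl⟩
  obtain ⟨g₁, hg₁⟩ : ∃ g₁ : T₁ × T₂, g₁ = (ρ₁ a₁, ρ₂ a₂) := ⟨_, rfl⟩
  obtain ⟨g₂, hg₂⟩ : ∃ g₂ : T₁ × T₂, g₂ = (b₁, b₂) := ⟨_, rfl⟩
  obtain ⟨g₃, hg₃⟩ : ∃ g₃ : T₁ × T₂, g₃ = (ρ₁ b₁, ρ₂ b₂) := ⟨_, rfl⟩
  have s₀ : g₀ * g₀ = e₁ := by rw [hg₀, he₁]; rfl
  have s₁ : g₁ * g₁ = e₂ := by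
    rw [hg₁, he₂]
    exact Prod.ext (map_mul ρ₁ a₁ a₁).symm (map_mul ρ₂ a₂ a₂).symm
  have s₂ : g₂ * g₂ = e₁ := by rw [hg₂, he₁]; exact Prod.ext h₁.bsq h₂.bsq
  have s₃ : g₃ * g₃ = e₂ := by
    rw [hg₃, he₂]
    exact Prod.ext (by show ρ₁ b₁ * ρ₁ b₁ = ρ₁ (a₁ * a₁); rw [← map_mul, h₁.bsq])
      (by show ρ₂ b₂ * ρ₂ b₂ = ρ₂ (a₂ * a₂); rw [← map_mul, h₂.bsq])
  have k₁₀ : ⁅g₁, g₀⁆ = 1 := by rw [hg₁, hg₀]; exact Prod.ext h₁.k10 h₂.k10
  have k₂₀ : ⁅g₂, g₀⁆ = e₂ := by rw [hg₂, hg₀, he₂]; exact Prod.ext h₁.k20 h₂.k20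
  have k₂₁ : ⁅g₂, g₁⁆ = e₁ := by rw [hg₂, hg₁, he₁]; exact Prod.ext h₁.k21 h₂.k21
  have k₃₀ : ⁅g₃, g₀⁆ = e₁ := by rw [hg₃, hg₀, he₁]; exact Prod.ext h₁.k30 h₂.k30
  have k₃₁ : ⁅g₃, g₁⁆ = e₁ * e₂ := by
    rw [hg₃, hg₁, he₁, he₂]; exact Prod.ext h₁.k31 h₂.k31
  have k₃₂ : ⁅g₃, g₂⁆ = 1 := by rw [hg₃, hg₂]; exact Prod.ext h₁.k32 h₂.k32
  obtain ⟨B, hBdef⟩ : ∃ B : Subgroup (T₁ × T₂), B = D ⊔ Subgroup.zpowers g₀
      ⊔ Subgroup.zpowers g₁ ⊔ Subgroup.zpowers g₂ ⊔ Subgroup.zpowers g₃ := ⟨_, rfl⟩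
  have hcB : Nat.card ↥B ≤ 64 := by
    have h16 : Nat.card ↥B ≤ 16 * Nat.card ↥D := by
      rw [hBdef]
      exact card_chain4 D hD g₀ g₁ g₂ g₃ (by rw [s₀]; exact he₁D) (by rw [s₁]; exact he₂D)
        (by rw [s₂]; exact he₁D) (by rw [s₃]; exact he₂D) (by rw [k₁₀]; exact D.one_mem)
        (by rw [k₂₀]; exact he₂D) (by rw [k₂₁]; exact he₁D) (by rw [k₃₀]; exact he₁D)
        (by rw [k₃₁]; exact he₁₂D) (by rw [k₃₂]; exact D.one_mem)
    omega
  have hg₀B : g₀ ∈ B := by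
    rw [hBdef]
    exact Subgroup.mem_sup_left (Subgroup.mem_sup_left (Subgroup.mem_sup_left
      (Subgroup.mem_sup_right (Subgroup.mem_zpowers g₀))))
  have hg₁B : g₁ ∈ B := by
    rw [hBdef]
    exact Subgroup.mem_sup_left (Subgroup.mem_sup_left
      (Subgroup.mem_sup_right (Subgroup.mem_zpowers g₁)))
  have hg₂B : g₂ ∈ B := by
    rw [hBdef]
    exact Subgroup.mem_sup_left (Subgroup.mem_sup_right (Subgroup.mem_zpowers g₂))
  have hg₃B : g₃ ∈ B := by
    rw [hBdef]; exact Subgroup.mem_sup_right (Subgroup.mem_zpowers g₃)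
  have hp₁ : B.map (MonoidHom.fst T₁ T₂) = ⊤ :=
    h₁.gen _ ⟨g₀, hg₀B, by rw [hg₀]; rfl⟩ ⟨g₁, hg₁B, by rw [hg₁]; rfl⟩
      ⟨g₂, hg₂B, by rw [hg₂]; rfl⟩ ⟨g₃, hg₃B, by rw [hg₃]; rfl⟩
  have hp₂ : B.map (MonoidHom.snd T₁ T₂) = ⊤ :=
    h₂.gen _ ⟨g₀, hg₀B, by rw [hg₀]; rfl⟩ ⟨g₁, hg₁B, by rw [hg₁]; rfl⟩
      ⟨g₂, hg₂B, by rw [hg₂]; rfl⟩ ⟨g₃, hg₃B, by rw [hg₃]; rfl⟩
  let p₁ : ↥B →* T₁ := (MonoidHom.fst T₁ T₂).comp B.subtype
  let p₂ : ↥B →* T₂ := (MonoidHom.snd T₁ T₂).comp B.subtype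
  have hs₁ : Function.Surjective p₁ := by
    intro y
    have hy : y ∈ B.map (MonoidHom.fst T₁ T₂) := hp₁ ▸ Subgroup.mem_top y
    obtain ⟨b, hb, rfl⟩ := hy
    exact ⟨⟨b, hb⟩, rfl⟩
  have hs₂ : Function.Surjective p₂ := by
    intro y
    have hy : y ∈ B.map (MonoidHom.snd T₁ T₂) := hp₂ ▸ Subgroup.mem_top y
    obtain ⟨b, hb, rfl⟩ := hy
    exact ⟨⟨b, hb⟩, rfl⟩
  have hb₁ : Function.Bijective p₁ :=
    hs₁.bijective_of_nat_card_le (by rw [h₁.t64.card]; exact hcB)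
  have hb₂ : Function.Bijective p₂ :=
    hs₂.bijective_of_nat_card_le (by rw [h₂.t64.card]; exact hcB)
  exact ⟨(MulEquiv.ofBijective p₁ hb₁).symm.trans (MulEquiv.ofBijective p₂ hb₂)⟩

end E64

namespace T64

variable {T : Type*} [Group T] {ρ : MulAut T}

/-- If all involutions are central, the group has the `E64` normal form. -/
theorem exists_e64 (h : T64 ρ) (hell : ∀ a : T, a ∉ Subgroup.center T → a * a ≠ 1) :
    ∃ a b, E64 ρ a b := by
  haveI := h.finite
  obtain ⟨a, haZ⟩ : ∃ a : T, a ∉ Subgroup.center T := by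
    by_contra hcon
    push Not at hcon
    have e : Subgroup.center T = ⊤ := (Subgroup.eq_top_iff' _).mpr hcon
    have h4 := h.cardZ
    rw [e, Subgroup.card_top, h.card] at h4
    omega
  have hz1 : a * a ≠ 1 := hell a haZ
  have hzZ : a * a ∈ Subgroup.center T := h.sq a
  have hρzZ : ρ (a * a) ∈ Subgroup.center T := rinv_center _ hzZ
  obtain ⟨u₀, hu₀⟩ : ∃ u₀ : T, ⁅a, u₀⁆ ≠ 1 := by
    by_contra hcon
    push Not at hcon
    apply haZ
    rw [Subgroup.mem_center_iff]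
    intro g
    exact (commutatorElement_eq_one_iff_mul_comm.mp (hcon g)).symm
  obtain ⟨w, -, hw⟩ := h.exists_cc a u₀ hu₀ (ρ (a * a)) hρzZ
  have hρz1 : ρ (a * a) ≠ 1 := fun e => hz1 ((map_eq_one_iff ρ ρ.injective).mp e)
  have hwZ : w ∉ Subgroup.center T := by
    intro hwz
    rw [cc_central_right a w hwz] at hw
    exact hρz1 hw.symm
  have hcwa : ⁅a, w * a⁆ = ρ (a * a) := by
    rw [cc_mul_right a w a (h.comm _ _), commutatorElement_self, mul_one, hw]
  have hwaZ : w * a ∉ Subgroup.center T := by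
    intro hwz
    rw [cc_central_right a _ hwz] at hcwa
    exact hρz1 hcwa.symm
  have hw1 : w * w ≠ 1 := hell w hwZ
  have hwa : (w * a) * (w * a) = (w * w) * ρ (ρ (a * a)) := by
    rw [sq_mul_cc w a (h.comm a w), hw, h.rr_c hzZ]; group
  have hwa1 : (w * a) * (w * a) ≠ 1 := hell _ hwaZ
  rcases h.center_enum hzZ hz1 (h.sq w) with e | e | e | e
  · exact absurd e hw1
  · exact ⟨a, w, h, hz1, e, hw⟩
  · refine ⟨a, w * a, h, hz1, ?_, hcwa⟩
    have hc1 : (a * a) * ρ (a * a) = ρ (a * a) * (a * a) :=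
      Subgroup.mem_center_iff.mp hρzZ (a * a)
    rw [hwa, e, h.rr_c hzZ]
    calc ρ (a * a) * (a * a * ρ (a * a)) = ρ (a * a) * (ρ (a * a) * (a * a)) := by rw [hc1]
      _ = (ρ (a * a) * ρ (a * a)) * (a * a) := by group
      _ = a * a := by rw [h.zsq _ hρzZ, one_mul]
  · exfalso
    apply hwa1
    rw [hwa, e]
    exact h.zsq _ (rinv_center _ hρzZ)

/-- The dichotomy. -/
theorem r64_or_e64 (h : T64 ρ) : (∃ a b, R64 ρ a b) ∨ (∃ a b, E64 ρ a b) := by
  by_cases hell : ∀ a : T, a ∉ Subgroup.center T → a * a ≠ 1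
  · exact Or.inr (h.exists_e64 hell)
  · push Not at hell
    obtain ⟨a, haZ, ha⟩ := hell
    obtain ⟨b, hb⟩ := h.exists_r64 a haZ ha
    exact Or.inl ⟨a, b, hb⟩

end T64

section model

variable {F : Type*} [Field F] [Fintype F] [hS : SuzFin F 2]

/-- The model of a Sylow 2-subgroup of `PSU₃(4)` is of type `E64`. -/
theorem par_e64 : ∃ (ρ : MulAut (Par F 2)) (a b : Par F 2), E64 ρ a b := by
  have h2 := suz_two F 2
  obtain ⟨ζ, hζ5, hζ1⟩ := exists_fifth_root (F := F)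
  have hcyc : 1 + ζ + ζ ^ 2 + ζ ^ 3 + ζ ^ 4 = 0 := by
    have e : (ζ - 1) * (1 + ζ + ζ ^ 2 + ζ ^ 3 + ζ ^ 4) = 0 := by linear_combination hζ5
    exact (mul_eq_zero.mp e).resolve_left (sub_ne_zero.mpr hζ1)
  obtain ⟨ω, hω⟩ : ∃ ω : F, ω = ζ ^ 2 + ζ ^ 3 := ⟨_, rfl⟩
  have hω2 : ω ^ 2 = ζ + ζ ^ 4 := by
    rw [hω]; linear_combination ζ ^ 5 * h2 + ζ * hζ5
  have hω1 : ω ^ 2 + ω + 1 = 0 := by linear_combination hω2 + hcyc + hω
  have hω3 : ω ^ 3 = 1 := by linear_combination (ω - 1) * hω1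
  have hω0 : ω ≠ 0 := by
    intro e
    rw [e] at hω1
    norm_num at hω1
  have hωne1 : ω ≠ 1 := by
    intro e
    rw [e] at hω1
    have e1 : (1 : F) = 0 := by linear_combination hω1 - h2
    exact one_ne_zero e1
  have hω5 : ω ^ (2 ^ 2 + 1) = ω ^ 2 := by linear_combination ω ^ 2 * hω3
  obtain ⟨ρ, hρdef⟩ : ∃ ρ : MulAut (Par F 2), ρ = Par.gam (n := 2) ω hω0 (RingEquiv.refl F) :=
    ⟨_, rfl⟩
  have ga : ∀ y : Par F 2, (ρ y).a = ω * y.a := fun y => by rw [hρdef]; rfl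
  have gb : ∀ y : Par F 2, (ρ y).b = ω ^ 2 * y.b := fun y => by
    rw [hρdef, Par.gam_apply, Par.gamFun_b, hω5]; rfl
  have hfp3 : Fpf3 ρ :=
    { r3 := fun y => by
        apply Par.ext
        · rw [ga, ga, ga]
          linear_combination y.a * hω3
        · rw [gb, gb, gb]
          linear_combination (ω ^ 3 + 1) * y.b * hω3
      fp := fun y hy => by
        have ha : ω * y.a = y.a := by rw [← ga, hy]
        have hb : ω ^ 2 * y.b = y.b := by rw [← gb, hy]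
        have hω1' : ω - 1 ≠ 0 := sub_ne_zero.mpr hωne1
        have hω2' : ω ^ 2 - 1 ≠ 0 := by
          intro e
          apply hωne1
          linear_combination hω3 - ω * e
        apply Par.ext
        · show y.a = 0
          have e : (ω - 1) * y.a = 0 := by linear_combination ha
          exact (mul_eq_zero.mp e).resolve_left hω1'
        · show y.b = 0
          have e : (ω ^ 2 - 1) * y.b = 0 := by linear_combination hb
          exact (mul_eq_zero.mp e).resolve_left hω2' }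
  obtain ⟨x, y, hxy⟩ := Par.not_comm (F := F) (n := 2)
  have hcard : Nat.card (Par F 2) = 64 := by rw [Par.card_eq]; norm_num
  have ht64 : T64 ρ := T64.of_fpf hfp3 hcard x y hxy
  refine ⟨ρ, Par.lift 1, Par.lift ζ, ht64, ?_, ?_, ?_⟩
  · intro e
    have e1 := (Par.mul_self_eq_one_iff (Par.lift (1 : F) : Par F 2)).mp e
    rw [Par.lift_a] at e1
    exact one_ne_zero e1
  · apply Par.ext
    · rw [Par.mul_self_a, Par.mul_self_a]
    · rw [Par.mul_self_b, Par.mul_self_b, Par.lift_a, Par.lift_a, one_pow]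
      exact hζ5
  · apply Par.ext
    · rw [Par.commutator_a, ga, Par.mul_self_a, mul_zero]
    · rw [Par.commutator_b, gb, Par.mul_self_b, Par.lift_a, Par.lift_a]
      linear_combination -hω2

end model

end Cfsg.Agent.H60
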