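import Mathlib
import Cfsg.Agent.H60.Fpf3T

/-!
# helper60: the 2-group `T` with a central four-group `V`, an element `ρ` of order three acting
transitively on `V#` and a commuting involution `t` with `C_T(t) = V`

`s2933_main`: `T` is elementary abelian of order 16, homocyclic of rank two, or of type `T64`.
-/

set_option autoImplicit false

namespace Cfsg.Agent.H60

open scoped Classical

open scoped commutatorElement

/-- Fixed points of an involutory map on a stable finite set, modulo 2. -/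
theorem fix2_card {α : Type*} (A : α → α) (hA2 : ∀ a, A (A a) = a)
    (X : Finset α) (hX : ∀ a ∈ X, A a ∈ X) :
    X.card ≡ (X.filter (fun a => A a = a)).card [MOD 2] := by
  haveI : Fact (Nat.Prime 2) := ⟨Nat.prime_two⟩
  let f : Function.End ↥X := fun x => ⟨A x.1, hX x.1 x.2⟩
  have hf : f ^ 2 ^ 1 = 1 := by
    rw [pow_one]
    have h2 : f ^ 2 = f * f := pow_two f
    rw [h2]
    funext x
    exact Subtype.ext (hA2 x.1)
  have h := Equiv.Perm.card_fixedPoints_modEq (f := f) (p := 2) (n := 1) hf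
  have h2 : Nat.card ↥(Function.fixedPoints f) = (X.filter (fun a => A a = a)).card := by
    rw [← Fintype.card_coe (X.filter _), ← Nat.card_eq_fintype_card]
    apply Nat.card_congr
    exact
      { toFun := fun y => ⟨y.1.1, Finset.mem_filter.mpr ⟨y.1.2, congrArg Subtype.val y.2⟩⟩
        invFun := fun z => ⟨⟨z.1, (Finset.mem_filter.mp z.2).1⟩,
          Subtype.ext (Finset.mem_filter.mp z.2).2⟩
        left_inv := fun y => rfl
        right_inv := fun z => rfl }
  rw [← h2]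
  convert h using 1
  · rw [Fintype.card_coe]
  · rw [Nat.card_eq_fintype_card]

/-- Conjugation by an element of the normalizer, as an automorphism of the subgroup. -/
def normAut {G : Type*} [Group G] (T : Subgroup G) (g : G)
    (hg : g ∈ Subgroup.normalizer (T : Set G)) : MulAut ↥T where
  toFun x := ⟨g * x * g⁻¹, (Subgroup.mem_normalizer_iff.mp hg x).mp x.2⟩
  invFun x := ⟨g⁻¹ * x * g, by
    apply (Subgroup.mem_normalizer_iff.mp hg (g⁻¹ * x * g)).mpr
    have e : g * (g⁻¹ * (x : G) * g) * g⁻¹ = x := by group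
    rw [e]; exact x.2⟩
  left_inv x := by
    apply Subtype.ext
    show g⁻¹ * (g * (x : G) * g⁻¹) * g = x
    group
  right_inv x := by
    apply Subtype.ext
    show g * (g⁻¹ * (x : G) * g) * g⁻¹ = x
    group
  map_mul' x y := by
    apply Subtype.ext
    show g * ((x : G) * (y : G)) * g⁻¹ = (g * (x : G) * g⁻¹) * (g * (y : G) * g⁻¹)
    group

theorem normAut_coe {G : Type*} [Group G] (T : Subgroup G) (g : G)
    (hg : g ∈ Subgroup.normalizer (T : Set G)) (x : ↥T) :
    ((normAut T g hg x : ↥T) : G) = g * x * g⁻¹ := rfl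

set_option maxHeartbeats 1000000 in
theorem s2933_main {G : Type*} [Group G] [Finite G] (T V : Subgroup G) (hT : IsPGroup 2 ↥T)
    (hVT : V ≤ T) (hV : Nat.card ↥V = 4)
    (t ρ : G) (ht : t * t = 1) (hρ : ρ * ρ * ρ = 1)
    (htn : t ∈ Subgroup.normalizer (T : Set G)) (hρn : ρ ∈ Subgroup.normalizer (T : Set G))
    (hρV : ρ ∈ Subgroup.normalizer (V : Set G))
    (htρ : t * ρ = ρ * t) (hVρ : ⁅V, Subgroup.zpowers ρ⁆ = V)
    (hCt : T ⊓ Subgroup.centralizer ({t} : Set G) = V) :
    (Nat.card ↥T = 16 ∧ ∀ x : ↥T, x * x = 1) ∨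
    (∃ n : ℕ, 1 ≤ n ∧
      Nonempty (↥T ≃* Multiplicative (ZMod (2 ^ n)) × Multiplicative (ZMod (2 ^ n)))) ∨
    (∃ ρ' : MulAut ↥T, T64 ρ') := by
  haveI : Fact (Nat.Prime 2) := ⟨Nat.prime_two⟩
  letI : Fintype G := Fintype.ofFinite G
  obtain ⟨ρ', hρ'def⟩ : ∃ ρ' : MulAut ↥T, ρ' = normAut T ρ hρn := ⟨_, rfl⟩
  obtain ⟨t', ht'def⟩ : ∃ t' : MulAut ↥T, t' = normAut T t htn := ⟨_, rfl⟩
  have hρ'c : ∀ x : ↥T, ((ρ' x : ↥T) : G) = ρ * x * ρ⁻¹ := fun x => by rw [hρ'def]; rfl
  have ht'c : ∀ x : ↥T, ((t' x : ↥T) : G) = t * x * t⁻¹ := fun x => by rw [ht'def]; rfl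
  have hρ'3 : ∀ x : ↥T, ρ' (ρ' (ρ' x)) = x := by
    intro x
    apply Subtype.ext
    rw [hρ'c, hρ'c, hρ'c]
    have e : ρ * (ρ * (ρ * (x : G) * ρ⁻¹) * ρ⁻¹) * ρ⁻¹ = (ρ * ρ * ρ) * x * (ρ * ρ * ρ)⁻¹ := by
      group
    rw [e, hρ]; group
  have ht'2 : ∀ x : ↥T, t' (t' x) = x := by
    intro x
    apply Subtype.ext
    rw [ht'c, ht'c]
    have e : t * (t * (x : G) * t⁻¹) * t⁻¹ = (t * t) * x * (t * t)⁻¹ := by group
    rw [e, ht]; group
  have ht'ρ' : ∀ x : ↥T, t' (ρ' x) = ρ' (t' x) := by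
    intro x
    apply Subtype.ext
    rw [ht'c, hρ'c, hρ'c, ht'c]
    have e1 : t * (ρ * (x : G) * ρ⁻¹) * t⁻¹ = (t * ρ) * x * (t * ρ)⁻¹ := by group
    have e2 : ρ * (t * (x : G) * t⁻¹) * ρ⁻¹ = (ρ * t) * x * (ρ * t)⁻¹ := by group
    rw [e1, e2, htρ]
  -- the fixed points of `t'`
  obtain ⟨C, hCdef⟩ : ∃ C : Subgroup ↥T, C = V.subgroupOf T := ⟨_, rfl⟩
  have hCmem : ∀ x : ↥T, x ∈ C ↔ (x : G) ∈ V := fun x => by
    rw [hCdef, Subgroup.mem_subgroupOf]
  have hC : ∀ x : ↥T, x ∈ C ↔ t' x = x := by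
    intro x
    rw [hCmem, ← hCt]
    constructor
    · rintro ⟨-, hx⟩
      have hx' : t * (x : G) = x * t := Subgroup.mem_centralizer_iff.mp hx t rfl
      apply Subtype.ext
      rw [ht'c, hx']; group
    · intro hx
      have hx' : t * (x : G) * t⁻¹ = x := by rw [← ht'c, hx]
      have hxc : (x : G) ∈ Subgroup.centralizer ({t} : Set G) := by
        rw [Subgroup.mem_centralizer_iff]
        intro y hy
        rw [Set.mem_singleton_iff.mp hy]
        calc t * (x : G) = (t * (x : G) * t⁻¹) * t := by group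
          _ = x * t := by rw [hx']
      exact ⟨x.2, hxc⟩
  have hCcard : Nat.card ↥C = 4 := by
    rw [hCdef, Nat.card_congr (Subgroup.subgroupOfEquivOfLe hVT).toEquiv, hV]
  -- `ρ` has no nontrivial fixed point in `V`
  have hF : ∀ v ∈ V, ρ * v * ρ⁻¹ = v → v = 1 := by
    obtain ⟨Fs, hFs⟩ : ∃ Fs : Subgroup G, Fs = V ⊓ Subgroup.centralizer ({ρ} : Set G) :=
      ⟨_, rfl⟩
    have hFmem : ∀ v, v ∈ Fs ↔ v ∈ V ∧ ρ * v * ρ⁻¹ = v := by
      intro v
      rw [hFs, Subgroup.mem_inf, Subgroup.mem_centralizer_iff]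
      constructor
      · rintro ⟨hv, hc⟩
        refine ⟨hv, ?_⟩
        rw [hc ρ rfl]; group
      · rintro ⟨hv, hc⟩
        refine ⟨hv, ?_⟩
        intro y hy
        rw [Set.mem_singleton_iff.mp hy]
        calc ρ * v = (ρ * v * ρ⁻¹) * ρ := by group
          _ = v * ρ := by rw [hc]
    have hmod := fix3_card (fun g : G => ρ * g * ρ⁻¹) (by
      intro a
      have e : ρ * (ρ * (ρ * a * ρ⁻¹) * ρ⁻¹) * ρ⁻¹ = (ρ * ρ * ρ) * a * (ρ * ρ * ρ)⁻¹ := by
        group
      show ρ * (ρ * (ρ * a * ρ⁻¹) * ρ⁻¹) * ρ⁻¹ = a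
      rw [e, hρ]; group) (Finset.univ.filter (fun g => g ∈ V)) (by
      intro a ha
      rw [Finset.mem_filter] at ha ⊢
      exact ⟨Finset.mem_univ _, (Subgroup.mem_normalizer_iff.mp hρV a).mp ha.2⟩)
    have hc1 : (Finset.univ.filter (fun g => g ∈ V)).card = 4 := by
      rw [← hV, Nat.card_eq_fintype_card, Fintype.card_subtype]
    have hc2 : ((Finset.univ.filter (fun g => g ∈ V)).filter (fun a => ρ * a * ρ⁻¹ = a)).card
        = Nat.card ↥Fs := by
      rw [Nat.card_eq_fintype_card, Fintype.card_subtype, Finset.filter_filter]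
      congr 1
      apply Finset.filter_congr
      intro v _
      exact (hFmem v).symm
    rw [hc1, hc2] at hmod
    have hle : Fs ≤ V := by rw [hFs]; exact inf_le_left
    have hdvd : Nat.card ↥Fs ∣ 4 := by rw [← hV]; exact Subgroup.card_dvd_of_le hle
    have hFcard : Nat.card ↥Fs = 1 ∨ Nat.card ↥Fs = 4 := by
      have h4 : (4 : ℕ) = 2 ^ 2 := by norm_num
      rw [h4] at hdvd
      obtain ⟨k, hk, hk'⟩ := (Nat.dvd_prime_pow Nat.prime_two).mp hdvd
      rw [hk'] at hmod ⊢
      interval_cases k <;> simp [Nat.ModEq] at hmod ⊢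
    rcases hFcard with h1 | h4
    · intro v hv hvρ
      have e := Subgroup.eq_bot_of_card_eq _ h1
      have hm : v ∈ Fs := (hFmem v).mpr ⟨hv, hvρ⟩
      rw [e, Subgroup.mem_bot] at hm
      exact hm
    · exfalso
      have e : Fs = V := Subgroup.eq_of_le_of_card_ge hle (by omega)
      have hVc : V ≤ Subgroup.centralizer ((Subgroup.zpowers ρ : Subgroup G) : Set G) := by
        intro v hv
        rw [← e, hFs] at hv
        have hv2 : v ∈ Subgroup.centralizer ({ρ} : Set G) := hv.2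
        rw [Subgroup.mem_centralizer_iff] at hv2 ⊢
        intro y hy
        have hy' : y ∈ Subgroup.zpowers ρ := hy
        have hρc : ρ ∈ Subgroup.centralizer ({v} : Set G) := by
          rw [Subgroup.mem_centralizer_iff]
          intro z hz
          rw [Set.mem_singleton_iff.mp hz]
          exact (hv2 ρ rfl).symm
        have hyc : y ∈ Subgroup.centralizer ({v} : Set G) := Subgroup.zpowers_le.mpr hρc hy'
        exact (Subgroup.mem_centralizer_iff.mp hyc v rfl).symm
      have hbot := Subgroup.commutator_eq_bot_iff_le_centralizer.mpr hVc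
      rw [hVρ] at hbot
      rw [hbot, Subgroup.card_bot] at hV
      omega
  -- `ρ'` is fixed-point-free
  have hfp : ∀ x : ↥T, ρ' x = x → x = 1 := by
    obtain ⟨Y, hY⟩ : ∃ Y : Subgroup ↥T, ∀ x, x ∈ Y ↔ ρ' x = x :=
      ⟨{ carrier := {x | ρ' x = x}
         mul_mem' := by
           intro p q hp hq
           have hp' : ρ' p = p := hp
           have hq' : ρ' q = q := hq
           show ρ' (p * q) = p * q
           rw [map_mul, hp', hq']
         one_mem' := map_one ρ'
         inv_mem' := by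
           intro p hp
           have hp' : ρ' p = p := hp
           show ρ' p⁻¹ = p⁻¹
           rw [map_inv, hp'] }, fun x => Iff.rfl⟩
    haveI : Finite ↥T := inferInstance
    letI : Fintype ↥T := Fintype.ofFinite ↥T
    have hmod := fix2_card t' ht'2 (Finset.univ.filter (fun x : ↥T => x ∈ Y)) (by
      intro a ha
      rw [Finset.mem_filter] at ha ⊢
      refine ⟨Finset.mem_univ _, ?_⟩
      rw [hY] at ha ⊢
      rw [← ht'ρ', ha.2])
    have hc1 : (Finset.univ.filter (fun x : ↥T => x ∈ Y)).card = Nat.card ↥Y := by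
      rw [Nat.card_eq_fintype_card, Fintype.card_subtype]
    have hc2 : ∀ s : Finset ↥T, (∀ a, a ∈ s ↔ (a ∈ Y ∧ t' a = a)) → s.card = 1 := by
      intro s hs
      have e : s = {1} := by
        ext a
        rw [hs, Finset.mem_singleton]
        constructor
        · rintro ⟨haY, hat⟩
          have h1 : (a : G) ∈ V := (hCmem a).mp ((hC a).mpr hat)
          have h2 : ρ * (a : G) * ρ⁻¹ = a := by rw [← hρ'c, (hY a).mp haY]
          exact Subtype.ext (hF _ h1 h2)
        · intro ha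
          rw [ha]
          exact ⟨Y.one_mem, map_one t'⟩
      rw [e, Finset.card_singleton]
    rw [hc1, hc2 _ (fun a => by simp only [Finset.mem_filter, Finset.mem_univ, true_and])]
      at hmod
    obtain ⟨k, hk⟩ := IsPGroup.iff_card.mp (hT.to_subgroup Y)
    rw [hk] at hmod
    have hk0 : k = 0 := by
      by_contra hne
      obtain ⟨j, rfl⟩ : ∃ j, k = j + 1 := ⟨k - 1, by omega⟩
      rw [pow_succ] at hmod
      have h1 : (2 ^ j * 2) % 2 = 0 := Nat.mul_mod_left _ _
      have h2 : (2 ^ j * 2) % 2 = 1 % 2 := hmod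
      omega
    rw [hk0, pow_zero] at hk
    have e := Subgroup.eq_bot_of_card_eq _ hk
    intro x hx
    have hm : x ∈ Y := (hY x).mpr hx
    rw [e, Subgroup.mem_bot] at hm
    exact hm
  have hfpf : Fpf3 ρ' := ⟨hρ'3, hfp⟩
  rcases t_struct hT ρ' t' hfpf ht'2 ht'ρ' C hC (by omega) with h | ⟨n, ⟨e⟩⟩ | h
  · exact Or.inl h
  · refine Or.inr (Or.inl ⟨n, ?_, ⟨e⟩⟩)
    have hcT : Nat.card ↥T = 2 ^ n * 2 ^ n := by
      rw [Nat.card_congr e.toEquiv, Nat.card_prod]
      have e1 : Nat.card (Multiplicative (ZMod (2 ^ n))) = 2 ^ n :=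
        (Nat.card_congr Multiplicative.toAdd).trans (Nat.card_zmod (2 ^ n))
      rw [e1]
    have hle : Nat.card ↥V ≤ Nat.card ↥T := Subgroup.card_le_of_le hVT
    rw [hV, hcT] at hle
    by_contra hn
    have hn0 : n = 0 := by omega
    rw [hn0] at hle
    norm_num at hle
  · exact Or.inr (Or.inr ⟨ρ', h⟩)

end Cfsg.Agent.H60
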