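import Mathlib
import Cfsg.Agent.H95.HupDefs

/-!
# S3360-CYC (team piece for helper95)

If `x` acts irreducibly on the finite `ZMod q`-space `V`, every subgroup of `G` (acting faithfully)
centralizing `x` is cyclic: it embeds in the unit group of the centralizer of `ρ x` in `End V`,
which is a finite domain, hence a field.
-/

set_option autoImplicit false

universe u w

namespace Cfsg.Agent.H60.Hup

open Cfsg.Agent.H95.Hup

/-- A finite group embedding multiplicatively in a finite domain is cyclic (Wedderburn). -/
theorem isCyclic_of_injective_finite_domain {C R : Type*} [Group C] [Finite C] [Ring R] [Finite R]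
    [IsDomain R] (f : C →* R) (hf : Function.Injective f) : IsCyclic C := by
  have hfield := Finite.isDomain_to_isField R
  letI : Field R := hfield.toField
  exact isCyclic_of_injective_ringHom f hf

theorem cyc : Cfsg.Agent.H95.Hup.CycStmt.{u, w} := by
  intro q _ V _ _ _ _ G _ _ ρ hinj x hirr C hC
  classical
  -- the endomorphism ring and the centralizer of `ρ x`
  let T : Module.End (ZMod q) V := (ρ x).toLinearMap
  let D : Subalgebra (ZMod q) (Module.End (ZMod q) V) :=
    Subalgebra.centralizer (ZMod q) ({T} : Set (Module.End (ZMod q) V))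
  haveI : Finite (Module.End (ZMod q) V) :=
    Finite.of_injective (fun (f : Module.End (ZMod q) V) => (f : V → V)) DFunLike.coe_injective
  have hmemD : ∀ S : Module.End (ZMod q) V, S ∈ D ↔ T * S = S * T := by
    intro S
    show S ∈ Subalgebra.centralizer (ZMod q) ({T} : Set (Module.End (ZMod q) V)) ↔ _
    rw [Subalgebra.mem_centralizer_iff]
    constructor
    · intro h; exact h T rfl
    · intro h g hg
      rw [Set.mem_singleton_iff] at hg
      rw [hg]; exact h
  -- nonzero elements of `D` are injective
  have hker : ∀ S : Module.End (ZMod q) V, S ∈ D → S ≠ 0 → ∀ v : V, S v = 0 → v = 0 := by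
    intro S hS hS0 v hv
    have hcomm : T * S = S * T := (hmemD S).mp hS
    have hinv : ∀ w ∈ LinearMap.ker S, ρ x w ∈ LinearMap.ker S := by
      intro w hw
      rw [LinearMap.mem_ker] at hw ⊢
      have h1 : (S * T) w = (T * S) w := by rw [hcomm]
      have h2 : S (ρ x w) = T (S w) := h1
      rw [h2, hw, map_zero]
    rcases hirr (LinearMap.ker S) hinv with h | h
    · have hv' : v ∈ LinearMap.ker S := LinearMap.mem_ker.mpr hv
      rw [h] at hv'
      exact (Submodule.mem_bot _).mp hv'
    · exfalso
      apply hS0
      exact LinearMap.ker_eq_top.mp h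
  haveI : Nontrivial D := inferInstance
  haveI : NoZeroDivisors D := by
    refine ⟨?_⟩
    intro a b hab
    by_contra hcon
    push Not at hcon
    obtain ⟨ha, hb⟩ := hcon
    have ha' : (a : Module.End (ZMod q) V) ≠ 0 := fun h => ha (Subtype.ext h)
    have hb' : (b : Module.End (ZMod q) V) ≠ 0 := fun h => hb (Subtype.ext h)
    obtain ⟨v, hv⟩ := exists_ne (0 : V)
    have h0 : ((a : Module.End (ZMod q) V) * (b : Module.End (ZMod q) V)) v = 0 := by
      have h1 : ((a * b : D) : Module.End (ZMod q) V) = 0 := by rw [hab]; rfl
      have h2 : ((a * b : D) : Module.End (ZMod q) V)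
          = (a : Module.End (ZMod q) V) * (b : Module.End (ZMod q) V) := rfl
      rw [← h2, h1]; rfl
    have h3 : (a : Module.End (ZMod q) V) ((b : Module.End (ZMod q) V) v) = 0 := h0
    have h4 := hker _ a.2 ha' _ h3
    exact hv (hker _ b.2 hb' _ h4)
  haveI : IsDomain D := NoZeroDivisors.to_isDomain D
  -- the embedding of `C`
  have hCmem : ∀ c : C, ((ρ (c : G)).toLinearMap : Module.End (ZMod q) V) ∈ D := by
    intro c
    rw [hmemD]
    apply LinearMap.ext
    intro v
    show ρ x (ρ (c : G) v) = ρ (c : G) (ρ x v)
    have h1 : ρ (x * (c : G)) v = ρ ((c : G) * x) v := by rw [hC c c.2]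
    rw [map_mul, map_mul] at h1
    exact h1
  let f : C →* D :=
    { toFun := fun c => ⟨(ρ (c : G)).toLinearMap, hCmem c⟩
      map_one' := by
        apply Subtype.ext
        apply LinearMap.ext
        intro v
        show ρ ((1 : C) : G) v = v
        rw [Subgroup.coe_one, map_one]; rfl
      map_mul' := by
        intro a b
        apply Subtype.ext
        apply LinearMap.ext
        intro v
        show ρ ((a * b : C) : G) v = ρ (a : G) (ρ (b : G) v)
        rw [Subgroup.coe_mul, map_mul]; rfl }
  have hf : Function.Injective f := by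
    intro a b hab
    have h1 : ((ρ (a : G)).toLinearMap : Module.End (ZMod q) V) = (ρ (b : G)).toLinearMap :=
      congrArg Subtype.val hab
    have h2 : ρ (a : G) = ρ (b : G) := LinearEquiv.toLinearMap_injective h1
    exact Subtype.ext (hinj h2)
  exact isCyclic_of_injective_finite_domain f hf

example : Cfsg.Agent.H95.Hup.CycStmt.{u, w} := Cfsg.Agent.H60.Hup.cyc

end Cfsg.Agent.H60.Hup
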