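import Mathlib
import Cfsg.Agent.H95.HupDefs
import Cfsg.Agent.S0044
import Cfsg.Agent.H60.Cores

/-!
# S3360-FIT (team piece for helper95)

In a finite solvable group `G`, an element `x` of prime order `r` either sees `O_r(G) ≠ 1`, or
fails to centralize some `O_s(G)` with `s ≠ r`.
-/

set_option autoImplicit false

universe w

namespace Cfsg.Agent.H60.Hup

open Cfsg

/-- The Sylow subgroups of a normal nilpotent subgroup `N` of `G` lie in the cores of `G`. -/
theorem sylow_map_le_pCore {G : Type*} [Group G] [Finite G] {s : ℕ} [Fact s.Prime]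
    (N : Subgroup G) [N.Normal] (hnil : Group.IsNilpotent N) (S : Sylow s N) :
    (S : Subgroup N).map N.subtype ≤ pCore s G := by
  have hSn' : (S : Subgroup N).Normal := inferInstance
  have hSc : (S : Subgroup N).Characteristic := Sylow.characteristic_of_normal S hSn'
  have hSn : ((S : Subgroup N).map N.subtype).Normal :=
    ConjAct.normal_of_characteristic_of_normal
  exact Cfsg.Agent.H60.le_pCore hSn (S.isPGroup'.map N.subtype)

/-- A subgroup containing a Sylow `s`-subgroup for every prime `s` is everything. -/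
theorem eq_top_of_sylow_le {N : Type*} [Group N] [Finite N] (C : Subgroup N)
    (h : ∀ (s : ℕ) [Fact s.Prime], ∃ S : Sylow s N, (S : Subgroup N) ≤ C) : C = ⊤ := by
  have hN0 : Nat.card N ≠ 0 := Nat.card_pos.ne'
  have hC0 : Nat.card C ≠ 0 := Nat.card_pos.ne'
  have hdvd : Nat.card N ∣ Nat.card C := by
    rw [← Nat.factorization_prime_le_iff_dvd hN0 hC0]
    intro s hs
    haveI : Fact s.Prime := ⟨hs⟩
    obtain ⟨S, hS⟩ := h s
    have h1 : s ^ (Nat.card N).factorization s ∣ Nat.card C := by
      rw [← Sylow.card_eq_multiplicity S]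
      exact Subgroup.card_dvd_of_le hS
    exact (hs.pow_dvd_iff_le_factorization hC0).mp h1
  exact Subgroup.eq_top_of_le_card _ (Nat.le_of_dvd Nat.card_pos hdvd)

theorem fit : Cfsg.Agent.H95.Hup.FitStmt.{w} := by
  intro G _ _ hsol r x hr hxr
  by_contra hcon
  push Not at hcon
  obtain ⟨hO, hcomm⟩ := hcon
  haveI : Fact r.Prime := ⟨hr⟩
  have key : ∀ N : Subgroup G, N.Normal → Group.IsNilpotent N →
      (Nat.card N).Coprime r ∧ N ≤ Subgroup.centralizer {x} := by
    intro N hNn hnil
    haveI := hNn
    -- the Sylow `r`-subgroup of `N` is trivial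
    have hr0 : ¬ r ∣ Nat.card N := by
      intro hdvd
      let R : Sylow r N := default
      have hle := sylow_map_le_pCore N hnil R
      rw [hO, le_bot_iff, Subgroup.map_eq_bot_iff_of_injective _ (Subgroup.subtype_injective _)]
        at hle
      exact R.ne_bot_of_dvd_card hdvd hle
    refine ⟨(Nat.Coprime.symm ((Nat.Prime.coprime_iff_not_dvd hr).mpr hr0)), ?_⟩
    have htop : (Subgroup.centralizer {x}).subgroupOf N = ⊤ := by
      apply eq_top_of_sylow_le
      intro s hs
      refine ⟨default, ?_⟩
      intro u hu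
      rw [Subgroup.mem_subgroupOf, Subgroup.mem_centralizer_singleton_iff]
      by_cases hsr : s = r
      · subst hsr
        have hbot : ((default : Sylow s N) : Subgroup N) = ⊥ := by
          by_contra hne
          have hcard : Nat.card ((default : Sylow s N) : Subgroup N) ≠ 1 := by
            intro h1
            exact hne (Subgroup.eq_bot_of_card_eq _ h1)
          rw [Sylow.card_eq_multiplicity] at hcard
          have h0 : (Nat.card N).factorization s = 0 :=
            Nat.factorization_eq_zero_of_not_dvd hr0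
          rw [h0, pow_zero] at hcard
          exact hcard rfl
        rw [hbot, Subgroup.mem_bot] at hu
        rw [hu]; simp
      · have hmem : (u : G) ∈ pCore s G :=
          sylow_map_le_pCore N hnil (default : Sylow s N) ⟨u, hu, rfl⟩
        exact (hcomm s hs.out hsr (u : G) hmem).symm
    intro n hn
    have h1 : (⟨n, hn⟩ : N) ∈ (Subgroup.centralizer {x}).subgroupOf N := by
      rw [htop]; trivial
    exact Subgroup.mem_subgroupOf.mp h1
  have hF1 : fittingSubgroup G ≤ Subgroup.centralizer {x} :=
    sSup_le (fun N hN => (key N hN.1 hN.2).2)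
  have hF2 : fittingSubgroup G ≤ pPrimeCore r G :=
    sSup_le (fun N hN => Cfsg.Agent.H60.le_pPrimeCore hN.1 (key N hN.1 hN.2).1)
  have hx1 : x ∈ Subgroup.centralizer (fittingSubgroup G : Set G) := by
    rw [Subgroup.mem_centralizer_iff]
    intro u hu
    exact Subgroup.mem_centralizer_singleton_iff.mp (hF1 hu)
  haveI := hsol
  have hx2 : x ∈ fittingSubgroup G := Cfsg.Agent.S0044.result hx1
  have hx3 : x ∈ pPrimeCore r G := hF2 hx2
  have hd : r ∣ Nat.card (pPrimeCore r G) := by
    have hd' := Subgroup.orderOf_dvd_natCard (pPrimeCore r G) hx3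
    rwa [hxr] at hd'
  have hc := Cfsg.Agent.H60.card_pPrimeCore_coprime (G := G) r
  exact hr.one_lt.ne' (Nat.Coprime.eq_one_of_dvd hc.symm hd)

end Cfsg.Agent.H60.Hup

example : Cfsg.Agent.H95.Hup.FitStmt.{w} := Cfsg.Agent.H60.Hup.fit
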