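import Mathlib

set_option autoImplicit false

universe u

namespace Cfsg.Agent.H60.Jz

section
variable {G : Type u} [Group G]

theorem di_comm_of_sq (V : Subgroup G) (hV2 : ∀ v ∈ V, v * v = 1)
    (v w : G) (hv : v ∈ V) (hw : w ∈ V) : v * w = w * v := by
  have h1 := hV2 (v * w) (V.mul_mem hv hw)
  have hv' : v⁻¹ = v := inv_eq_of_mul_eq_one_left (hV2 v hv)
  have hw' : w⁻¹ = w := inv_eq_of_mul_eq_one_left (hV2 w hw)
  have h2 : v * w = (v * w)⁻¹ := (inv_eq_of_mul_eq_one_left h1).symm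
  rw [mul_inv_rev, hv', hw'] at h2
  exact h2

theorem di_mem_conj_iff (V : Subgroup G) (h x : G) :
    x ∈ V.map (MulAut.conj h).toMonoidHom ↔ h⁻¹ * x * h ∈ V := by
  constructor
  · rintro ⟨v, hv, rfl⟩
    have e : h⁻¹ * ((MulAut.conj h).toMonoidHom v) * h = v := by
      show h⁻¹ * (h * v * h⁻¹) * h = v
      group
    rw [e]; exact hv
  · intro hx
    refine ⟨h⁻¹ * x * h, hx, ?_⟩
    show h * (h⁻¹ * x * h) * h⁻¹ = x
    group

theorem di_mem_normalizer_conj_iff (V : Subgroup G) (h x : G) :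
    x ∈ Subgroup.normalizer ((V.map (MulAut.conj h).toMonoidHom : Subgroup G) : Set G) ↔
      h⁻¹ * x * h ∈ Subgroup.normalizer (V : Set G) := by
  rw [Subgroup.mem_normalizer_iff, Subgroup.mem_normalizer_iff]
  constructor
  · intro hx y
    have h1 := hx (h * y * h⁻¹)
    rw [di_mem_conj_iff, di_mem_conj_iff] at h1
    have e1 : h⁻¹ * (h * y * h⁻¹) * h = y := by group
    have e2 : h⁻¹ * (x * (h * y * h⁻¹) * x⁻¹) * h = h⁻¹ * x * h * y * (h⁻¹ * x * h)⁻¹ := by
      group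
    rw [e1, e2] at h1
    exact h1
  · intro hx y
    have h1 := hx (h⁻¹ * y * h)
    rw [di_mem_conj_iff, di_mem_conj_iff]
    have e2 : h⁻¹ * x * h * (h⁻¹ * y * h) * (h⁻¹ * x * h)⁻¹ = h⁻¹ * (x * y * x⁻¹) * h := by
      group
    rw [e2] at h1
    exact h1

/-- An involution `b` normalizing an elementary abelian 2-group `V` of order at least 8 has two
distinct nontrivial fixed points on `V` (`|C_V(b)|² ≥ |V|`). -/
theorem di_fix_two [Finite G] (V : Subgroup G)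
    (hV2 : ∀ v ∈ V, v * v = 1) (hcard : 8 ≤ Nat.card ↥V) (b : G)
    (hb : b ∈ Subgroup.normalizer (V : Set G)) (hb2 : b * b = 1) :
    ∃ v₁ ∈ V, ∃ v₂ ∈ V, v₁ ≠ 1 ∧ v₂ ≠ 1 ∧ v₁ ≠ v₂ ∧ b * v₁ = v₁ * b ∧ b * v₂ = v₂ * b := by
  classical
  have hbinv : b⁻¹ = b := inv_eq_of_mul_eq_one_left hb2
  have hconj : ∀ v ∈ V, b * v * b ∈ V := by
    intro v hv
    have h1 := (Subgroup.mem_normalizer_iff.mp hb v).mp hv
    rwa [hbinv] at h1
  have hcomm := di_comm_of_sq V hV2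
  let f : ↥V →* ↥V :=
    { toFun := fun v => ⟨(v : G) * (b * (v : G) * b), V.mul_mem v.2 (hconj v v.2)⟩
      map_one' := by
        apply Subtype.ext
        show (1 : G) * (b * 1 * b) = 1
        rw [mul_one, one_mul, hb2]
      map_mul' := by
        intro v w
        apply Subtype.ext
        show (v : G) * (w : G) * (b * ((v : G) * (w : G)) * b) =
          (v : G) * (b * (v : G) * b) * ((w : G) * (b * (w : G) * b))
        have h1 : b * ((v : G) * (w : G)) * b = (b * (v : G) * b) * (b * (w : G) * b) := by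
          have e : (b * (v : G) * b) * (b * (w : G) * b) =
              b * (v : G) * (b * b) * (w : G) * b := by group
          rw [e, hb2, mul_one]
          group
        rw [h1]
        have h2 : (w : G) * (b * (v : G) * b) = (b * (v : G) * b) * (w : G) :=
          hcomm _ _ w.2 (hconj v v.2)
        calc (v : G) * (w : G) * ((b * (v : G) * b) * (b * (w : G) * b))
            = (v : G) * ((w : G) * (b * (v : G) * b)) * (b * (w : G) * b) := by group
          _ = (v : G) * ((b * (v : G) * b) * (w : G)) * (b * (w : G) * b) := by rw [h2]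
          _ = (v : G) * (b * (v : G) * b) * ((w : G) * (b * (w : G) * b)) := by group }
  have hf : ∀ v : ↥V, ((f v : ↥V) : G) = (v : G) * (b * (v : G) * b) := fun _ => rfl
  let C : Subgroup ↥V := (Subgroup.centralizer ({b} : Set G)).subgroupOf V
  have hCmem : ∀ v : ↥V, v ∈ C ↔ b * (v : G) = (v : G) * b := by
    intro v
    show (v : G) ∈ Subgroup.centralizer ({b} : Set G) ↔ _
    rw [Subgroup.mem_centralizer_iff]
    constructor
    · intro h; exact h b rfl
    · intro h x hx; rw [Set.mem_singleton_iff.mp hx]; exact h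
  have hker : f.ker ≤ C := by
    intro v hv
    rw [MonoidHom.mem_ker] at hv
    have h1 : (v : G) * (b * (v : G) * b) = 1 := by
      rw [← hf, hv]; rfl
    rw [hCmem]
    have h2 : b * (v : G) * b = (v : G) := by
      have h3 : (v : G)⁻¹ = (v : G) := inv_eq_of_mul_eq_one_left (hV2 v v.2)
      have h4 : (v : G)⁻¹ = b * (v : G) * b := inv_eq_of_mul_eq_one_right h1
      rw [← h4, h3]
    calc b * (v : G) = b * (v : G) * (b * b) := by rw [hb2, mul_one]
      _ = (b * (v : G) * b) * b := by group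
      _ = (v : G) * b := by rw [h2]
  have hrange : f.range ≤ C := by
    rintro w ⟨v, rfl⟩
    rw [hCmem, hf]
    have h2 : (b * (v : G) * b) * (v : G) = (v : G) * (b * (v : G) * b) :=
      hcomm _ _ (hconj v v.2) v.2
    calc b * ((v : G) * (b * (v : G) * b)) = (b * (v : G) * b) * (v : G) * b := by group
      _ = (v : G) * (b * (v : G) * b) * b := by rw [h2]
  have hcardV : Nat.card ↥V = Nat.card ↥f.ker * Nat.card ↥f.range := by
    rw [← Subgroup.index_ker, Subgroup.card_mul_index]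
  have h1 : Nat.card ↥f.ker ≤ Nat.card ↥C := Subgroup.card_le_of_le hker
  have h2 : Nat.card ↥f.range ≤ Nat.card ↥C := Subgroup.card_le_of_le hrange
  have h3 : 8 ≤ Nat.card ↥C * Nat.card ↥C := by
    calc 8 ≤ Nat.card ↥V := hcard
      _ = Nat.card ↥f.ker * Nat.card ↥f.range := hcardV
      _ ≤ Nat.card ↥C * Nat.card ↥C := Nat.mul_le_mul h1 h2
  have h4 : 2 < Nat.card ↥C := by
    by_contra hlt
    have h5 : Nat.card ↥C ≤ 2 := by omega
    have h6 : Nat.card ↥C * Nat.card ↥C ≤ 2 * 2 := Nat.mul_le_mul h5 h5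
    omega
  have : Fintype ↥C := Fintype.ofFinite _
  rw [Nat.card_eq_fintype_card] at h4
  obtain ⟨x, y, z, hxy, hxz, hyz⟩ := Fintype.two_lt_card_iff.mp h4
  have hpair : ∀ p q : ↥C, p ≠ 1 → q ≠ 1 → p ≠ q →
      ∃ v₁ ∈ V, ∃ v₂ ∈ V, v₁ ≠ 1 ∧ v₂ ≠ 1 ∧ v₁ ≠ v₂ ∧ b * v₁ = v₁ * b ∧ b * v₂ = v₂ * b := by
    intro p q hp hq hpq
    refine ⟨((p : ↥V) : G), (p : ↥V).2, ((q : ↥V) : G), (q : ↥V).2, ?_, ?_, ?_,
      (hCmem p).mp p.2, (hCmem q).mp q.2⟩
    · intro hh
      apply hp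
      apply Subtype.ext
      apply Subtype.ext
      exact hh
    · intro hh
      apply hq
      apply Subtype.ext
      apply Subtype.ext
      exact hh
    · intro hh
      apply hpq
      apply Subtype.ext
      apply Subtype.ext
      exact hh
  by_cases hx1 : x = 1
  · exact hpair y z (fun hh => hxy (hx1.trans hh.symm)) (fun hh => hxz (hx1.trans hh.symm)) hyz
  · by_cases hy1 : y = 1
    · exact hpair x z hx1 (fun hh => hyz (hy1.trans hh.symm)) hxz
    · exact hpair x y hx1 hy1 hxy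

/-- Half of the dichotomy: if two distinct nontrivial elements of `V^h` normalize `V`
(and `V ∩ V^h = 1`), then `V` normalizes `V^h`. -/
theorem di_half (V : Subgroup G)
    (hV2 : ∀ v ∈ V, v * v = 1)
    (H1 : ∀ u ∈ V, u ≠ 1 →
      Subgroup.centralizer ({u} : Set G) ≤ Subgroup.normalizer (V : Set G))
    (hQ4 : ∀ a b : G, a ∈ Subgroup.normalizer (V : Set G) →
      b ∈ Subgroup.normalizer (V : Set G) → a * a = 1 → b * b = 1 → a * b = b * a →
      a ∉ Subgroup.centralizer (V : Set G) → b ∉ Subgroup.centralizer (V : Set G) →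
      a * b ∉ Subgroup.centralizer (V : Set G) →
      ¬ (∀ v ∈ V, (a * v = v * a ↔ b * v = v * b) ∧
        (a * v = v * a ↔ (a * b) * v = v * (a * b))))
    (h : G) (hVY : ∀ x ∈ V, x ∈ V.map (MulAut.conj h).toMonoidHom → x = 1)
    (y₁ y₂ : G) (hy₁ : y₁ ∈ V.map (MulAut.conj h).toMonoidHom)
    (hy₂ : y₂ ∈ V.map (MulAut.conj h).toMonoidHom)
    (hn₁ : y₁ ∈ Subgroup.normalizer (V : Set G)) (hn₂ : y₂ ∈ Subgroup.normalizer (V : Set G))
    (h1 : y₁ ≠ 1) (h2 : y₂ ≠ 1) (h12 : y₁ ≠ y₂) :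
    ∀ v ∈ V, v ∈ Subgroup.normalizer
      ((V.map (MulAut.conj h).toMonoidHom : Subgroup G) : Set G) := by
  have hY2 : ∀ y ∈ V.map (MulAut.conj h).toMonoidHom, y * y = 1 := by
    intro y hy
    rw [di_mem_conj_iff] at hy
    have h3 := hV2 _ hy
    have e : y * y = h * ((h⁻¹ * y * h) * (h⁻¹ * y * h)) * h⁻¹ := by group
    rw [e, h3]; group
  have c1 : ∀ v ∈ V, v ∈ Subgroup.normalizer
      ((V.map (MulAut.conj h).toMonoidHom : Subgroup G) : Set G) →
      ∀ y ∈ V.map (MulAut.conj h).toMonoidHom,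
      y ∈ Subgroup.normalizer (V : Set G) → v * y = y * v := by
    intro v hv hvN y hy hyN
    have hc1 : v * y * v⁻¹ * y⁻¹ ∈ V := by
      have h3 : y * v⁻¹ * y⁻¹ ∈ V :=
        (Subgroup.mem_normalizer_iff.mp hyN v⁻¹).mp (V.inv_mem hv)
      have e : v * y * v⁻¹ * y⁻¹ = v * (y * v⁻¹ * y⁻¹) := by group
      rw [e]; exact V.mul_mem hv h3
    have hc2 : v * y * v⁻¹ * y⁻¹ ∈ V.map (MulAut.conj h).toMonoidHom := by
      have h3 : v * y * v⁻¹ ∈ V.map (MulAut.conj h).toMonoidHom :=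
        (Subgroup.mem_normalizer_iff.mp hvN y).mp hy
      exact Subgroup.mul_mem _ h3 (Subgroup.inv_mem _ hy)
    have h4 := hVY _ hc1 hc2
    have e : v * y = (v * y * v⁻¹ * y⁻¹) * (y * v) := by group
    rw [e, h4, one_mul]
  have c2 : ∀ y ∈ V.map (MulAut.conj h).toMonoidHom, y ≠ 1 → ∀ v : G, y * v = v * y →
      v ∈ Subgroup.normalizer ((V.map (MulAut.conj h).toMonoidHom : Subgroup G) : Set G) := by
    intro y hy hy1 v hvy
    rw [di_mem_normalizer_conj_iff]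
    have hu : h⁻¹ * y * h ∈ V := (di_mem_conj_iff V h y).mp hy
    have hu1 : h⁻¹ * y * h ≠ 1 := by
      intro hh
      apply hy1
      have e : y = h * (h⁻¹ * y * h) * h⁻¹ := by group
      rw [e, hh]; group
    apply H1 _ hu hu1
    rw [Subgroup.mem_centralizer_iff]
    intro x hx
    rw [Set.mem_singleton_iff.mp hx]
    have e1 : h⁻¹ * y * h * (h⁻¹ * v * h) = h⁻¹ * (y * v) * h := by group
    have e2 : h⁻¹ * v * h * (h⁻¹ * y * h) = h⁻¹ * (v * y) * h := by group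
    rw [e1, e2, hvy]
  have key : ∀ y ∈ V.map (MulAut.conj h).toMonoidHom,
      y ∈ Subgroup.normalizer (V : Set G) → y ≠ 1 → ∀ v ∈ V,
      (y * v = v * y ↔ v ∈ Subgroup.normalizer
        ((V.map (MulAut.conj h).toMonoidHom : Subgroup G) : Set G)) := by
    intro y hy hyN hy1 v hv
    constructor
    · intro hh; exact c2 y hy hy1 v hh
    · intro hh; exact (c1 v hv hh y hy hyN).symm
  have hcomm12 : y₁ * y₂ = y₂ * y₁ := di_comm_of_sq _ hY2 y₁ y₂ hy₁ hy₂
  have hy12 : y₁ * y₂ ∈ V.map (MulAut.conj h).toMonoidHom := Subgroup.mul_mem _ hy₁ hy₂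
  have hn12 : y₁ * y₂ ∈ Subgroup.normalizer (V : Set G) := Subgroup.mul_mem _ hn₁ hn₂
  have h121 : y₁ * y₂ ≠ 1 := by
    intro hh
    apply h12
    have e1 : y₂⁻¹ = y₂ := inv_eq_of_mul_eq_one_left (hY2 y₂ hy₂)
    have e2 : y₁ = y₂⁻¹ := eq_inv_of_mul_eq_one_left hh
    rw [e2, e1]
  have hcond : ∀ v ∈ V, (y₁ * v = v * y₁ ↔ y₂ * v = v * y₂) ∧
      (y₁ * v = v * y₁ ↔ (y₁ * y₂) * v = v * (y₁ * y₂)) := by
    intro v hv
    exact ⟨(key y₁ hy₁ hn₁ h1 v hv).trans (key y₂ hy₂ hn₂ h2 v hv).symm,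
      (key y₁ hy₁ hn₁ h1 v hv).trans (key (y₁ * y₂) hy12 hn12 h121 v hv).symm⟩
  have hex : ∃ y ∈ V.map (MulAut.conj h).toMonoidHom,
      y ∈ Subgroup.normalizer (V : Set G) ∧ y ≠ 1 ∧
      y ∈ Subgroup.centralizer (V : Set G) := by
    by_contra hne
    have hne' : ∀ y ∈ V.map (MulAut.conj h).toMonoidHom,
        y ∈ Subgroup.normalizer (V : Set G) → y ≠ 1 →
        y ∉ Subgroup.centralizer (V : Set G) := by
      intro y hy hyN hy1 hyC
      exact hne ⟨y, hy, hyN, hy1, hyC⟩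
    exact hQ4 y₁ y₂ hn₁ hn₂ (hY2 y₁ hy₁) (hY2 y₂ hy₂) hcomm12
      (hne' y₁ hy₁ hn₁ h1) (hne' y₂ hy₂ hn₂ h2) (hne' _ hy12 hn12 h121) hcond
  obtain ⟨y, hy, hyN, hy1, hyC⟩ := hex
  intro v hv
  have h5 := Subgroup.mem_centralizer_iff.mp hyC v hv
  exact (key y hy hyN hy1 v hv).mp h5.symm

/-- **Coordinate-free dichotomy, one-sided form.**  `V` elementary abelian of order `≥ 8`,
`C_G(u) ≤ N_G(V)` for `u ∈ V#`, `V` a TI-subgroup, and no four-group of `N_G(V)` acting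
faithfully on `V` with a common fixed space (Q4).  Then every conjugate of `V` meeting
`N_G(V)` nontrivially centralizes `V`. -/
theorem di_of_q4_one [Finite G] (V : Subgroup G)
    (hV2 : ∀ v ∈ V, v * v = 1) (hcard : 8 ≤ Nat.card ↥V)
    (H1 : ∀ u ∈ V, u ≠ 1 →
      Subgroup.centralizer ({u} : Set G) ≤ Subgroup.normalizer (V : Set G))
    (H2 : ∀ g : G, V ⊓ V.map (MulAut.conj g).toMonoidHom ≠ ⊥ →
      g ∈ Subgroup.normalizer (V : Set G))
    (hQ4 : ∀ a b : G, a ∈ Subgroup.normalizer (V : Set G) →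
      b ∈ Subgroup.normalizer (V : Set G) → a * a = 1 → b * b = 1 → a * b = b * a →
      a ∉ Subgroup.centralizer (V : Set G) → b ∉ Subgroup.centralizer (V : Set G) →
      a * b ∉ Subgroup.centralizer (V : Set G) →
      ¬ (∀ v ∈ V, (a * v = v * a ↔ b * v = v * b) ∧
        (a * v = v * a ↔ (a * b) * v = v * (a * b))))
    (g : G)
    (hg : V.map (MulAut.conj g).toMonoidHom ⊓ Subgroup.normalizer (V : Set G) ≠ ⊥) :
    V.map (MulAut.conj g).toMonoidHom ≤ Subgroup.centralizer (V : Set G) := by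
  have hcomm := di_comm_of_sq V hV2
  by_cases hgN : g ∈ Subgroup.normalizer (V : Set G)
  · intro y hy
    rw [di_mem_conj_iff] at hy
    have hyV : y ∈ V := by
      have h3 := (Subgroup.mem_normalizer_iff.mp hgN (g⁻¹ * y * g)).mp hy
      have e : g * (g⁻¹ * y * g) * g⁻¹ = y := by group
      rwa [e] at h3
    rw [Subgroup.mem_centralizer_iff]
    intro v hv
    exact hcomm v y hv hyV
  · have hTI : ∀ k : G, k ∉ Subgroup.normalizer (V : Set G) → ∀ x ∈ V,
        x ∈ V.map (MulAut.conj k).toMonoidHom → x = 1 := by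
      intro k hk x hx hx'
      by_contra hx1
      apply hk
      apply H2
      intro hbot
      have h3 : x ∈ V ⊓ V.map (MulAut.conj k).toMonoidHom := ⟨hx, hx'⟩
      rw [hbot] at h3
      exact hx1 (Subgroup.mem_bot.mp h3)
    have hgN' : g⁻¹ ∉ Subgroup.normalizer (V : Set G) := by
      intro hh
      apply hgN
      have h3 := Subgroup.inv_mem _ hh
      rwa [inv_inv] at h3
    obtain ⟨b₀, hb₀, hb₀1⟩ : ∃ b₀ ∈ V.map (MulAut.conj g).toMonoidHom ⊓
        Subgroup.normalizer (V : Set G), b₀ ≠ 1 := by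
      by_contra hne
      apply hg
      rw [eq_bot_iff]
      intro x hx
      rw [Subgroup.mem_bot]
      by_contra hx1
      exact hne ⟨x, hx, hx1⟩
    obtain ⟨hb₀Y, hb₀N⟩ := hb₀
    have hb₀u : g⁻¹ * b₀ * g ∈ V := (di_mem_conj_iff V g b₀).mp hb₀Y
    have hb₀2 : b₀ * b₀ = 1 := by
      have h3 := hV2 _ hb₀u
      have e : b₀ * b₀ = g * ((g⁻¹ * b₀ * g) * (g⁻¹ * b₀ * g)) * g⁻¹ := by group
      rw [e, h3]; group
    obtain ⟨v₁, hv₁, v₂, hv₂, hv₁1, hv₂1, hv12, hc₁, hc₂⟩ :=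
      di_fix_two V hV2 hcard b₀ hb₀N hb₀2
    have hvN : ∀ v : G, b₀ * v = v * b₀ → v ∈ Subgroup.normalizer
        ((V.map (MulAut.conj g).toMonoidHom : Subgroup G) : Set G) := by
      intro v hvb
      rw [di_mem_normalizer_conj_iff]
      have hu1 : g⁻¹ * b₀ * g ≠ 1 := by
        intro hh
        apply hb₀1
        have e : b₀ = g * (g⁻¹ * b₀ * g) * g⁻¹ := by group
        rw [e, hh]; group
      apply H1 _ hb₀u hu1
      rw [Subgroup.mem_centralizer_iff]
      intro x hx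
      rw [Set.mem_singleton_iff.mp hx]
      have e1 : g⁻¹ * b₀ * g * (g⁻¹ * v * g) = g⁻¹ * (b₀ * v) * g := by group
      have e2 : g⁻¹ * v * g * (g⁻¹ * b₀ * g) = g⁻¹ * (v * b₀) * g := by group
      rw [e1, e2, hvb]
    have hw : ∀ v ∈ V, g⁻¹ * v * g ∈ V.map (MulAut.conj g⁻¹).toMonoidHom := by
      intro v hv
      rw [di_mem_conj_iff]
      have e : g⁻¹⁻¹ * (g⁻¹ * v * g) * g⁻¹ = v := by group
      rw [e]; exact hv
    have hwN : ∀ v : G, v ∈ Subgroup.normalizer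
        ((V.map (MulAut.conj g).toMonoidHom : Subgroup G) : Set G) →
        g⁻¹ * v * g ∈ Subgroup.normalizer (V : Set G) :=
      fun v hv => (di_mem_normalizer_conj_iff V g v).mp hv
    have hinj : ∀ v w : G, g⁻¹ * v * g = g⁻¹ * w * g → v = w := by
      intro v w hh
      have e1 : v = g * (g⁻¹ * v * g) * g⁻¹ := by group
      have e2 : w = g * (g⁻¹ * w * g) * g⁻¹ := by group
      rw [e1, e2, hh]
    have hstep2 := di_half V hV2 H1 hQ4 g⁻¹ (hTI g⁻¹ hgN') (g⁻¹ * v₁ * g) (g⁻¹ * v₂ * g)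
      (hw v₁ hv₁) (hw v₂ hv₂) (hwN v₁ (hvN v₁ hc₁)) (hwN v₂ (hvN v₂ hc₂))
      (fun hh => hv₁1 (hinj v₁ 1 (by rw [hh]; group)))
      (fun hh => hv₂1 (hinj v₂ 1 (by rw [hh]; group)))
      (fun hh => hv12 (hinj v₁ v₂ hh))
    have hYN : ∀ y ∈ V.map (MulAut.conj g).toMonoidHom,
        y ∈ Subgroup.normalizer (V : Set G) := by
      intro y hy
      have hu := (di_mem_conj_iff V g y).mp hy
      have h3 := hstep2 _ hu
      rw [di_mem_normalizer_conj_iff] at h3
      have e : g⁻¹⁻¹ * (g⁻¹ * y * g) * g⁻¹ = y := by group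
      rwa [e] at h3
    have hgv : ∀ v ∈ V, g * v * g⁻¹ ∈ V.map (MulAut.conj g).toMonoidHom :=
      fun v hv => ⟨v, hv, rfl⟩
    have hinj' : ∀ v w : G, g * v * g⁻¹ = g * w * g⁻¹ → v = w := by
      intro v w hh
      have e1 : v = g⁻¹ * (g * v * g⁻¹) * g := by group
      have e2 : w = g⁻¹ * (g * w * g⁻¹) * g := by group
      rw [e1, e2, hh]
    have hstep3 := di_half V hV2 H1 hQ4 g (hTI g hgN) (g * v₁ * g⁻¹) (g * v₂ * g⁻¹)
      (hgv v₁ hv₁) (hgv v₂ hv₂) (hYN _ (hgv v₁ hv₁)) (hYN _ (hgv v₂ hv₂))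
      (fun hh => hv₁1 (hinj' v₁ 1 (by rw [hh]; group)))
      (fun hh => hv₂1 (hinj' v₂ 1 (by rw [hh]; group)))
      (fun hh => hv12 (hinj' v₁ v₂ hh))
    intro y hy
    rw [Subgroup.mem_centralizer_iff]
    intro v hv
    have hyN := hYN y hy
    have hvN' := hstep3 v hv
    have hc1 : v * y * v⁻¹ * y⁻¹ ∈ V := by
      have h3 : y * v⁻¹ * y⁻¹ ∈ V :=
        (Subgroup.mem_normalizer_iff.mp hyN v⁻¹).mp (V.inv_mem hv)
      have e : v * y * v⁻¹ * y⁻¹ = v * (y * v⁻¹ * y⁻¹) := by group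
      rw [e]; exact V.mul_mem hv h3
    have hc2 : v * y * v⁻¹ * y⁻¹ ∈ V.map (MulAut.conj g).toMonoidHom := by
      have h3 : v * y * v⁻¹ ∈ V.map (MulAut.conj g).toMonoidHom :=
        (Subgroup.mem_normalizer_iff.mp hvN' y).mp hy
      exact Subgroup.mul_mem _ h3 (Subgroup.inv_mem _ hy)
    have h4 := hTI g hgN _ hc1 hc2
    have e : v * y = (v * y * v⁻¹ * y⁻¹) * (y * v) := by group
    rw [e, h4, one_mul]

/-- **Coordinate-free dichotomy (F1)/(DI), two-sided form**: for all `a b : G`,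
`V^a ∩ N_G(V^b) ≠ 1 → [V^a, V^b] = 1`. -/
theorem di_of_q4 [Finite G] (V : Subgroup G)
    (hV2 : ∀ v ∈ V, v * v = 1) (hcard : 8 ≤ Nat.card ↥V)
    (H1 : ∀ u ∈ V, u ≠ 1 →
      Subgroup.centralizer ({u} : Set G) ≤ Subgroup.normalizer (V : Set G))
    (H2 : ∀ g : G, V ⊓ V.map (MulAut.conj g).toMonoidHom ≠ ⊥ →
      g ∈ Subgroup.normalizer (V : Set G))
    (hQ4 : ∀ a b : G, a ∈ Subgroup.normalizer (V : Set G) →
      b ∈ Subgroup.normalizer (V : Set G) → a * a = 1 → b * b = 1 → a * b = b * a →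
      a ∉ Subgroup.centralizer (V : Set G) → b ∉ Subgroup.centralizer (V : Set G) →
      a * b ∉ Subgroup.centralizer (V : Set G) →
      ¬ (∀ v ∈ V, (a * v = v * a ↔ b * v = v * b) ∧
        (a * v = v * a ↔ (a * b) * v = v * (a * b)))) :
    ∀ a b : G, V.map (MulAut.conj a).toMonoidHom ⊓
        Subgroup.normalizer ((V.map (MulAut.conj b).toMonoidHom : Subgroup G) : Set G) ≠ ⊥ →
      V.map (MulAut.conj a).toMonoidHom ≤
        Subgroup.centralizer ((V.map (MulAut.conj b).toMonoidHom : Subgroup G) : Set G) := by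
  intro a b hab
  have hconv : ∀ x : G, x ∈ V.map (MulAut.conj a).toMonoidHom →
      b⁻¹ * x * b ∈ V.map (MulAut.conj (b⁻¹ * a)).toMonoidHom := by
    intro x hx
    rw [di_mem_conj_iff]
    have h3 := (di_mem_conj_iff V a x).mp hx
    have e : (b⁻¹ * a)⁻¹ * (b⁻¹ * x * b) * (b⁻¹ * a) = a⁻¹ * x * a := by group
    rw [e]; exact h3
  have h1 : V.map (MulAut.conj (b⁻¹ * a)).toMonoidHom ⊓
      Subgroup.normalizer (V : Set G) ≠ ⊥ := by
    intro hbot
    apply hab
    rw [eq_bot_iff]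
    intro x hx
    obtain ⟨hxa, hxb⟩ := hx
    have hx' : b⁻¹ * x * b ∈ V.map (MulAut.conj (b⁻¹ * a)).toMonoidHom ⊓
        Subgroup.normalizer (V : Set G) :=
      ⟨hconv x hxa, (di_mem_normalizer_conj_iff V b x).mp hxb⟩
    rw [hbot] at hx'
    have h3 := Subgroup.mem_bot.mp hx'
    rw [Subgroup.mem_bot]
    have e : x = b * (b⁻¹ * x * b) * b⁻¹ := by group
    rw [e, h3]; group
  have h2 := di_of_q4_one V hV2 hcard H1 H2 hQ4 (b⁻¹ * a) h1
  intro x hx
  rw [Subgroup.mem_centralizer_iff]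
  intro y hy
  have hy' : b⁻¹ * y * b ∈ V := (di_mem_conj_iff V b y).mp hy
  have h3 := Subgroup.mem_centralizer_iff.mp (h2 (hconv x hx)) _ hy'
  have e1 : y * x = b * ((b⁻¹ * y * b) * (b⁻¹ * x * b)) * b⁻¹ := by group
  have e2 : x * y = b * ((b⁻¹ * x * b) * (b⁻¹ * y * b)) * b⁻¹ := by group
  rw [e1, e2, h3]

end

end Cfsg.Agent.H60.Jz

#print axioms Cfsg.Agent.H60.Jz.di_of_q4
#print axioms Cfsg.Agent.H60.Jz.di_fix_two
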