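import Mathlib
import Cfsg.Prelude.Def_JComponents

set_option autoImplicit false

universe u

namespace Cfsg.Agent.H60.Jz

section
variable {G : Type u} [Group G]

/-- Abstract no-fusion lemma: if `C_G(Z) ≤ N_G(S)` (`S` a Sylow 2-subgroup), `|Z| = 2`,
`J` is a 2-group, `K = [K, J]` is generated by its elements of odd order and `K ≠ 1`, then no
conjugate of a nontrivial element centralizing `K` and `J` lies in `Z`. -/
theorem no_fusion_abs [Finite G] (S : Sylow 2 G) (Z K J : Subgroup G)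
    (hZS : Subgroup.centralizer (Z : Set G) ≤ Subgroup.normalizer ((S : Subgroup G) : Set G))
    (hZ2 : Nat.card ↥Z = 2) (hJ : IsPGroup 2 ↥J) (hKJ : ⁅K, J⁆ = K)
    (hKgen : Subgroup.closure {g : G | g ∈ K ∧ Odd (orderOf g)} = K) (hK1 : K ≠ ⊥)
    (g z1 : G) (hz1 : z1 ≠ 1) (hz1K : z1 ∈ Subgroup.centralizer (K : Set G))
    (hz1J : z1 ∈ Subgroup.centralizer (J : Set G)) : g * z1 * g⁻¹ ∉ Z := by
  intro hzZ
  have hz1' : g * z1 * g⁻¹ ≠ 1 := by
    intro hh
    apply hz1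
    have e : z1 = g⁻¹ * (g * z1 * g⁻¹) * g := by group
    rw [e, hh]; group
  -- every element of Z is 1 or z
  obtain ⟨w, hw, hwu⟩ := (Nat.card_eq_two_iff' (1 : ↥Z)).mp hZ2
  have hZel : ∀ a ∈ Z, a = 1 ∨ a = g * z1 * g⁻¹ := by
    intro a ha
    by_cases ha1 : a = 1
    · exact Or.inl ha1
    · right
      have h1 : (⟨a, ha⟩ : ↥Z) = w := hwu _ (fun hh => ha1 (congrArg Subtype.val hh))
      have h2 : (⟨g * z1 * g⁻¹, hzZ⟩ : ↥Z) = w :=
        hwu _ (fun hh => hz1' (congrArg Subtype.val hh))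
      have h3 : (⟨a, ha⟩ : ↥Z) = ⟨g * z1 * g⁻¹, hzZ⟩ := h1.trans h2.symm
      exact congrArg Subtype.val h3
  -- elements commuting with z normalize S
  have hcN : ∀ c : G, c * (g * z1 * g⁻¹) = (g * z1 * g⁻¹) * c →
      c ∈ Subgroup.normalizer ((S : Subgroup G) : Set G) := by
    intro c hc
    apply hZS
    rw [Subgroup.mem_centralizer_iff]
    intro a ha
    rcases hZel a ha with h | h
    · rw [h, one_mul, mul_one]
    · rw [h]; exact hc.symm
  -- conjugates of elements commuting with z1 commute with z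
  have hconj : ∀ k : G, z1 * k = k * z1 →
      g * k * g⁻¹ ∈ Subgroup.normalizer ((S : Subgroup G) : Set G) := by
    intro k hk
    apply hcN
    have e1 : g * k * g⁻¹ * (g * z1 * g⁻¹) = g * (k * z1) * g⁻¹ := by group
    have e2 : g * z1 * g⁻¹ * (g * k * g⁻¹) = g * (z1 * k) * g⁻¹ := by group
    rw [e1, e2, hk]
  have hKN : K.map (MulAut.conj g).toMonoidHom ≤
      Subgroup.normalizer ((S : Subgroup G) : Set G) := by
    rintro _ ⟨k, hk, rfl⟩
    exact hconj k (Subgroup.mem_centralizer_iff.mp hz1K k hk).symm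
  have hJN : J.map (MulAut.conj g).toMonoidHom ≤
      Subgroup.normalizer ((S : Subgroup G) : Set G) := by
    rintro _ ⟨k, hk, rfl⟩
    exact hconj k (Subgroup.mem_centralizer_iff.mp hz1J k hk).symm
  -- J^g ≤ S
  have hJ' : IsPGroup 2 ↥(J.map (MulAut.conj g).toMonoidHom) := hJ.map _
  have hJS : J.map (MulAut.conj g).toMonoidHom ≤ (S : Subgroup G) := by
    have h1 := hJ'.inf_normalizer_sylow S
    intro x hx
    have hx2 : x ∈ J.map (MulAut.conj g).toMonoidHom ⊓ Subgroup.normalizer (S : Set G) :=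
      ⟨hx, hJN hx⟩
    rw [h1] at hx2
    exact hx2.2
  -- K^g = [K^g, J^g] ≤ S
  have hKS : K.map (MulAut.conj g).toMonoidHom ≤ (S : Subgroup G) := by
    have h1 : K.map (MulAut.conj g).toMonoidHom =
        ⁅K.map (MulAut.conj g).toMonoidHom, J.map (MulAut.conj g).toMonoidHom⁆ := by
      rw [← Subgroup.map_commutator, hKJ]
    rw [h1, Subgroup.commutator_le]
    intro a ha b hb
    have haN := hKN ha
    have hbS := hJS hb
    have h2 : a * b * a⁻¹ ∈ (S : Subgroup G) := (Subgroup.mem_normalizer_iff.mp haN b).mp hbS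
    rw [commutatorElement_def]
    exact Subgroup.mul_mem _ h2 (Subgroup.inv_mem _ hbS)
  -- K is a 2-group
  have hK2 : IsPGroup 2 ↥(K.map (MulAut.conj g).toMonoidHom) := S.isPGroup'.to_le hKS
  have hKbot : K = ⊥ := by
    rw [← hKgen, Subgroup.closure_eq_bot_iff]
    rintro k ⟨hk, hodd⟩
    rw [Set.mem_singleton_iff]
    have hmem : g * k * g⁻¹ ∈ K.map (MulAut.conj g).toMonoidHom := ⟨k, hk, rfl⟩
    obtain ⟨n, hn⟩ := hK2 ⟨g * k * g⁻¹, hmem⟩
    have h3 : (g * k * g⁻¹) ^ 2 ^ n = 1 := by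
      have h := congrArg Subtype.val hn
      rw [Subgroup.coe_pow, Subgroup.coe_one] at h
      exact h
    have h4 : k ^ 2 ^ n = 1 := by
      have e : (g * k * g⁻¹) ^ 2 ^ n = g * k ^ 2 ^ n * g⁻¹ := by
        rw [conj_pow]
      rw [e] at h3
      have e2 : k ^ 2 ^ n = g⁻¹ * (g * k ^ 2 ^ n * g⁻¹) * g := by group
      rw [e2, h3]; group
    have h5 : orderOf k ∣ 2 ^ n := orderOf_dvd_of_pow_eq_one h4
    have h6 : orderOf k = 1 := by
      obtain ⟨m, -, hm⟩ := (Nat.dvd_prime_pow Nat.prime_two).mp h5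
      rcases Nat.eq_zero_or_pos m with h0 | hpos
      · rw [hm, h0, pow_zero]
      · exfalso
        have heven : Even (orderOf k) := by
          rw [hm]
          exact (Nat.even_pow' hpos.ne').mpr even_two
        exact (Nat.not_even_iff_odd.mpr hodd) heven
    exact orderOf_eq_one_iff.mp h6
  exact hK1 hKbot

/-- **No fusion (G-level)**: in the setting of S2951 with `|Ω₁Z(S)| = 2`, no conjugate of a
nontrivial element of `C_G(⟨K, J(T)⟩)` lies in `Ω₁Z(S)` (`K` a `J(T)`-component). -/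
theorem no_fusion [Finite G]
    (hZ : ∀ S : Sylow 2 G, Subgroup.centralizer (Cfsg.omegaCenterOf (S : Subgroup G) : Set G) ≤
      Subgroup.normalizer ((S : Subgroup G) : Set G))
    (S : Sylow 2 G) (T K : Subgroup G) (hT : IsPGroup 2 ↥T) (hK : Cfsg.IsJComponent T K)
    (hZ2 : Nat.card ↥(Cfsg.omegaCenterOf (S : Subgroup G)) = 2)
    (g z1 : G) (hz1 : z1 ≠ 1)
    (hz1C : z1 ∈ Subgroup.centralizer ((K ⊔ Cfsg.thompsonSubgroupOf 2 T : Subgroup G) : Set G)) :
    g * z1 * g⁻¹ ∉ Cfsg.omegaCenterOf (S : Subgroup G) := by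
  obtain ⟨hgen, hcomm, hidx, -, -, -⟩ := hK
  have hJT : Cfsg.thompsonSubgroupOf 2 T ≤ T := by
    unfold Cfsg.thompsonSubgroupOf
    exact Subgroup.map_subtype_le _
  have hJ : IsPGroup 2 ↥(Cfsg.thompsonSubgroupOf 2 T) := hT.to_le hJT
  have hK1 : K ≠ ⊥ := by
    intro hh
    rw [hh, Subgroup.relIndex_bot_right] at hidx
    omega
  have hz1K : z1 ∈ Subgroup.centralizer (K : Set G) :=
    Subgroup.centralizer_le (by exact_mod_cast (le_sup_left : K ≤ K ⊔ Cfsg.thompsonSubgroupOf 2 T)) hz1C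
  have hz1J : z1 ∈ Subgroup.centralizer (Cfsg.thompsonSubgroupOf 2 T : Set G) :=
    Subgroup.centralizer_le (by exact_mod_cast
      (le_sup_right : Cfsg.thompsonSubgroupOf 2 T ≤ K ⊔ Cfsg.thompsonSubgroupOf 2 T)) hz1C
  exact no_fusion_abs S _ K _ (hZ S) hZ2 hJ hcomm hgen hK1 g z1 hz1 hz1K hz1J

end

end Cfsg.Agent.H60.Jz

#print axioms Cfsg.Agent.H60.Jz.no_fusion
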