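import Mathlib
import Cfsg.Agent.H91.L34Defs

/-!
# helper60: piece CFG of S5387 -- `PSL₃(4)` has the 2-local configuration

`E₁`, `E₂` are the images in `PSL₃(F)` of the two elementary abelian subgroups `p = 0`, `s = 0`
of the Heisenberg group `Heis F` (model of `Cfsg.Agent.H60.L34Syl`).
-/

set_option autoImplicit false

namespace Cfsg.Agent.H60.L34

open Cfsg.Agent.H60 Cfsg.Agent.H91.L34

open scoped commutatorElement

universe u

section

variable {F : Type*} [Field F]

@[simp] theorem inv_p (g : Heis F) : (g⁻¹).p = -g.p := rfl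
@[simp] theorem inv_s (g : Heis F) : (g⁻¹).s = -g.s := rfl
@[simp] theorem inv_r (g : Heis F) : (g⁻¹).r = -g.r + g.p * g.s := rfl

/-- The subgroup `p = 0` of the Heisenberg group. -/
def sgA (F : Type*) [Field F] : Subgroup (Heis F) where
  carrier := {g | g.p = 0}
  mul_mem' := by
    intro a b ha hb
    have ha' : a.p = 0 := ha
    have hb' : b.p = 0 := hb
    show (a * b).p = 0
    rw [Heis.mul_p, ha', hb', add_zero]
  one_mem' := rfl
  inv_mem' := by
    intro a ha
    have ha' : a.p = 0 := ha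
    show (a⁻¹).p = 0
    rw [inv_p, ha', neg_zero]

/-- The subgroup `s = 0` of the Heisenberg group. -/
def sgB (F : Type*) [Field F] : Subgroup (Heis F) where
  carrier := {g | g.s = 0}
  mul_mem' := by
    intro a b ha hb
    have ha' : a.s = 0 := ha
    have hb' : b.s = 0 := hb
    show (a * b).s = 0
    rw [Heis.mul_s, ha', hb', add_zero]
  one_mem' := rfl
  inv_mem' := by
    intro a ha
    have ha' : a.s = 0 := ha
    show (a⁻¹).s = 0
    rw [inv_s, ha', neg_zero]

theorem mem_sgA {g : Heis F} : g ∈ sgA F ↔ g.p = 0 := Iff.rfl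

theorem mem_sgB {g : Heis F} : g ∈ sgB F ↔ g.s = 0 := Iff.rfl

theorem mk_mem_sgA (s r : F) : (⟨0, s, r⟩ : Heis F) ∈ sgA F := mem_sgA.mpr rfl

theorem mk_mem_sgB (p r : F) : (⟨p, 0, r⟩ : Heis F) ∈ sgB F := mem_sgB.mpr rfl

theorem sgA_normal : (sgA F).Normal := ⟨fun a ha g => by
  have ha' : a.p = 0 := ha
  show (g * a * g⁻¹).p = 0
  rw [Heis.mul_p, Heis.mul_p, inv_p, ha']
  ring⟩

theorem sgB_normal : (sgB F).Normal := ⟨fun a ha g => by
  have ha' : a.s = 0 := ha
  show (g * a * g⁻¹).s = 0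
  rw [Heis.mul_s, Heis.mul_s, inv_s, ha']
  ring⟩

theorem sgA_sup_sgB : sgA F ⊔ sgB F = ⊤ := by
  rw [eq_top_iff]
  intro g _
  have hdec : (⟨g.p, 0, 0⟩ : Heis F) * ⟨0, g.s, g.r - g.p * g.s⟩ = g := by
    apply Heis.ext <;> simp
  have h := Subgroup.mul_mem_sup (mk_mem_sgB g.p 0) (mk_mem_sgA g.s (g.r - g.p * g.s))
  rw [hdec, sup_comm] at h
  exact h

theorem psl_ne_one_of_p {g : Heis F} (h : g.p ≠ 0) : heisPSL g ≠ 1 := by
  intro e
  have hg : g = 1 := heisPSL_injective (e.trans (map_one _).symm)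
  exact h (by rw [hg, Heis.one_p])

theorem psl_ne_one_of_s {g : Heis F} (h : g.s ≠ 0) : heisPSL g ≠ 1 := by
  intro e
  have hg : g = 1 := heisPSL_injective (e.trans (map_one _).symm)
  exact h (by rw [hg, Heis.one_s])

theorem psl_ne_one_of_r {g : Heis F} (h : g.r ≠ 0) : heisPSL g ≠ 1 := by
  intro e
  have hg : g = 1 := heisPSL_injective (e.trans (map_one _).symm)
  exact h (by rw [hg, Heis.one_r])

theorem sq_of_p (h2 : (2 : F) = 0) (g : Heis F) (hg : g.p = 0) : g * g = 1 := by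
  apply Heis.ext
  · rw [Heis.mul_p, hg, add_zero, Heis.one_p]
  · rw [Heis.mul_s, ← two_mul, h2, zero_mul, Heis.one_s]
  · rw [Heis.mul_r, hg, zero_mul, add_zero, ← two_mul, h2, zero_mul, Heis.one_r]

theorem sq_of_s (h2 : (2 : F) = 0) (g : Heis F) (hg : g.s = 0) : g * g = 1 := by
  apply Heis.ext
  · rw [Heis.mul_p, ← two_mul, h2, zero_mul, Heis.one_p]
  · rw [Heis.mul_s, hg, add_zero, Heis.one_s]
  · rw [Heis.mul_r, hg, mul_zero, add_zero, ← two_mul, h2, zero_mul, Heis.one_r]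

theorem two_eq_zero_of_card [Fintype F] (hF : Fintype.card F = 4) : (2 : F) = 0 := by
  have h22 : (2 : F) * 2 = 0 := by
    have h := card_nsmul_eq_zero (G := F) (x := (1 : F))
    rw [hF] at h
    have h4 : (4 : F) = 0 := by simpa using h
    rw [← h4]
    norm_num
  exact mul_self_eq_zero.mp h22

theorem f4_exists [Fintype F] (hF : Fintype.card F = 4) : ∃ ω : F, ω ≠ 0 ∧ ω ≠ 1 := by
  classical
  by_contra hcon
  push Not at hcon
  have hsub : (Finset.univ : Finset F) ⊆ {0, 1} := by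
    intro x _
    by_cases hx : x = 0
    · simp [hx]
    · simp [hcon x hx]
  have hle := Finset.card_le_card hsub
  rw [Finset.card_univ, hF] at hle
  have h2 : ({0, 1} : Finset F).card ≤ 2 := Finset.card_le_two
  omega

theorem f4_elems [Fintype F] (hF : Fintype.card F = 4) (ω : F) (h0 : ω ≠ 0) (h1 : ω ≠ 1)
    (s : F) : s = 0 ∨ s = 1 ∨ s = ω ∨ s = 1 + ω := by
  classical
  have h2 : (2 : F) = 0 := two_eq_zero_of_card hF
  have h11 : (1 : F) + 1 = 0 := one_add_one_eq_two.trans h2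
  have hω : (1 : F) + ω ≠ 0 := fun h => h1 (add_left_cancel (h.trans h11.symm))
  have hs : ({0, 1, ω, 1 + ω} : Finset F) = Finset.univ := by
    apply Finset.eq_univ_of_card
    rw [hF, Finset.card_insert_of_notMem, Finset.card_insert_of_notMem,
      Finset.card_insert_of_notMem, Finset.card_singleton]
    · simp
    · simp only [Finset.mem_insert, Finset.mem_singleton, not_or]
      refine ⟨fun h => h1 h.symm, fun h => h0 ?_⟩
      have : (1 : F) + 0 = 1 + ω := by rw [add_zero]; exact h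
      exact (add_left_cancel this).symm
    · simp only [Finset.mem_insert, Finset.mem_singleton, not_or]
      exact ⟨zero_ne_one, fun h => h0 h.symm, fun h => hω h.symm⟩
  have hmem : s ∈ ({0, 1, ω, 1 + ω} : Finset F) := by rw [hs]; exact Finset.mem_univ s
  simpa using hmem

end

/-- Piece CFG of S5387: `PSL₃(4)` has the 2-local configuration `Cfg`, given the fusion of the
involutions of the two elementary abelian subgroups and the odd index of the unitriangular
group. -/
theorem cfg (h1 : Fus1Stmt.{u}) (h2 : Fus2Stmt.{u}) (h3 : IdxStmt.{u}) : CfgStmt.{u} := by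
  intro F _ _ hF
  classical
  have h2F : (2 : F) = 0 := two_eq_zero_of_card hF
  have h11 : (1 : F) + 1 = 0 := one_add_one_eq_two.trans h2F
  obtain ⟨ω, hω0, hω1⟩ := f4_exists hF
  have hω : (1 : F) + ω ≠ 0 := fun h => hω1 (add_left_cancel (h.trans h11.symm))
  have hsup : (sgA F).map heisPSL ⊔ (sgB F).map heisPSL = (heisPSL (F := F)).range := by
    rw [← Subgroup.map_sup, sgA_sup_sgB, MonoidHom.range_eq_map]
  refine ⟨(sgA F).map heisPSL, (sgB F).map heisPSL, heisPSL ⟨0, 1, 0⟩, heisPSL ⟨0, ω, 0⟩,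
    heisPSL ⟨1, 0, 0⟩, heisPSL ⟨ω, 0, 0⟩, ?_, ?_, ?_, ?_, ?_, ?_, ?_, ?_, ?_, ?_, ?_, ?_, ?_, ?_,
    ?_, ?_⟩
  · rintro _ ⟨g, hg, rfl⟩
    rw [← map_mul, sq_of_p h2F g hg, map_one]
  · rintro _ ⟨g, hg, rfl⟩
    rw [← map_mul, sq_of_s h2F g hg, map_one]
  · rintro _ ⟨g, hg, rfl⟩ _ ⟨g', hg', rfl⟩ hx hy
    exact h1 g g' hg hg' (fun h => hx (by rw [h, map_one])) (fun h => hy (by rw [h, map_one]))
  · rintro _ ⟨g, hg, rfl⟩ _ ⟨g', hg', rfl⟩ hx hy
    exact h2 g g' hg hg' (fun h => hx (by rw [h, map_one])) (fun h => hy (by rw [h, map_one]))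
  · refine ⟨heisPSL ⟨0, 1, 0⟩, Subgroup.mem_map_of_mem _ (mk_mem_sgA _ _),
      heisPSL ⟨0, ω, 0⟩, Subgroup.mem_map_of_mem _ (mk_mem_sgA _ _),
      heisPSL ⟨0, 0, 1⟩, Subgroup.mem_map_of_mem _ (mk_mem_sgA _ _), ?_, ?_, ?_, ?_, ?_, ?_, ?_⟩
    · exact psl_ne_one_of_s (by simp)
    · exact psl_ne_one_of_s (by simpa using hω0)
    · exact psl_ne_one_of_r (by simp)
    · rw [← map_mul]
      exact psl_ne_one_of_s (by simpa using hω)
    · rw [← map_mul]
      exact psl_ne_one_of_s (by simp)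
    · rw [← map_mul]
      exact psl_ne_one_of_s (by simpa using hω0)
    · rw [← map_mul, ← map_mul]
      exact psl_ne_one_of_s (by simpa using hω)
  · refine ⟨heisPSL ⟨1, 0, 0⟩, Subgroup.mem_map_of_mem _ (mk_mem_sgB _ _),
      heisPSL ⟨ω, 0, 0⟩, Subgroup.mem_map_of_mem _ (mk_mem_sgB _ _),
      heisPSL ⟨0, 0, 1⟩, Subgroup.mem_map_of_mem _ (mk_mem_sgB _ _), ?_, ?_, ?_, ?_, ?_, ?_, ?_⟩
    · exact psl_ne_one_of_p (by simp)
    · exact psl_ne_one_of_p (by simpa using hω0)
    · exact psl_ne_one_of_r (by simp)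
    · rw [← map_mul]
      exact psl_ne_one_of_p (by simpa using hω)
    · rw [← map_mul]
      exact psl_ne_one_of_p (by simp)
    · rw [← map_mul]
      exact psl_ne_one_of_p (by simpa using hω0)
    · rw [← map_mul, ← map_mul]
      exact psl_ne_one_of_p (by simpa using hω)
  · rintro _ ⟨g, hg, rfl⟩ _ ⟨g', hg', rfl⟩
    rw [← map_inv, ← map_mul, ← map_mul]
    exact Subgroup.mem_map_of_mem _ (sgB_normal.conj_mem g' hg' g)
  · rintro _ ⟨g, hg, rfl⟩ _ ⟨g', hg', rfl⟩
    rw [← map_inv, ← map_mul, ← map_mul]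
    exact Subgroup.mem_map_of_mem _ (sgA_normal.conj_mem g' hg' g)
  · exact Subgroup.mem_map_of_mem _ (mk_mem_sgA _ _)
  · exact Subgroup.mem_map_of_mem _ (mk_mem_sgA _ _)
  · exact Subgroup.mem_map_of_mem _ (mk_mem_sgB _ _)
  · exact Subgroup.mem_map_of_mem _ (mk_mem_sgB _ _)
  · rintro _ ⟨g, hg, rfl⟩
    have hg' : g.p = 0 := hg
    have hx : heisPSL g = heisPSL ⟨0, g.s, 0⟩ * heisPSL ⟨0, 0, g.r⟩ := by
      rw [← map_mul]
      congr 1
      apply Heis.ext <;> simp [hg']
    rw [hx]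
    refine Subgroup.mul_mem_sup ?_ ⟨Subgroup.mem_map_of_mem _ (mk_mem_sgA _ _),
      Subgroup.mem_map_of_mem _ (mk_mem_sgB _ _)⟩
    rcases f4_elems hF ω hω0 hω1 g.s with h | h | h | h
    · rw [h]
      have h1' : (⟨0, 0, 0⟩ : Heis F) = 1 := rfl
      rw [h1', map_one]
      exact Subgroup.one_mem _
    · rw [h]
      exact Subgroup.subset_closure (by simp)
    · rw [h]
      exact Subgroup.subset_closure (by simp)
    · rw [h]
      have h1' : (⟨0, 1 + ω, 0⟩ : Heis F) = ⟨0, 1, 0⟩ * ⟨0, ω, 0⟩ := by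
        apply Heis.ext <;> simp
      rw [h1', map_mul]
      exact Subgroup.mul_mem _ (Subgroup.subset_closure (by simp))
        (Subgroup.subset_closure (by simp))
  · rintro _ ⟨g, hg, rfl⟩
    have hg' : g.s = 0 := hg
    have hx : heisPSL g = heisPSL ⟨g.p, 0, 0⟩ * heisPSL ⟨0, 0, g.r⟩ := by
      rw [← map_mul]
      congr 1
      apply Heis.ext <;> simp [hg']
    rw [hx]
    refine Subgroup.mul_mem_sup ?_ ⟨Subgroup.mem_map_of_mem _ (mk_mem_sgA _ _),
      Subgroup.mem_map_of_mem _ (mk_mem_sgB _ _)⟩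
    rcases f4_elems hF ω hω0 hω1 g.p with h | h | h | h
    · rw [h]
      have h1' : (⟨0, 0, 0⟩ : Heis F) = 1 := rfl
      rw [h1', map_one]
      exact Subgroup.one_mem _
    · rw [h]
      exact Subgroup.subset_closure (by simp)
    · rw [h]
      exact Subgroup.subset_closure (by simp)
    · rw [h]
      have h1' : (⟨1 + ω, 0, 0⟩ : Heis F) = ⟨1, 0, 0⟩ * ⟨ω, 0, 0⟩ := by
        apply Heis.ext <;> simp
      rw [h1', map_mul]
      exact Subgroup.mul_mem _ (Subgroup.subset_closure (by simp))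
        (Subgroup.subset_closure (by simp))
  · rw [hsup]
    exact h3 hF
  · rw [hsup]
    have hfinSL : Finite (Matrix.SpecialLinearGroup (Fin 3) F) :=
      Finite.of_injective (fun A : Matrix.SpecialLinearGroup (Fin 3) F => A.1)
        Subtype.val_injective
    have hfinPSL : Finite (Matrix.ProjectiveSpecialLinearGroup (Fin 3) F) :=
      Finite.of_surjective (QuotientGroup.mk' _) (QuotientGroup.mk'_surjective _)
    have hψ : Function.Injective (heisPSL (F := F)).rangeRestrict := by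
      rw [MonoidHom.rangeRestrict_injective_iff]
      exact heisPSL_injective
    have hcomm : ∀ r : F, (heisPSL (F := F)).rangeRestrict ⟨0, 0, r⟩
        ∈ commutator ↥(heisPSL (F := F)).range := by
      intro r
      have hr : (⟨0, 0, r⟩ : Heis F) = ⁅(⟨r, 0, 0⟩ : Heis F), ⟨0, 1, 0⟩⁆ := by
        rw [commutatorElement_def]
        apply Heis.ext <;> simp
      rw [hr, map_commutatorElement, commutator_def]
      exact Subgroup.commutator_mem_commutator (Subgroup.mem_top _) (Subgroup.mem_top _)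
    have hinj : Function.Injective (fun r : F =>
        (⟨(heisPSL (F := F)).rangeRestrict ⟨0, 0, r⟩, hcomm r⟩ :
          ↥(commutator ↥(heisPSL (F := F)).range))) := by
      intro r r' h
      have h' : (heisPSL (F := F)).rangeRestrict ⟨0, 0, r⟩
          = (heisPSL (F := F)).rangeRestrict ⟨0, 0, r'⟩ := congrArg Subtype.val h
      exact congrArg Heis.r (hψ h')
    have hle := Nat.card_le_card_of_injective _ hinj
    rwa [Nat.card_eq_fintype_card, hF] at hle

end Cfsg.Agent.H60.L34
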