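import Mathlib
import Cfsg.Agent.H95.OhDefs
import Cfsg.Agent.H60.OtTrick

/-!
# S5992 / S5993 team project (helper95): piece S5992-TRICK2 (helper60)

The form trick with the nondegeneracy clause: an invariant subspace of the non-fixed part is
nondegenerate for `A` iff its image is nondegenerate for `B`.
-/

set_option autoImplicit false

namespace Cfsg.Agent.H60.Oh

open Cfsg.Agent.H45 Cfsg.Agent.H42.Spd Cfsg.Agent.H42.Ti Cfsg.Agent.H14.Ot Cfsg.Agent.H95.Oh
  Cfsg.Agent.H60.Ot Module

universe u v

/-- S5992-TRICK2. -/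
theorem trick2 (hS : StOSplit.{u, v}) : StTrick2.{u, v} := by
  intro F _ _ V _ _ _ r B T hO
  obtain ⟨hKU, hKUtop, -⟩ := hS F V r T hO.cast_ne hO.pow
  have hr1 : 1 ≤ r := hO.prime.one_lt.le
  have hodd : Odd r := hO.prime.odd_of_ne_two hO.ne_two
  have hUinv : ∀ x ∈ LinearMap.range (T - 1), T x ∈ LinearMap.range (T - 1) := by
    rintro x ⟨y, rfl⟩
    refine ⟨T y, ?_⟩
    simp only [LinearMap.sub_apply, Module.End.one_apply, map_sub]
  let T' : Module.End F ↥(LinearMap.range (T - 1)) := T.restrict hUinv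
  let ι : ↥(LinearMap.range (T - 1)) →ₗ[F] V := (LinearMap.range (T - 1)).subtype
  have hιT : ∀ x : ↥(LinearMap.range (T - 1)), ι (T' x) = T (ι x) := fun x => rfl
  have hιTpow : ∀ (k : ℕ) (x : ↥(LinearMap.range (T - 1))), ι ((T' ^ k) x) = (T ^ k) (ι x) := by
    intro k
    induction k with
    | zero => intro x; simp
    | succ k ih =>
      intro x
      rw [pow_succ', pow_succ', Module.End.mul_apply, Module.End.mul_apply, hιT, ih]
  have hιinj : Function.Injective ι := (LinearMap.range (T - 1)).injective_subtype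
  have hT'pow : T' ^ r = 1 := by
    apply LinearMap.ext
    intro x
    apply hιinj
    rw [hιTpow, hO.pow]
    rfl
  let B' : ↥(LinearMap.range (T - 1)) →ₗ[F] ↥(LinearMap.range (T - 1)) →ₗ[F] F := B.compl₁₂ ι ι
  have hB' : ∀ x y, B' x y = B (ι x) (ι y) := fun x y => rfl
  have hB'symm : ∀ x y, B' x y = B' y x := fun x y => hO.symm _ _
  have hB'isom : ∀ x y, B' (T' x) (T' y) = B' x y := fun x y => hO.isom _ _
  have hUK : ∀ x : ↥(LinearMap.range (T - 1)), ∀ k ∈ LinearMap.ker (T - 1), B (ι x) k = 0 := by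
    rintro ⟨_, ⟨y, rfl⟩⟩ k hk
    have hk' : T k = k := by
      rw [LinearMap.mem_ker, LinearMap.sub_apply, Module.End.one_apply] at hk
      exact sub_eq_zero.mp hk
    show B ((T - 1) y) k = 0
    rw [LinearMap.sub_apply, Module.End.one_apply, map_sub, LinearMap.sub_apply]
    nth_rewrite 1 [← hk']
    rw [hO.isom, sub_self]
  have hB'nd : ∀ x : ↥(LinearMap.range (T - 1)), (∀ y, B' x y = 0) → x = 0 := by
    intro x hx
    apply hιinj
    rw [map_zero]
    apply hO.nondeg
    intro v
    have hv : v ∈ LinearMap.ker (T - 1) ⊔ LinearMap.range (T - 1) := by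
      rw [hKUtop]
      trivial
    obtain ⟨k, hk, u, hu, rfl⟩ := Submodule.mem_sup.mp hv
    rw [map_add, hUK x k hk, zero_add]
    exact hx ⟨u, hu⟩
  have hker' : LinearMap.ker (T' - 1) = ⊥ := by
    rw [eq_bot_iff]
    intro x hx
    rw [LinearMap.mem_ker, LinearMap.sub_apply, Module.End.one_apply] at hx
    have hx' : T (ι x) = ι x := by
      rw [← hιT]
      exact congrArg ι (sub_eq_zero.mp hx)
    have hmem : ι x ∈ LinearMap.ker (T - 1) ⊓ LinearMap.range (T - 1) := by
      refine ⟨?_, x.2⟩
      rw [SetLike.mem_coe, LinearMap.mem_ker, LinearMap.sub_apply, Module.End.one_apply, hx',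
        sub_self]
    rw [hKU] at hmem
    rw [Submodule.mem_bot]
    apply hιinj
    rw [map_zero]
    exact (Submodule.mem_bot F).mp hmem
  let h' : Module.End F ↥(LinearMap.range (T - 1)) := T' - T' ^ (r - 1)
  let A : ↥(LinearMap.range (T - 1)) →ₗ[F] ↥(LinearMap.range (T - 1)) →ₗ[F] F := B'.compl₂ h'
  have hA : ∀ x y, A x y = B' x (h' y) := fun x y => rfl
  have hherm : ∀ x y, A y x = - A x y :=
    fun x y => trick_herm B' T' r hr1 hB'symm hB'isom hT'pow x y
  have hinj : ∀ x, h' x = 0 → x = 0 := fun x hx => trick_inj T' r hodd hT'pow hker' x hx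
  have hcomm : ∀ y, h' (T' y) = T' (h' y) := by
    intro y
    have hc : h' * T' = T' * h' := by
      show (T' - T' ^ (r - 1)) * T' = T' * (T' - T' ^ (r - 1))
      rw [sub_mul, mul_sub, ← pow_succ, ← pow_succ']
    exact congrArg (fun f : Module.End F ↥(LinearMap.range (T - 1)) => f y) hc
  refine ⟨↥(LinearMap.range (T - 1)), inferInstance, inferInstance, inferInstance, A, T', ι,
    ?_, hιinj, hιT, ?_, hker', ?_⟩
  · refine ⟨hO.prime, hO.ne_two, hO.cast_ne, ⟨?_, ?_, ?_, ?_, ?_⟩, hT'pow⟩
    · intro x y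
      rw [RingHom.id_apply, hherm x y]
      ring
    · intro x hx
      apply hinj
      apply hB'nd
      intro y
      rw [hB'symm]
      have h1 := hherm x y
      rw [hx y, neg_zero] at h1
      exact h1
    · intro _ x
      have h1 := hherm x x
      have h2 : (2 : F) * A x x = 0 := by linear_combination h1
      exact (mul_eq_zero.mp h2).resolve_left hO.two_ne
    · intro x y
      rw [hA, hcomm, hB'isom]
      rfl
    · have : CharP F (ringChar F) := ringChar.charP F
      refine isSemisimple_of_pow_eq_one (ringChar F) T' r ?_ hT'pow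
      intro hdvd
      exact hO.cast_ne ((ringChar.spec F r).mpr hdvd)
  · exact Submodule.range_subtype _
  · intro W' hW'
    have hW'T : ∀ v ∈ W', T' v ∈ W' := fun v hv => hW' hv
    have hW'pow : ∀ (k : ℕ), ∀ v ∈ W', (T' ^ k) v ∈ W' := by
      intro k
      induction k with
      | zero => intro v hv; simpa using hv
      | succ k ih =>
        intro v hv
        rw [pow_succ', Module.End.mul_apply]
        exact hW'T _ (ih v hv)
    have hW'h : ∀ v ∈ W', h' v ∈ W' := by
      intro v hv
      show (T' - T' ^ (r - 1)) v ∈ W'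
      rw [LinearMap.sub_apply]
      exact W'.sub_mem (hW'T v hv) (hW'pow _ v hv)
    have hsurj : ∀ v ∈ W', ∃ v' ∈ W', h' v' = v := by
      intro v hv
      let hr' : ↥W' →ₗ[F] ↥W' := h'.restrict hW'h
      have hrinj : Function.Injective hr' := by
        rw [← LinearMap.ker_eq_bot, LinearMap.ker_eq_bot']
        intro z hz
        have hz' : h' (z : ↥(LinearMap.range (T - 1))) = 0 := congrArg Subtype.val hz
        exact Subtype.ext (hinj _ hz')
      obtain ⟨v', hv'⟩ := (LinearMap.injective_iff_surjective.mp hrinj) ⟨v, hv⟩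
      exact ⟨v', v'.2, congrArg Subtype.val hv'⟩
    constructor
    · intro hnd
      rw [eq_bot_iff]
      rintro z ⟨hz1, hz2⟩
      obtain ⟨y', hy', rfl⟩ := hz1
      obtain ⟨y, hy, rfl⟩ := hsurj y' hy'
      have hmem : y ∈ W' ⊓ perp A W' := by
        refine ⟨hy, ?_⟩
        intro u hu
        exact hz2 (ι u) (Submodule.mem_map_of_mem hu)
      rw [hnd] at hmem
      rw [(Submodule.mem_bot F).mp hmem, map_zero, map_zero]
      exact Submodule.zero_mem _
    · intro hnd
      rw [eq_bot_iff]
      rintro y ⟨hy1, hy2⟩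
      have hmem : ι (h' y) ∈ W'.map ι ⊓ perp B (W'.map ι) := by
        refine ⟨Submodule.mem_map_of_mem (hW'h y hy1), ?_⟩
        rintro _ ⟨u, hu, rfl⟩
        exact hy2 u hu
      rw [hnd] at hmem
      have h0 : h' y = 0 := by
        apply hιinj
        rw [map_zero]
        exact (Submodule.mem_bot F).mp hmem
      rw [Submodule.mem_bot]
      exact hinj y h0

example : Cfsg.Agent.H14.Ot.StOSplit.{u, v} → Cfsg.Agent.H95.Oh.StTrick2.{u, v} := trick2

end Cfsg.Agent.H60.Oh
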