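import Mathlib

set_option autoImplicit false

universe u

namespace Cfsg.Agent.H60.R1

/-- **(R1)-kill, case B** (`V ⊄ C_S(W)`), abstract form.  `z` central in `S`, `v` with
`s v s⁻¹ ∈ {v, z v}` for `s ∈ S` (i.e. `V = {1, z, v, z v}` normal in `S`), `W` a four-group
with `T = N_S(W)`, `k` acting fixed-point-freely on `W` and normalizing `C_T(W)`,
`x ∈ N_S(T) ∖ T`, some element of `W` moving `v`; and: for `c ∈ Ω₁Z(T) ∖ ⟨z⟩`, `d ∈ W ∖ ⟨z⟩` the
product `c d` is not conjugate to `z`.  Contradiction. -/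
theorem killB {G : Type u} [Group G] (S T W : Subgroup G) (z v k x : G)
    (hTS : T ≤ S) (hWT : W ≤ T) (hvT : v ∈ T)
    (hzS : ∀ s ∈ S, s * z = z * s) (hz1 : z ≠ 1) (hzz : z * z = 1) (hvv : v * v = 1)
    (hSV : ∀ s ∈ S, s * v * s⁻¹ = v ∨ s * v * s⁻¹ = z * v)
    (hW2 : ∀ w ∈ W, w * w = 1)
    (hW4 : ∀ a ∈ W, ∀ b ∈ W, a ≠ 1 → b ≠ 1 → a ≠ b →
      ∀ w ∈ W, w = 1 ∨ w = a ∨ w = b ∨ w = a * b)
    (hTW : ∀ t ∈ T, ∀ w ∈ W, t * w * t⁻¹ ∈ W)
    (hNW : ∀ s ∈ S, (∀ w ∈ W, s * w * s⁻¹ ∈ W) → s ∈ T)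
    (hkW : ∀ w ∈ W, k * w * k⁻¹ ∈ W) (hkfix : ∀ w ∈ W, k * w * k⁻¹ = w → w = 1)
    (hkQ : ∀ q ∈ T, (∀ w ∈ W, q * w = w * q) → k * q * k⁻¹ ∈ T)
    (hxS : x ∈ S) (hxT : ∀ t ∈ T, x * t * x⁻¹ ∈ T) (hxT' : ∀ t ∈ T, x⁻¹ * t * x ∈ T)
    (hxn : x ∉ T)
    (hVW : ∃ w₀ ∈ W, w₀ * v ≠ v * w₀)
    (h13 : ∀ c ∈ T, (∀ t ∈ T, t * c = c * t) → c * c = 1 → c ≠ 1 → c ≠ z →
      ∀ d ∈ W, d ≠ 1 → d ≠ z → ¬ ∃ g : G, c * d = g * z * g⁻¹) : False := by
  have hzS' : ∀ s ∈ S, s * z * s⁻¹ = z := by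
    intro s hs
    rw [hzS s hs, mul_inv_cancel_right]
  have hzinv : z⁻¹ = z := inv_eq_of_mul_eq_one_left hzz
  have hvS : v ∈ S := hTS hvT
  have hzv_ne : z * v ≠ v := by
    intro h
    apply hz1
    have e : z = z * v * v⁻¹ := by group
    rw [e, h, mul_inv_cancel]
  have hzzv : z * (z * v) = v := by rw [← mul_assoc, hzz, one_mul]
  have hzPc : z * v = v * z := (hzS v hvS).symm
  have hPc : ∀ s : G, s * v = v * s ↔ s * v * s⁻¹ = v := by
    intro s
    constructor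
    · intro h; rw [h, mul_inv_cancel_right]
    · intro h
      calc s * v = s * v * s⁻¹ * s := by group
        _ = v * s := by rw [h]
  have hcz : ∀ s ∈ S, s * (z * v) * s⁻¹ = z * (s * v * s⁻¹) := by
    intro s hs
    have e : s * (z * v) * s⁻¹ = (s * z * s⁻¹) * (s * v * s⁻¹) := by group
    rw [e, hzS' s hs]
  have hmul : ∀ s ∈ S, ∀ t ∈ S,
      ((s * t) * v = v * (s * t) ↔ (s * v = v * s ↔ t * v = v * t)) := by
    intro s hs t ht
    have e : (s * t) * v * (s * t)⁻¹ = s * (t * v * t⁻¹) * s⁻¹ := by group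
    rw [hPc (s * t), hPc s, hPc t, e]
    rcases hSV t ht with h1 | h1 <;> rcases hSV s hs with h2 | h2
    · rw [h1, h2]; simp
    · rw [h1, h2]; simp [hzv_ne, hz1]
    · rw [h1, hcz s hs, h2]; simp [hzv_ne, hz1]
    · rw [h1, hcz s hs, h2, hzzv]; simp [hzv_ne, hz1]
  have hinvP : ∀ s : G, (s⁻¹ * v = v * s⁻¹ ↔ s * v = v * s) := by
    intro s
    constructor
    · intro h
      calc s * v = s * (v * s⁻¹) * s := by group
        _ = s * (s⁻¹ * v) * s := by rw [h]
        _ = v * s := by group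
    · intro h
      calc s⁻¹ * v = s⁻¹ * (v * s) * s⁻¹ := by group
        _ = s⁻¹ * (s * v) * s⁻¹ := by rw [h]
        _ = v * s⁻¹ := by group
  -- Step 1: z ∈ W
  obtain ⟨w₀, hw₀, hw₀v⟩ := hVW
  have hw₀S : w₀ ∈ S := hTS (hWT hw₀)
  have hw₀c : w₀ * v * w₀⁻¹ = z * v := by
    rcases hSV w₀ hw₀S with h | h
    · exact absurd ((hPc w₀).mpr h) hw₀v
    · exact h
  have hzW : z ∈ W := by
    have h1 : v * w₀⁻¹ * v⁻¹ ∈ W := hTW v hvT w₀⁻¹ (W.inv_mem hw₀)
    have h2 : w₀ * (v * w₀⁻¹ * v⁻¹) ∈ W := W.mul_mem hw₀ h1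
    have e : w₀ * (v * w₀⁻¹ * v⁻¹) = (w₀ * v * w₀⁻¹) * v⁻¹ := by group
    rw [e, hw₀c, mul_inv_cancel_right] at h2
    exact h2
  -- Step 2: z'
  obtain ⟨z', hz'def⟩ : ∃ z' : G, z' = k * z * k⁻¹ := ⟨_, rfl⟩
  have hz'W : z' ∈ W := by rw [hz'def]; exact hkW z hzW
  have hz'1 : z' ≠ 1 := by
    intro h
    rw [hz'def] at h
    apply hz1
    have e : z = k⁻¹ * (k * z * k⁻¹) * k := by group
    rw [e, h]; group
  have hz'z : z' ≠ z := by
    intro h
    rw [hz'def] at h
    exact hz1 (hkfix z hzW h)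
  have hWel : ∀ w ∈ W, w = 1 ∨ w = z ∨ w = z' ∨ w = z * z' :=
    hW4 z hzW z' hz'W hz1 hz'1 (Ne.symm hz'z)
  have hz'T : z' ∈ T := hWT hz'W
  have hz'S : z' ∈ S := hTS hz'T
  have hz'z' : z' * z' = 1 := hW2 z' hz'W
  have hz'v : ¬ (z' * v = v * z') := by
    intro h
    apply hw₀v
    rcases hWel w₀ hw₀ with h1 | h1 | h1 | h1
    · rw [h1, one_mul, mul_one]
    · rw [h1]; exact hzPc
    · rw [h1]; exact h
    · rw [h1]
      calc z * z' * v = z * (z' * v) := by group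
        _ = z * (v * z') := by rw [h]
        _ = (z * v) * z' := by group
        _ = (v * z) * z' := by rw [hzPc]
        _ = v * (z * z') := by group
  have hz'c : z' * v * z'⁻¹ = z * v := by
    rcases hSV z' hz'S with h | h
    · exact absurd ((hPc z').mpr h) hz'v
    · exact h
  -- Step 3: y
  obtain ⟨y, hydef⟩ : ∃ y : G, y = x * z' * x⁻¹ := ⟨_, rfl⟩
  have hyT : y ∈ T := by rw [hydef]; exact hxT z' hz'T
  have hyy : y * y = 1 := by
    rw [hydef]
    have e : x * z' * x⁻¹ * (x * z' * x⁻¹) = x * (z' * z') * x⁻¹ := by group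
    rw [e, hz'z', mul_one, mul_inv_cancel]
  have hyW : y ∉ W := by
    intro hy
    apply hxn
    apply hNW x hxS
    intro w hw
    rcases hWel w hw with h1 | h1 | h1 | h1
    · rw [h1, mul_one, mul_inv_cancel]; exact W.one_mem
    · rw [h1, hzS' x hxS]; exact hzW
    · rw [h1, ← hydef]; exact hy
    · rw [h1]
      have e : x * (z * z') * x⁻¹ = (x * z * x⁻¹) * (x * z' * x⁻¹) := by group
      rw [e, hzS' x hxS, ← hydef]
      exact W.mul_mem hzW hy
  have hxiS : x⁻¹ ∈ S := S.inv_mem hxS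
  have hyv : ¬ (y * v = v * y) := by
    intro h
    rw [hydef] at h
    have h1 := hmul (x * z') (S.mul_mem hxS hz'S) x⁻¹ hxiS
    have h2 := hmul x hxS z' hz'S
    have h3 := hinvP x
    have h4 := h1.mp h
    by_cases hx : x * v = v * x
    · exact hz'v ((h2.mp (h4.mpr (h3.mpr hx))).mp hx)
    · exact hx (h3.mp (h4.mp (h2.mpr ⟨fun h' => absurd h' hx, fun h' => absurd h' hz'v⟩)))
  -- Step 4: action of T on z'
  have hTz' : ∀ t ∈ T, t * z' * t⁻¹ = z' ∨ t * z' * t⁻¹ = z * z' := by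
    intro t ht
    have h1 := hTW t ht z' hz'W
    rcases hWel _ h1 with h | h | h | h
    · exfalso; apply hz'1
      have e : z' = t⁻¹ * (t * z' * t⁻¹) * t := by group
      rw [e, h]; group
    · exfalso; apply hz'z
      have e : z' = t⁻¹ * (t * z' * t⁻¹) * t := by group
      have h5 := hzS' t⁻¹ (S.inv_mem (hTS ht))
      rw [inv_inv] at h5
      rw [e, h, h5]
    · exact Or.inl h
    · exact Or.inr h
  have hvz' : v * z' * v⁻¹ = z * z' := by
    rcases hTz' v hvT with h | h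
    · exfalso
      apply hz'v
      calc z' * v = v * z' * v⁻¹ * v := by rw [h]
        _ = v * z' := by group
    · exact h
  have hC0T : ∀ c : G, c ∈ S → c * v = v * c → c * z' = z' * c →
      (∀ w ∈ W, c * w = w * c) ∧ c ∈ T := by
    intro c hcS hcv hcz'
    have hcW : ∀ w ∈ W, c * w = w * c := by
      intro w hw
      rcases hWel w hw with h | h | h | h
      · rw [h, mul_one, one_mul]
      · rw [h]; exact hzS c hcS
      · rw [h]; exact hcz'
      · rw [h]
        calc c * (z * z') = (c * z) * z' := by group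
          _ = (z * c) * z' := by rw [hzS c hcS]
          _ = z * (c * z') := by group
          _ = z * (z' * c) := by rw [hcz']
          _ = z * z' * c := by group
    refine ⟨hcW, hNW c hcS ?_⟩
    intro w hw
    rw [hcW w hw, mul_inv_cancel_right]; exact hw
  have hdec : ∀ t ∈ T, ∃ c ∈ S, c * v = v * c ∧ c * z' = z' * c ∧
      (t = c ∨ t = c * z' ∨ t = c * v ∨ t = c * z' * v) := by
    intro t ht
    have htS := hTS ht
    rcases hTz' t ht with h | h
    · have htz' : t * z' = z' * t := by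
        calc t * z' = t * z' * t⁻¹ * t := by group
          _ = z' * t := by rw [h]
      by_cases hP : t * v = v * t
      · exact ⟨t, htS, hP, htz', Or.inl rfl⟩
      · refine ⟨t * z', S.mul_mem htS hz'S, ?_, ?_, Or.inr (Or.inl ?_)⟩
        · exact (hmul t htS z' hz'S).mpr
            ⟨fun h' => absurd h' hP, fun h' => absurd h' hz'v⟩
        · calc t * z' * z' = (z' * t) * z' := by rw [htz']
            _ = z' * (t * z') := by group
        · rw [mul_assoc, hz'z', mul_one]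
    · have hq : (t * v) * z' = z' * (t * v) := by
        have e : (t * v) * z' * (t * v)⁻¹ = t * (v * z' * v⁻¹) * t⁻¹ := by group
        have e2 : t * (z * z') * t⁻¹ = (t * z * t⁻¹) * (t * z' * t⁻¹) := by group
        have h3 : (t * v) * z' * (t * v)⁻¹ = z' := by
          rw [e, hvz', e2, hzS' t htS, h, ← mul_assoc, hzz, one_mul]
        calc (t * v) * z' = (t * v) * z' * (t * v)⁻¹ * (t * v) := by group
          _ = z' * (t * v) := by rw [h3]
      have hqS : t * v ∈ S := S.mul_mem htS hvS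
      by_cases hP : (t * v) * v = v * (t * v)
      · refine ⟨t * v, hqS, hP, hq, Or.inr (Or.inr (Or.inl ?_))⟩
        rw [mul_assoc, hvv, mul_one]
      · refine ⟨t * v * z', S.mul_mem hqS hz'S, ?_, ?_, Or.inr (Or.inr (Or.inr ?_))⟩
        · exact (hmul (t * v) hqS z' hz'S).mpr
            ⟨fun h' => absurd h' hP, fun h' => absurd h' hz'v⟩
        · calc t * v * z' * z' = (z' * (t * v)) * z' := by rw [hq]
            _ = z' * (t * v * z') := by group
        · have e : t * v * z' * z' * v = t * v * (z' * z') * v := by group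
          rw [e, hz'z', mul_one, mul_assoc, hvv, mul_one]
  -- squares and commutators
  have hSQ : ∀ c : G, c ∈ S → c * v = v * c → c * z' = z' * c → c * c ≠ z := by
    intro c hcS hcv hcz' hcc
    obtain ⟨hcW, hcT⟩ := hC0T c hcS hcv hcz'
    have hqS := hTS (hkQ c hcT hcW)
    have h1 : (k * c * k⁻¹) * (k * c * k⁻¹) = z' := by
      have e : (k * c * k⁻¹) * (k * c * k⁻¹) = k * (c * c) * k⁻¹ := by group
      rw [e, hcc, ← hz'def]
    have h2 : ((k * c * k⁻¹) * (k * c * k⁻¹)) * v = v * ((k * c * k⁻¹) * (k * c * k⁻¹)) :=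
      (hmul _ hqS _ hqS).mpr Iff.rfl
    rw [h1] at h2
    exact hz'v h2
  have hCM : ∀ a b : G, a ∈ S → a * v = v * a → a * z' = z' * a → b ∈ S → b * v = v * b →
      b * z' = z' * b → a * b * a⁻¹ * b⁻¹ ≠ z := by
    intro a b haS hav haz' hbS hbv hbz' hab
    obtain ⟨haW, haT⟩ := hC0T a haS hav haz'
    obtain ⟨hbW, hbT⟩ := hC0T b hbS hbv hbz'
    have ha'S := hTS (hkQ a haT haW)
    have hb'S := hTS (hkQ b hbT hbW)
    have h1 : (k * a * k⁻¹) * (k * b * k⁻¹) * (k * a * k⁻¹)⁻¹ * (k * b * k⁻¹)⁻¹ = z' := by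
      have e : (k * a * k⁻¹) * (k * b * k⁻¹) * (k * a * k⁻¹)⁻¹ * (k * b * k⁻¹)⁻¹ =
          k * (a * b * a⁻¹ * b⁻¹) * k⁻¹ := by group
      rw [e, hab, ← hz'def]
    have h2 : ((k * a * k⁻¹) * (k * b * k⁻¹) * (k * a * k⁻¹)⁻¹ * (k * b * k⁻¹)⁻¹) * v =
        v * ((k * a * k⁻¹) * (k * b * k⁻¹) * (k * a * k⁻¹)⁻¹ * (k * b * k⁻¹)⁻¹) := by
      have e : (k * a * k⁻¹) * (k * b * k⁻¹) * (k * a * k⁻¹)⁻¹ * (k * b * k⁻¹)⁻¹ =
          ((k * a * k⁻¹) * (k * b * k⁻¹)) * ((k * a * k⁻¹)⁻¹ * (k * b * k⁻¹)⁻¹) := by group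
      rw [e]
      have h3 := hmul ((k * a * k⁻¹) * (k * b * k⁻¹)) (S.mul_mem ha'S hb'S)
        ((k * a * k⁻¹)⁻¹ * (k * b * k⁻¹)⁻¹) (S.mul_mem (S.inv_mem ha'S) (S.inv_mem hb'S))
      have h4 := hmul (k * a * k⁻¹) ha'S (k * b * k⁻¹) hb'S
      have h5 := hmul (k * a * k⁻¹)⁻¹ (S.inv_mem ha'S) (k * b * k⁻¹)⁻¹ (S.inv_mem hb'S)
      have h6 := hinvP (k * a * k⁻¹)
      have h7 := hinvP (k * b * k⁻¹)
      exact h3.mpr (h4.trans ((h5.trans (iff_congr h6 h7)).symm))
    rw [h1] at h2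
    exact hz'v h2
  -- Step 5: y = c z'
  obtain ⟨c, hcS, hcv, hcz', hy⟩ := hdec y hyT
  have hyc : y = c * z' ∧ c * c = 1 := by
    rcases hy with h | h | h | h
    · exfalso; apply hyv; rw [h]; exact hcv
    · refine ⟨h, ?_⟩
      have h1 := hyy
      rw [h] at h1
      have e : c * z' * (c * z') = c * (z' * c) * z' := by group
      rw [e, ← hcz'] at h1
      have e2 : c * (c * z') * z' = c * c * (z' * z') := by group
      rw [e2, hz'z', mul_one] at h1
      exact h1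
    · exfalso; apply hyv; rw [h]
      exact (hmul c hcS v hvS).mpr ⟨fun _ => rfl, fun _ => hcv⟩
    · exfalso
      have h1 := hyy
      rw [h] at h1
      have e : c * z' * v * (c * z' * v) = c * (z' * (v * c) * z' * v) := by group
      rw [e, ← hcv] at h1
      have e2 : c * (z' * (c * v) * z' * v) = c * ((z' * c) * v * z' * v) := by group
      rw [e2, ← hcz'] at h1
      have e3 : c * (c * z' * v * z' * v) =
          c * c * ((z' * v * z'⁻¹) * (z' * z') * v) := by group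
      rw [e3, hz'c, hz'z', mul_one] at h1
      have e4 : c * c * (z * v * v) = c * c * z * (v * v) := by group
      rw [e4, hvv, mul_one] at h1
      apply hSQ c hcS hcv hcz'
      have h5 : c * c = z⁻¹ := eq_inv_of_mul_eq_one_left h1
      rw [h5, hzinv]
  obtain ⟨hyc, hcc⟩ := hyc
  have hc1 : c ≠ 1 := by
    intro h; apply hyW; rw [hyc, h, one_mul]; exact hz'W
  have hcz1 : c ≠ z := by
    intro h; apply hyW; rw [hyc, h]; exact W.mul_mem hzW hz'W
  obtain ⟨hcW, hcT⟩ := hC0T c hcS hcv hcz'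
  -- Step 6: c is central in T
  have hTy : ∀ t ∈ T, t * y * t⁻¹ = y ∨ t * y * t⁻¹ = z * y := by
    intro t ht
    have ht' := hxT' t ht
    have e : t * y * t⁻¹ = x * ((x⁻¹ * t * x) * z' * (x⁻¹ * t * x)⁻¹) * x⁻¹ := by
      rw [hydef]; group
    rcases hTz' _ ht' with h | h
    · left; rw [e, h, ← hydef]
    · right
      have e2 : x * (z * z') * x⁻¹ = (x * z * x⁻¹) * (x * z' * x⁻¹) := by group
      rw [e, h, e2, hzS' x hxS, ← hydef]
  have hcC0 : ∀ c' : G, c' ∈ S → c' * v = v * c' → c' * z' = z' * c' → c' * c = c * c' := by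
    intro c' hc'S hc'v hc'z'
    obtain ⟨-, hc'T⟩ := hC0T c' hc'S hc'v hc'z'
    have e2 : z' * c'⁻¹ = c'⁻¹ * z' := by
      calc z' * c'⁻¹ = c'⁻¹ * (c' * z') * c'⁻¹ := by group
        _ = c'⁻¹ * (z' * c') * c'⁻¹ := by rw [hc'z']
        _ = c'⁻¹ * z' := by group
    have e : c' * (c * z') * c'⁻¹ = (c' * c * c'⁻¹) * z' := by
      calc c' * (c * z') * c'⁻¹ = c' * c * (z' * c'⁻¹) := by group
        _ = c' * c * (c'⁻¹ * z') := by rw [e2]
        _ = (c' * c * c'⁻¹) * z' := by group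
    rcases hTy c' hc'T with h | h
    · rw [hyc, e] at h
      have h2 : c' * c * c'⁻¹ = c := mul_right_cancel h
      calc c' * c = c' * c * c'⁻¹ * c' := by group
        _ = c * c' := by rw [h2]
    · exfalso
      rw [hyc, e, ← mul_assoc] at h
      have h2 : c' * c * c'⁻¹ = z * c := mul_right_cancel h
      apply hCM c' c hc'S hc'v hc'z' hcS hcv hcz'
      rw [h2, mul_inv_cancel_right]
  have hcentral : ∀ t ∈ T, t * c = c * t := by
    intro t ht
    obtain ⟨c', hc'S, hc'v, hc'z', ht'⟩ := hdec t ht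
    have h1 := hcC0 c' hc'S hc'v hc'z'
    rcases ht' with h | h | h | h
    · rw [h]; exact h1
    · rw [h]
      calc c' * z' * c = c' * (z' * c) := by group
        _ = c' * (c * z') := by rw [hcz']
        _ = (c' * c) * z' := by group
        _ = (c * c') * z' := by rw [h1]
        _ = c * (c' * z') := by group
    · rw [h]
      calc c' * v * c = c' * (v * c) := by group
        _ = c' * (c * v) := by rw [hcv]
        _ = (c' * c) * v := by group
        _ = (c * c') * v := by rw [h1]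
        _ = c * (c' * v) := by group
    · rw [h]
      calc c' * z' * v * c = c' * z' * (v * c) := by group
        _ = c' * z' * (c * v) := by rw [hcv]
        _ = c' * (z' * c) * v := by group
        _ = c' * (c * z') * v := by rw [hcz']
        _ = (c' * c) * z' * v := by group
        _ = (c * c') * z' * v := by rw [h1]
        _ = c * (c' * z' * v) := by group
  -- Step 7
  apply h13 c hcT hcentral hcc hc1 hcz1 z' hz'W hz'1 hz'z
  refine ⟨x * k, ?_⟩
  rw [← hyc, hydef, hz'def]; group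

end Cfsg.Agent.H60.R1

#print axioms Cfsg.Agent.H60.R1.killB
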