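import Mathlib

set_option autoImplicit false

namespace Cfsg.Agent.H60

section szsemi

variable {F : Type*} [Field F] [Fintype F] {m : ℕ}

theorem szs_charP (hF : Fintype.card F = 2 ^ (2 * m + 1)) : CharP F 2 := by
  have h1 : Fintype.card F % 2 = 0 := by rw [hF, pow_succ, Nat.mul_mod_left]
  have h2 : ringChar F = 2 := FiniteField.even_card_iff_char_two.mpr h1
  exact ringChar.of_eq h2

theorem szs_add (hF : Fintype.card F = 2 ^ (2 * m + 1)) (x y : F) :
    (x + y) ^ (2 ^ (m + 1)) = x ^ (2 ^ (m + 1)) + y ^ (2 ^ (m + 1)) := by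
  haveI := szs_charP hF
  exact add_pow_char_pow x y 2 (m + 1)

theorem szs_sq (hF : Fintype.card F = 2 ^ (2 * m + 1)) (x : F) :
    (x ^ (2 ^ (m + 1))) ^ (2 ^ (m + 1)) = x ^ 2 := by
  rw [← pow_mul, ← pow_add]
  have e : m + 1 + (m + 1) = (2 * m + 1) + 1 := by ring
  rw [e, pow_succ, pow_mul, ← hF, FiniteField.pow_card]

omit [Fintype F] in
theorem szs_idem {t : F} (h : t = t ^ 2) : t = 0 ∨ t = 1 := by
  have h1 : t * (t - 1) = 0 := by linear_combination -h
  rcases mul_eq_zero.mp h1 with h0 | h0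
  · left
    exact h0
  · right
    exact sub_eq_zero.mp h0

theorem szs_fix (hF : Fintype.card F = 2 ^ (2 * m + 1)) {t : F} (h : t ^ (2 ^ (m + 1)) = t) :
    t = 0 ∨ t = 1 := by
  have h1 := szs_sq hF t
  rw [h, h] at h1
  exact szs_idem h1

theorem szs_norm_one (hF : Fintype.card F = 2 ^ (2 * m + 1)) {t : F}
    (h : t * t ^ (2 ^ (m + 1)) = 1) : t = 1 := by
  have ht : t ≠ 0 := by
    rintro rfl
    rw [zero_mul] at h
    exact zero_ne_one h
  have h1 : t ^ (2 ^ (m + 1)) = t⁻¹ := eq_inv_of_mul_eq_one_right h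
  have h2 := szs_sq hF t
  rw [h1, inv_pow, h1, inv_inv] at h2
  rcases szs_idem h2 with h0 | h0
  · exact absurd h0 ht
  · exact h0

theorem szs_norm_inj (hF : Fintype.card F = 2 ^ (2 * m + 1)) {x y : F}
    (h : x * x ^ (2 ^ (m + 1)) = y * y ^ (2 ^ (m + 1))) : x = y := by
  by_cases hy : y = 0
  · subst hy
    rw [zero_mul] at h
    rcases mul_eq_zero.mp h with h0 | h0
    · exact h0
    · exact eq_zero_of_pow_eq_zero h0
  · have h1 : (x / y) * (x / y) ^ (2 ^ (m + 1)) = 1 := by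
      rw [div_pow, div_mul_div_comm, h]
      exact div_self (mul_ne_zero hy (pow_ne_zero _ hy))
    exact (div_eq_one_iff_eq hy).mp (szs_norm_one hF h1)

theorem szs_norm_surj (hF : Fintype.card F = 2 ^ (2 * m + 1)) (e : F) :
    ∃ a : F, a * a ^ (2 ^ (m + 1)) = e :=
  Finite.surjective_of_injective (f := fun a : F => a * a ^ (2 ^ (m + 1)))
    (fun _ _ h => szs_norm_inj hF h) e

/-- the additive map `x ↦ x + θ x` -/
def szsPhi (hF : Fintype.card F = 2 ^ (2 * m + 1)) : F →+ F :=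
  AddMonoidHom.mk' (fun x => x + x ^ (2 ^ (m + 1))) (by
    intro x y
    rw [szs_add hF]
    ring)

theorem szsPhi_apply (hF : Fintype.card F = 2 ^ (2 * m + 1)) (x : F) :
    szsPhi hF x = x + x ^ (2 ^ (m + 1)) := rfl

/-- the image of `x ↦ x + θ x`, an additive subgroup of index two -/
def szsW (hF : Fintype.card F = 2 ^ (2 * m + 1)) : AddSubgroup F := (szsPhi hF).range

theorem szsW_index (hF : Fintype.card F = 2 ^ (2 * m + 1)) : (szsW hF).index = 2 := by
  haveI := szs_charP hF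
  have hker : ((szsPhi hF).ker : Set F) = {0, 1} := by
    ext t
    simp only [SetLike.mem_coe, AddMonoidHom.mem_ker, Set.mem_insert_iff, Set.mem_singleton_iff,
      szsPhi_apply]
    constructor
    · intro h
      exact szs_fix hF (CharTwo.add_eq_zero.mp h).symm
    · rintro (rfl | rfl)
      · simp
      · rw [one_pow]
        exact CharTwo.add_self_eq_zero 1
  have hkc : Nat.card ↥(szsPhi hF).ker = 2 := by
    have h1 : Nat.card ↥(szsPhi hF).ker = Set.ncard ((szsPhi hF).ker : Set F) := rfl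
    rw [h1, hker, Set.ncard_pair zero_ne_one]
  have h1 := AddSubgroup.card_mul_index (szsPhi hF).ker
  have h2 : (szsPhi hF).ker.index = Nat.card ↥(szsW hF) := AddSubgroup.index_ker _
  have h3 := AddSubgroup.card_mul_index (szsW hF)
  have hcF : Nat.card F = 2 ^ (2 * m + 1) := by rw [Nat.card_eq_fintype_card, hF]
  rw [hcF] at h1 h3
  rw [hkc, h2] at h1
  have hpos : 0 < Nat.card ↥(szsW hF) := Nat.card_pos
  have h4 : Nat.card ↥(szsW hF) * (szsW hF).index = Nat.card ↥(szsW hF) * 2 := by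
    rw [h3, ← h1, mul_comm]
  exact Nat.eq_of_mul_eq_mul_left hpos h4

omit [Fintype F] in
theorem szs_hua_id [CharP F 2] {p r : F} (hp : p ≠ 0) (hr : r ≠ 0) (hpr : r⁻¹ + p ≠ 0) :
    (p⁻¹ + (r⁻¹ + p)⁻¹) * (p + p ^ 2 * r) = 1 := by
  have h2 : (2 : F) = 0 := CharTwo.two_eq_zero
  have k1 : (r⁻¹ + p)⁻¹ * (1 + p * r) = r := by
    have e : 1 + p * r = r * (r⁻¹ + p) := by
      field_simp
    rw [e, mul_comm r, ← mul_assoc, inv_mul_cancel₀ hpr, one_mul]
  calc (p⁻¹ + (r⁻¹ + p)⁻¹) * (p + p ^ 2 * r)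
      = p⁻¹ * p * (1 + p * r) + p * ((r⁻¹ + p)⁻¹ * (1 + p * r)) := by ring
    _ = 1 := by
      rw [k1, inv_mul_cancel₀ hp]
      linear_combination (p * r) * h2

/-- One direction of the invariance of the family of hyperplanes `e • W`. -/
theorem szs_mem (hF : Fintype.card F = 2 ^ (2 * m + 1)) (A B : F ≃+ F)
    (h : ∀ a, B (a * a ^ (2 ^ (m + 1))) = A a * (A a) ^ (2 ^ (m + 1)))
    {x e : F} (he : e ≠ 0) (hx : x / e ∈ szsW hF) : B x / B e ∈ szsW hF := by
  haveI := szs_charP hF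
  obtain ⟨t, ht⟩ := hx
  rw [szsPhi_apply] at ht
  obtain ⟨a, ha⟩ := szs_norm_surj hF e
  have ha0 : a ≠ 0 := by
    rintro rfl
    apply he
    rw [← ha, zero_mul]
  have hpol : ∀ a c : F, B (a ^ (2 ^ (m + 1)) * c + a * c ^ (2 ^ (m + 1)))
      = (A a) ^ (2 ^ (m + 1)) * A c + A a * (A c) ^ (2 ^ (m + 1)) := by
    intro a c
    have e1 := h (a + c)
    have e2 : (a + c) * (a + c) ^ (2 ^ (m + 1)) = a * a ^ (2 ^ (m + 1)) + c * c ^ (2 ^ (m + 1))
        + (a ^ (2 ^ (m + 1)) * c + a * c ^ (2 ^ (m + 1))) := by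
      rw [szs_add hF]
      ring
    have e3 : A (a + c) = A a + A c := map_add A a c
    rw [e2, map_add B (a * a ^ (2 ^ (m + 1)) + c * c ^ (2 ^ (m + 1))),
      map_add B (a * a ^ (2 ^ (m + 1))), h, h, e3, szs_add hF] at e1
    linear_combination e1
  have hxe : x = a ^ (2 ^ (m + 1)) * (a * t) + a * (a * t) ^ (2 ^ (m + 1)) := by
    have h1 : x = e * (t + t ^ (2 ^ (m + 1))) := by
      rw [ht]
      field_simp
    rw [h1, ← ha, mul_pow]
    ring
  have hAa : A a ≠ 0 := fun h0 => ha0 ((AddEquiv.map_eq_zero_iff A).mp h0)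
  refine ⟨A (a * t) / A a, ?_⟩
  rw [szsPhi_apply, hxe, hpol, ← ha, h, div_pow]
  field_simp

theorem szs_mem_iff (hF : Fintype.card F = 2 ^ (2 * m + 1)) (A B : F ≃+ F)
    (h : ∀ a, B (a * a ^ (2 ^ (m + 1))) = A a * (A a) ^ (2 ^ (m + 1)))
    {x e : F} (he : e ≠ 0) : B x / B e ∈ szsW hF ↔ x / e ∈ szsW hF := by
  constructor
  · intro hx
    have hsymm : ∀ a, B.symm (a * a ^ (2 ^ (m + 1)))
        = A.symm a * (A.symm a) ^ (2 ^ (m + 1)) := by
      intro a
      rw [AddEquiv.symm_apply_eq, h, AddEquiv.apply_symm_apply]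
    have hBe : B e ≠ 0 := fun h0 => he ((AddEquiv.map_eq_zero_iff B).mp h0)
    have h1 := szs_mem hF A.symm B.symm hsymm hBe hx
    rwa [AddEquiv.symm_apply_apply, AddEquiv.symm_apply_apply] at h1
  · exact szs_mem hF A B h he

/-- The structure theorem for automorphisms of the Suzuki 2-group `A(n, θ)`: if additive
bijections `A`, `B` of `F` satisfy `B (a θ(a)) = A(a) θ(A(a))`, then `A = μ σ` and
`B = μ θ(μ) σ` for a field automorphism `σ`. -/
theorem szs_struct (hF : Fintype.card F = 2 ^ (2 * m + 1)) (A B : F ≃+ F)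
    (h : ∀ a, B (a * a ^ (2 ^ (m + 1))) = A a * (A a) ^ (2 ^ (m + 1))) :
    ∃ μ : F, μ ≠ 0 ∧ ∃ σ : F ≃+* F, (∀ a, A a = μ * σ a) ∧
      ∀ b, B b = μ * μ ^ (2 ^ (m + 1)) * σ b := by
  haveI := szs_charP hF
  have h2 : (2 : F) = 0 := CharTwo.two_eq_zero
  have hidx := szsW_index hF
  have hI2 : ∀ u v : F, u + v ∈ szsW hF ↔ (u ∈ szsW hF ↔ v ∈ szsW hF) :=
    fun u v => AddSubgroup.add_mem_iff_of_index_two hidx
  have hexW : ∃ v : F, v ∉ szsW hF := by
    by_contra hcon
    push Not at hcon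
    have htop : szsW hF = ⊤ := by
      ext v
      simp [hcon v]
    have := AddSubgroup.index_eq_one.mpr htop
    omega
  have hB0 : ∀ x, B x = 0 ↔ x = 0 := fun x => AddEquiv.map_eq_zero_iff B
  obtain ⟨C, hC⟩ : ∃ C : F → F, ∀ y, C y = (B y⁻¹)⁻¹ := ⟨fun y => (B y⁻¹)⁻¹, fun y => rfl⟩
  have hkey : ∀ x y, B x * C y ∈ szsW hF ↔ x * y ∈ szsW hF := by
    intro x y
    by_cases hy : y = 0
    · subst hy
      rw [hC, inv_zero, map_zero, inv_zero, mul_zero, mul_zero]
    · have h1 := szs_mem_iff hF A B h (x := x) (inv_ne_zero hy)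
      rw [div_inv_eq_mul, div_eq_mul_inv] at h1
      rw [hC]
      exact h1
  have hCadd : ∀ y y', C (y + y') = C y + C y' := by
    intro y y'
    by_contra hne
    have hδ : C (y + y') + C y + C y' ≠ 0 := by
      intro h0
      apply hne
      linear_combination h0 - (C y + C y') * h2
    obtain ⟨v, hv⟩ := hexW
    apply hv
    have hx : v = B (B.symm (v / (C (y + y') + C y + C y'))) * (C (y + y') + C y + C y') := by
      rw [AddEquiv.apply_symm_apply]
      field_simp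
    rw [hx]
    generalize B.symm (v / (C (y + y') + C y + C y')) = x
    rw [mul_add, mul_add, hI2, hI2, hkey, hkey, hkey, mul_add, hI2]
    tauto
  have hCinv : ∀ y, C y⁻¹ = (B y)⁻¹ := by
    intro y
    rw [hC, inv_inv]
  have hBinv : ∀ y, B y⁻¹ = (C y)⁻¹ := by
    intro y
    rw [hC, inv_inv]
  have hua : ∀ a b : F, a ≠ 0 → b ≠ 0 → a * b ≠ 1 → B (a ^ 2 * b) = (B a) ^ 2 * C b := by
    intro a b ha hb hab
    have hp : B a ≠ 0 := fun h0 => ha ((hB0 a).mp h0)
    have hr : C b ≠ 0 := by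
      rw [hC]
      exact inv_ne_zero (fun h0 => (inv_ne_zero hb) ((hB0 _).mp h0))
    have h1ab : 1 + a * b ≠ 0 := by
      intro h0
      apply hab
      linear_combination h0 - h2
    have hba : b⁻¹ + a ≠ 0 := by
      intro h0
      apply h1ab
      have e : 1 + a * b = b * (b⁻¹ + a) := by
        field_simp
      rw [e, h0, mul_zero]
    have hu : (a + a ^ 2 * b)⁻¹ = a⁻¹ + (b⁻¹ + a)⁻¹ :=
      (eq_inv_of_mul_eq_one_left (szs_hua_id ha hb hba)).symm
    have e1 : C (a + a ^ 2 * b)⁻¹ = (B a)⁻¹ + (B b⁻¹ + B a)⁻¹ := by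
      rw [hu, hCadd, hCinv, hCinv, map_add]
    have hrp : (C b)⁻¹ + B a ≠ 0 := by
      rw [← hBinv, ← map_add]
      exact fun h0 => hba ((hB0 _).mp h0)
    have e2 : (B (a + a ^ 2 * b))⁻¹ = (B a)⁻¹ + ((C b)⁻¹ + B a)⁻¹ := by
      rw [← hBinv b, ← e1, hCinv]
    have e3 : B (a + a ^ 2 * b) = B a + (B a) ^ 2 * C b := by
      have e4 := szs_hua_id hp hr hrp
      rw [← e2] at e4
      exact (eq_inv_of_mul_eq_one_right e4).trans (inv_inv _) |>.symm ▸ rfl
    rw [map_add] at e3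
    exact add_left_cancel e3
  obtain ⟨ν, hν⟩ : ∃ ν : F, ν = B 1 := ⟨_, rfl⟩
  have hν0 : ν ≠ 0 := by
    rw [hν]
    exact fun h0 => one_ne_zero ((hB0 1).mp h0)
  have hBC : ∀ b, B b = ν ^ 2 * C b := by
    intro b
    by_cases hb0 : b = 0
    · subst hb0
      rw [map_zero, hC, inv_zero, map_zero, inv_zero, mul_zero]
    by_cases hb1 : b = 1
    · subst hb1
      rw [hC, inv_one, ← hν]
      field_simp
    have h1 := hua 1 b one_ne_zero hb0 (by rwa [one_mul])
    rw [one_pow, one_mul, ← hν] at h1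
    exact h1
  have hmul : ∀ a b, B (a ^ 2 * b) * ν ^ 2 = (B a) ^ 2 * B b := by
    intro a b
    by_cases ha0 : a = 0
    · subst ha0
      simp
    by_cases hb0 : b = 0
    · subst hb0
      simp
    by_cases hab : a * b = 1
    · have hb : b = a⁻¹ := eq_inv_of_mul_eq_one_right hab
      subst hb
      have e1 : a ^ 2 * a⁻¹ = a := by
        field_simp
      have hp : B a ≠ 0 := fun h0 => ha0 ((hB0 a).mp h0)
      rw [e1, hBC a⁻¹, hCinv]
      field_simp
    · rw [hua a b ha0 hb0 hab, hBC b]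
      ring
  obtain ⟨s, hs⟩ : ∃ s : F → F, ∀ x, s x = B x / ν := ⟨fun x => B x / ν, fun x => rfl⟩
  have hs1 : s 1 = 1 := by
    rw [hs, ← hν]
    exact div_self hν0
  have hsadd : ∀ x y, s (x + y) = s x + s y := by
    intro x y
    rw [hs, hs, hs, map_add, add_div]
  have hs2 : ∀ a b, s (a ^ 2 * b) = (s a) ^ 2 * s b := by
    intro a b
    rw [hs, hs, hs]
    have h1 := hmul a b
    field_simp
    linear_combination h1
  have hssq : ∀ a, s (a ^ 2) = (s a) ^ 2 := by
    intro a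
    have h1 := hs2 a 1
    rwa [mul_one, hs1, mul_one] at h1
  have hsmul : ∀ c b, s (c * b) = s c * s b := by
    intro c b
    obtain ⟨d, rfl⟩ : ∃ d : F, c = d ^ 2 :=
      ⟨c ^ (2 ^ (2 * m)), by rw [← pow_mul, ← pow_succ, ← hF, FiniteField.pow_card]⟩
    rw [hs2, hssq]
  let f : F →+* F :=
    { toFun := s
      map_one' := hs1
      map_mul' := hsmul
      map_zero' := by rw [hs, map_zero, zero_div]
      map_add' := hsadd }
  have hf : Function.Injective f := f.injective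
  have hσ : ∀ x, B x = ν * (RingEquiv.ofBijective f ⟨hf, Finite.surjective_of_injective hf⟩) x := by
    intro x
    show B x = ν * s x
    rw [hs]
    field_simp
  obtain ⟨μ, hμ⟩ := szs_norm_surj hF ν
  have hμ0 : μ ≠ 0 := by
    rintro rfl
    apply hν0
    rw [← hμ, zero_mul]
  refine ⟨μ, hμ0, RingEquiv.ofBijective f ⟨hf, Finite.surjective_of_injective hf⟩, ?_, ?_⟩
  · intro a
    apply szs_norm_inj hF
    rw [← h, hσ, map_mul, map_pow, mul_pow, ← hμ]
    ring
  · intro b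
    rw [hμ]
    exact hσ b

/-- Function-level version of `szs_struct`. -/
theorem szs_struct_fun (hF : Fintype.card F = 2 ^ (2 * m + 1)) (A B : F → F)
    (hA : ∀ a c, A (a + c) = A a + A c) (hB : ∀ a c, B (a + c) = B a + B c)
    (hAi : Function.Injective A) (hBi : Function.Injective B)
    (h : ∀ a, B (a * a ^ (2 ^ (m + 1))) = A a * (A a) ^ (2 ^ (m + 1))) :
    ∃ μ : F, μ ≠ 0 ∧ ∃ σ : F ≃+* F, (∀ a, A a = μ * σ a) ∧
      ∀ b, B b = μ * μ ^ (2 ^ (m + 1)) * σ b :=
  szs_struct hF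
    (AddEquiv.ofBijective (AddMonoidHom.mk' A hA) ⟨hAi, Finite.surjective_of_injective hAi⟩)
    (AddEquiv.ofBijective (AddMonoidHom.mk' B hB) ⟨hBi, Finite.surjective_of_injective hBi⟩) h

end szsemi

end Cfsg.Agent.H60
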