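import Cfsg.Agent.H74.TsDefs

/-!
# TS-TRA (piece of S2948, helper74): transport to `G` of "generated by odd elements" and
`[K, J] = K` for `K := K'.map L.subtype`.
-/

set_option autoImplicit false
open Cfsg

universe u

namespace Cfsg.Agent.H60.Ts

theorem trA : Cfsg.Agent.H74.Ts.StTrA.{u} := by
  intro G _ _ T L K' hTL hcl hcomm
  have hJL : thompsonSubgroupOf 2 T ≤ L := by
    refine le_trans ?_ hTL
    unfold thompsonSubgroupOf
    exact Subgroup.map_subtype_le _
  constructor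
  · have h1 : {g : G | g ∈ K'.map L.subtype ∧ Odd (orderOf g)} =
        L.subtype '' {g : ↥L | g ∈ K' ∧ Odd (orderOf g)} := by
      ext g
      constructor
      · rintro ⟨⟨k, hk, rfl⟩, ho⟩
        refine ⟨k, ⟨hk, ?_⟩, rfl⟩
        rwa [Subgroup.coe_subtype, Subgroup.orderOf_coe] at ho
      · rintro ⟨k, ⟨hk, ho⟩, rfl⟩
        refine ⟨⟨k, hk, rfl⟩, ?_⟩
        rwa [Subgroup.coe_subtype, Subgroup.orderOf_coe]
    rw [h1, ← MonoidHom.map_closure, hcl]
  · conv_lhs => rw [← Subgroup.map_subgroupOf_eq_of_le hJL]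
    rw [← Subgroup.map_commutator, hcomm]

example : ∀ {G : Type u} [Group G] [Finite G] (T L : Subgroup G) (K' : Subgroup ↥L),
  T ≤ L →
  Subgroup.closure {g : ↥L | g ∈ K' ∧ Odd (orderOf g)} = K' →
  ⁅K', (thompsonSubgroupOf 2 T).subgroupOf L⁆ = K' →
  Subgroup.closure {g : G | g ∈ K'.map L.subtype ∧ Odd (orderOf g)} = K'.map L.subtype ∧
    ⁅K'.map L.subtype, thompsonSubgroupOf 2 T⁆ = K'.map L.subtype := trA

end Cfsg.Agent.H60.Ts

#print axioms Cfsg.Agent.H60.Ts.trA
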