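import Mathlib
import Cfsg.Agent.H64.TtDefs
/-!
Team project S3385 (helper64), piece TT-C4: for Tutte data `x, g, k` with `λ = l ≤ k - 1`,
`[x_0, x_l] ∈ X[k-l, 2l-k]`.
-/
set_option autoImplicit false

namespace Cfsg.Agent.H60.Tt

open Cfsg.Agent.H64.Tt

universe u

section aux

variable {G : Type u} [Group G]

/-- an element commuting with the generators of `X[a,b]` commutes with `X[a,b]`. -/
theorem comm_of_gen (x : ℤ → G) (a b : ℤ) (v : G)
    (h : ∀ i, a ≤ i → i ≤ b → x i * v = v * x i) : ∀ u ∈ X x a b, u * v = v * u := by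
  have hle : X x a b ≤ Subgroup.centralizer ({v} : Set G) := by
    rw [X_le_iff]
    intro i h1 h2
    rw [Subgroup.mem_centralizer_iff]
    intro w hw
    rw [Set.mem_singleton_iff] at hw
    rw [hw]
    exact (h i h1 h2).symm
  intro u hu
  exact (Subgroup.mem_centralizer_iff.mp (hle hu) v (Set.mem_singleton v)).symm

/-- two windows whose generators commute pairwise commute elementwise. -/
theorem comm_XX (x : ℤ → G) (a b a' b' : ℤ)
    (h : ∀ i i', a ≤ i → i ≤ b → a' ≤ i' → i' ≤ b' → x i * x i' = x i' * x i) :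
    ∀ u ∈ X x a b, ∀ v ∈ X x a' b', u * v = v * u := by
  intro u hu v hv
  refine comm_of_gen x a b v ?_ u hu
  intro i h1 h2
  exact (comm_of_gen x a' b' (x i) (fun i' h1' h2' => (h i i' h1 h2 h1' h2').symm) v hv).symm

/-- `y` commutes with `a`, `y b y⁻¹ = e b`, `e` commutes with `a` and with `c = [a, b]`:
then `y` commutes with `c`. -/
theorem comm_conj (y a b e c : G) (hc : c = a * b * a⁻¹ * b⁻¹) (h1 : y * a = a * y)
    (h2 : y * b * y⁻¹ = e * b) (h3 : e * a = a * e) (h4 : e * c = c * e) : y * c = c * y := by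
  subst hc
  have hya : y * a * y⁻¹ = a := by rw [h1, mul_inv_cancel_right]
  have key : y * (a * b * a⁻¹ * b⁻¹) * y⁻¹ = a * b * a⁻¹ * b⁻¹ := by
    calc y * (a * b * a⁻¹ * b⁻¹) * y⁻¹
        = (y * a * y⁻¹) * (y * b * y⁻¹) * (y * a * y⁻¹)⁻¹ * (y * b * y⁻¹)⁻¹ := by group
      _ = a * (e * b) * a⁻¹ * (e * b)⁻¹ := by rw [hya, h2]
      _ = (a * e) * b * a⁻¹ * b⁻¹ * e⁻¹ := by group
      _ = (e * a) * b * a⁻¹ * b⁻¹ * e⁻¹ := by rw [h3]
      _ = e * (a * b * a⁻¹ * b⁻¹) * e⁻¹ := by group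
      _ = a * b * a⁻¹ * b⁻¹ := by rw [h4, mul_inv_cancel_right]
  calc y * (a * b * a⁻¹ * b⁻¹) = (y * (a * b * a⁻¹ * b⁻¹) * y⁻¹) * y := by group
    _ = (a * b * a⁻¹ * b⁻¹) * y := by rw [key]

/-- `y` commutes with `b`, `y a y⁻¹ = e a`, `e` commutes with `b` and with `c = [a, b]`:
then `y` commutes with `c`. -/
theorem comm_conj' (y a b e c : G) (hc : c = a * b * a⁻¹ * b⁻¹) (h1 : y * b = b * y)
    (h2 : y * a * y⁻¹ = e * a) (h3 : e * b = b * e) (h4 : e * c = c * e) : y * c = c * y := by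
  subst hc
  have hyb : y * b * y⁻¹ = b := by rw [h1, mul_inv_cancel_right]
  have h3' : e⁻¹ * b⁻¹ = b⁻¹ * e⁻¹ := by
    rw [← mul_inv_rev, ← mul_inv_rev, h3]
  have key : y * (a * b * a⁻¹ * b⁻¹) * y⁻¹ = a * b * a⁻¹ * b⁻¹ := by
    calc y * (a * b * a⁻¹ * b⁻¹) * y⁻¹
        = (y * a * y⁻¹) * (y * b * y⁻¹) * (y * a * y⁻¹)⁻¹ * (y * b * y⁻¹)⁻¹ := by group
      _ = (e * a) * b * (e * a)⁻¹ * b⁻¹ := by rw [hyb, h2]
      _ = e * a * b * a⁻¹ * (e⁻¹ * b⁻¹) := by group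
      _ = e * a * b * a⁻¹ * (b⁻¹ * e⁻¹) := by rw [h3']
      _ = e * (a * b * a⁻¹ * b⁻¹) * e⁻¹ := by group
      _ = a * b * a⁻¹ * b⁻¹ := by rw [h4, mul_inv_cancel_right]
  calc y * (a * b * a⁻¹ * b⁻¹) = (y * (a * b * a⁻¹ * b⁻¹) * y⁻¹) * y := by group
    _ = (a * b * a⁻¹ * b⁻¹) * y := by rw [key]

/-- the induction step of C4. -/
theorem c4_step [Finite G] (hc1 : C1Stmt.{u}) (hsplit : SplitStmt.{u}) (x : ℤ → G) (g : G)
    (k l : ℕ) (T : TData x g k)
    (hcm : ∀ i j : ℤ, |i - j| < l → x i * x j = x j * x i)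
    (hnc : ∀ i : ℤ, x i * x (i + l) ≠ x (i + l) * x i)
    (J : ℤ) (hJ1 : 1 ≤ J) (hJk : J + l + 1 ≤ k) (hJl : J + 1 ≤ l)
    (hne : x 0 * x l * (x 0)⁻¹ * (x l)⁻¹ ≠ 1)
    (ih : x 0 * x l * (x 0)⁻¹ * (x l)⁻¹ ∈ X x J (l - J)) :
    x 0 * x l * (x 0)⁻¹ * (x l)⁻¹ ∈ X x (J + 1) (l - J - 1) := by
  obtain ⟨c, hc⟩ : ∃ c, c = x 0 * x l * (x 0)⁻¹ * (x l)⁻¹ := ⟨_, rfl⟩
  rw [← hc] at hne ih ⊢
  have hJ2 : J ≤ l - J := by
    by_contra hlt
    push Not at hlt
    rw [X_empty x hlt, Subgroup.mem_bot] at ih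
    exact hne ih
  -- (i) `x_(-J)` commutes with `c`
  have hy0 : x (-J) * x 0 = x 0 * x (-J) :=
    hcm (-J) 0 (by rw [abs_lt]; constructor <;> omega)
  have he : x (-J) * x l * (x (-J))⁻¹ * (x l)⁻¹ ∈ X x (-J + 1) (l - 1) :=
    hc1 x g k T (-J) l (by omega) (by omega)
  have hyc : x (-J) * c = c * x (-J) := by
    refine comm_conj (x (-J)) (x 0) (x l) (x (-J) * x l * (x (-J))⁻¹ * (x l)⁻¹) c hc hy0
      (by group) ?_ ?_
    · exact comm_of_gen x (-J + 1) (l - 1) (x 0)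
        (fun i h1 h2 => hcm i 0 (by rw [abs_lt]; constructor <;> omega)) _ he
    · exact comm_XX x (-J + 1) (l - 1) J (l - J)
        (fun i i' h1 h2 h3 h4 => hcm i i' (by rw [abs_lt]; constructor <;> omega)) _ he c ih
  -- (ii) `c ∈ X[J, l-J-1]`
  have hc2 : c ∈ X x J (l - J - 1) := by
    rcases (hsplit x g k T J (l - J) hJ2 (by omega) c ih).1 with h | h
    · exact h
    · exfalso
      have hyX : ∀ u ∈ X x J (l - J - 1), u * x (-J) = x (-J) * u :=
        comm_of_gen x J (l - J - 1) (x (-J))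
          (fun i h1 h2 => hcm i (-J) (by rw [abs_lt]; constructor <;> omega))
      have h1 := hyX _ h
      apply hnc (-J)
      have e1 : -J + (l : ℤ) = l - J := by ring
      rw [e1]
      have h2 : c * (x (l - J) * x (-J)) = c * (x (-J) * x (l - J)) := by
        calc c * (x (l - J) * x (-J)) = (c * x (l - J)) * x (-J) := by rw [mul_assoc]
          _ = x (-J) * (c * x (l - J)) := h1
          _ = (x (-J) * c) * x (l - J) := by rw [mul_assoc]
          _ = (c * x (-J)) * x (l - J) := by rw [hyc]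
          _ = c * (x (-J) * x (l - J)) := by rw [mul_assoc]
      exact (mul_left_cancel h2).symm
  have hJ3 : J ≤ l - J - 1 := by
    by_contra hlt
    push Not at hlt
    rw [X_empty x hlt, Subgroup.mem_bot] at hc2
    exact hne hc2
  -- (iii) `x_(l+J)` commutes with `c`
  have hy2l : x (l + J) * x l = x l * x (l + J) :=
    hcm (l + J) l (by rw [abs_lt]; constructor <;> omega)
  have he2 : x 0 * x (l + J) * (x 0)⁻¹ * (x (l + J))⁻¹ ∈ X x (0 + 1) (l + J - 1) :=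
    hc1 x g k T 0 (l + J) (by omega) (by omega)
  have he2' : (x 0 * x (l + J) * (x 0)⁻¹ * (x (l + J))⁻¹)⁻¹ ∈ X x (0 + 1) (l + J - 1) :=
    inv_mem he2
  have hy2c : x (l + J) * c = c * x (l + J) := by
    refine comm_conj' (x (l + J)) (x 0) (x l) ((x 0 * x (l + J) * (x 0)⁻¹ * (x (l + J))⁻¹)⁻¹) c hc
      hy2l (by group) ?_ ?_
    · exact comm_of_gen x (0 + 1) (l + J - 1) (x l)
        (fun i h1 h2 => hcm i l (by rw [abs_lt]; constructor <;> omega)) _ he2'
    · exact comm_XX x (0 + 1) (l + J - 1) J (l - J - 1)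
        (fun i i' h1 h2 h3 h4 => hcm i i' (by rw [abs_lt]; constructor <;> omega)) _ he2' c hc2
  rcases (hsplit x g k T J (l - J - 1) hJ3 (by omega) c hc2).2 with h | h
  · exact h
  · exfalso
    have hyX : ∀ u ∈ X x (J + 1) (l - J - 1), u * x (l + J) = x (l + J) * u :=
      comm_of_gen x (J + 1) (l - J - 1) (x (l + J))
        (fun i h1 h2 => hcm i (l + J) (by rw [abs_lt]; constructor <;> omega))
    have h1 := hyX _ h
    apply hnc J
    have e1 : J + (l : ℤ) = l + J := by ring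
    rw [e1]
    have h2 : (x J * x (l + J)) * c = (x (l + J) * x J) * c := by
      calc (x J * x (l + J)) * c = x J * (x (l + J) * c) := by rw [mul_assoc]
        _ = x J * (c * x (l + J)) := by rw [hy2c]
        _ = (x J * c) * x (l + J) := by rw [mul_assoc]
        _ = x (l + J) * (x J * c) := h1
        _ = (x (l + J) * x J) * c := by rw [mul_assoc]
    exact mul_right_cancel h2

end aux

/-- C4: `[x_0, x_λ] ∈ X[k-λ, 2λ-k]` if `λ ≤ k-1`. -/
theorem c4 (_hcard : CardStmt.{u}) (hc1 : C1Stmt.{u}) (hsplit : SplitStmt.{u})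
    (hcomm : CommStmt.{u}) : C4Stmt.{u} := by
  intro G _ _ x g k l T L hlk
  obtain ⟨hcm, hnc⟩ := hcomm x g k l T L
  have hne : x 0 * x l * (x 0)⁻¹ * (x l)⁻¹ ≠ 1 := by
    intro h
    apply hnc 0
    rw [zero_add]
    have h1 := mul_inv_eq_one.mp h
    rw [mul_inv_eq_iff_eq_mul] at h1
    exact h1
  have hl1 : 1 ≤ l := L.1
  have P : ∀ j : ℕ, j + l + 1 ≤ k → j + 1 ≤ l →
      x 0 * x l * (x 0)⁻¹ * (x l)⁻¹ ∈ X x ((j : ℤ) + 1) ((l : ℤ) - j - 1) := by
    intro j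
    induction j with
    | zero =>
      intro h1 h2
      have h := hc1 x g k T 0 l (by omega) (by omega)
      have e1 : ((0 : ℕ) : ℤ) + 1 = 0 + 1 := by simp
      have e2 : (l : ℤ) - ((0 : ℕ) : ℤ) - 1 = (l : ℤ) - 1 := by simp
      rw [e1, e2]
      exact h
    | succ j ih =>
      intro h1 h2
      have ih' := ih (by omega) (by omega)
      have e0 : (l : ℤ) - j - 1 = (l : ℤ) - ((j : ℤ) + 1) := by ring
      rw [e0] at ih'
      have hs := c4_step hc1 hsplit x g k l T hcm hnc ((j : ℤ) + 1) (by omega) (by omega)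
        (by omega) hne ih'
      have e1 : ((j + 1 : ℕ) : ℤ) + 1 = (j : ℤ) + 1 + 1 := by push_cast; ring
      have e2 : (l : ℤ) - ((j + 1 : ℕ) : ℤ) - 1 = (l : ℤ) - ((j : ℤ) + 1) - 1 := by
        push_cast; ring
      rw [e1, e2]
      exact hs
  by_cases h2l : 2 * l < k
  · exfalso
    have h := P (l - 1) (by omega) (by omega)
    have hlt : ((l : ℤ) - ((l - 1 : ℕ) : ℤ) - 1) < (((l - 1 : ℕ) : ℤ) + 1) := by omega
    rw [X_empty x hlt, Subgroup.mem_bot] at h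
    exact hne h
  · have h := P (k - l - 1) (by omega) (by omega)
    have e1 : ((k - l - 1 : ℕ) : ℤ) + 1 = (k : ℤ) - l := by omega
    have e2 : (l : ℤ) - ((k - l - 1 : ℕ) : ℤ) - 1 = 2 * (l : ℤ) - k := by omega
    rw [e1, e2] at h
    exact h

example (hcard : CardStmt.{u}) (hc1 : C1Stmt.{u}) (hsplit : SplitStmt.{u})
    (hcomm : CommStmt.{u}) : C4Stmt.{u} := c4 hcard hc1 hsplit hcomm

end Cfsg.Agent.H60.Tt

#print axioms Cfsg.Agent.H60.Tt.c4
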