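import Mathlib

/-!
# helper60: piece W of S3401 -- Witt-type Sylow conjugation

`witt_one`, `witt_two`: if `Q` is a `p`-subgroup of the normal subgroup `M` fixing the points
involved and a Sylow `p`-subgroup of the stabilizer `M_{c'}`, then an element mapping `c` to `c'`
(and `e` to `e'`) can be replaced by one normalizing `Q`.
-/

set_option autoImplicit false

namespace Cfsg.Agent.H60.TwoTr

open scoped Pointwise

/-- An element conjugating a finite subgroup into itself normalizes it. -/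
theorem mem_normalizer_of_conj_mem {G : Type*} [Group G] [Finite G] (Q : Subgroup G) (x : G)
    (hmem : ∀ q ∈ Q, x * q * x⁻¹ ∈ Q) : x ∈ Subgroup.normalizer (Q : Set G) := by
  have hinj : Function.Injective (fun w : Q => (⟨x * w * x⁻¹, hmem w w.2⟩ : Q)) := by
    intro a b hab
    have h1 : x * (a : G) * x⁻¹ = x * (b : G) * x⁻¹ := congrArg Subtype.val hab
    apply Subtype.ext
    simpa using h1
  have hsurj := Finite.surjective_of_injective hinj
  rw [Subgroup.mem_normalizer_iff]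
  intro w
  refine ⟨hmem w, fun hw => ?_⟩
  obtain ⟨y, hy⟩ := hsurj ⟨_, hw⟩
  have h1 : x * (y : G) * x⁻¹ = x * w * x⁻¹ := congrArg Subtype.val hy
  have h2 : (y : G) = w := by simpa using h1
  rw [← h2]; exact y.2

/-- Sylow conjugation inside a subgroup `H`: if `Q ≤ H` is a `p`-subgroup of index prime to `p`
in `H`, every `p`-subgroup `R ≤ H` is conjugate into `Q` by an element of `H`. -/
theorem sylow_conj_core {G : Type*} [Group G] [Finite G] (p : ℕ) [Fact p.Prime]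
    (H Q R : Subgroup G) (hQ : IsPGroup p Q) (hsyl : ¬ p ∣ Q.relIndex H)
    (hRH : R ≤ H) (hR : IsPGroup p R) : ∃ h ∈ H, ∀ r ∈ R, h * r * h⁻¹ ∈ Q := by
  have hQ' : IsPGroup p ↥(Q.subgroupOf H) := hQ.comap_subtype
  have hR' : IsPGroup p ↥(R.subgroupOf H) := hR.comap_subtype
  have hsyl' : ¬ p ∣ (Q.subgroupOf H).index := hsyl
  obtain ⟨S, hS⟩ := hR'.exists_le_sylow
  obtain ⟨h, hh⟩ := MulAction.exists_smul_eq ↥H S (hQ'.toSylow hsyl')
  refine ⟨h, h.2, fun r hr => ?_⟩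
  have h1 : (⟨r, hRH hr⟩ : H) ∈ (S : Subgroup H) := hS (Subgroup.mem_subgroupOf.mpr hr)
  have h2 : MulAut.conj h • (⟨r, hRH hr⟩ : H) ∈ MulAut.conj h • (S : Subgroup H) :=
    Subgroup.smul_mem_pointwise_smul _ _ _ h1
  have h3 : ((h • S : Sylow p H) : Subgroup H)
      = ((hQ'.toSylow hsyl' : Sylow p H) : Subgroup H) := by rw [hh]
  rw [Sylow.smul_def, Sylow.pointwise_smul_def] at h3
  rw [h3, IsPGroup.toSylow_coe, Subgroup.mem_subgroupOf] at h2
  simpa using h2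

theorem witt_one {G Ω : Type*} [Group G] [Finite G] [MulAction G Ω]
    (M : Subgroup G) [M.Normal] (p : ℕ) [Fact p.Prime] (Q : Subgroup G) (hQM : Q ≤ M)
    (hQ : IsPGroup p Q) (c c' : Ω)
    (hc : ∀ q ∈ Q, q • c = c) (hc' : ∀ q ∈ Q, q • c' = c')
    (hsyl : ¬ p ∣ Q.relIndex (M ⊓ MulAction.stabilizer G c'))
    (g : G) (hgM : g ∈ M) (hg : g • c = c') :
    ∃ x ∈ M ⊓ Subgroup.normalizer (Q : Set G), x • c = c' := by
  have hginv : g⁻¹ • c' = c := by rw [← hg, inv_smul_smul]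
  have hRH : Q.map (MulAut.conj g).toMonoidHom ≤ M ⊓ MulAction.stabilizer G c' := by
    rintro _ ⟨q, hq, rfl⟩
    refine ⟨M.mul_mem (M.mul_mem hgM (hQM hq)) (M.inv_mem hgM), ?_⟩
    show (g * q * g⁻¹) • c' = c'
    rw [mul_smul, mul_smul, hginv, hc q hq, hg]
  obtain ⟨h, hh, hconj⟩ := sylow_conj_core p (M ⊓ MulAction.stabilizer G c') Q
    (Q.map (MulAut.conj g).toMonoidHom) hQ hsyl hRH (hQ.map _)
  have hhc : h • c' = c' := MulAction.mem_stabilizer_iff.mp hh.2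
  refine ⟨h * g, ⟨M.mul_mem hh.1 hgM, ?_⟩, ?_⟩
  · apply mem_normalizer_of_conj_mem
    intro q hq
    have h1 := hconj (g * q * g⁻¹) ⟨q, hq, rfl⟩
    have e : h * g * q * (h * g)⁻¹ = h * (g * q * g⁻¹) * h⁻¹ := by group
    rw [e]
    exact h1
  · rw [mul_smul, hg, hhc]

theorem witt_two {G Ω : Type*} [Group G] [Finite G] [MulAction G Ω]
    (M : Subgroup G) [M.Normal] (p : ℕ) [Fact p.Prime] (Q : Subgroup G) (hQM : Q ≤ M)
    (hQ : IsPGroup p Q) (c e c' e' : Ω)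
    (hc : ∀ q ∈ Q, q • c = c) (he : ∀ q ∈ Q, q • e = e)
    (hc' : ∀ q ∈ Q, q • c' = c') (he' : ∀ q ∈ Q, q • e' = e')
    (hsyl : ¬ p ∣ Q.relIndex (M ⊓ MulAction.stabilizer G c'))
    (g : G) (hgc : g • c = c') (hge : g • e = e') :
    ∃ x ∈ Subgroup.normalizer (Q : Set G), x • c = c' ∧ x • e = e' := by
  have hginvc : g⁻¹ • c' = c := by rw [← hgc, inv_smul_smul]
  have hginve : g⁻¹ • e' = e := by rw [← hge, inv_smul_smul]
  have hQH : Q ≤ M ⊓ MulAction.stabilizer G c' ⊓ MulAction.stabilizer G e' := fun q hq =>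
    ⟨⟨hQM hq, MulAction.mem_stabilizer_iff.mpr (hc' q hq)⟩,
      MulAction.mem_stabilizer_iff.mpr (he' q hq)⟩
  have hsyl' : ¬ p ∣ Q.relIndex (M ⊓ MulAction.stabilizer G c' ⊓ MulAction.stabilizer G e') := by
    intro hdvd
    exact hsyl (hdvd.trans (Dvd.intro _ (Subgroup.relIndex_mul_relIndex Q _ _ hQH inf_le_left)))
  have hRH : Q.map (MulAut.conj g).toMonoidHom
      ≤ M ⊓ MulAction.stabilizer G c' ⊓ MulAction.stabilizer G e' := by
    rintro _ ⟨q, hq, rfl⟩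
    refine ⟨⟨?_, ?_⟩, ?_⟩
    · exact ‹M.Normal›.conj_mem q (hQM hq) g
    · show (g * q * g⁻¹) • c' = c'
      rw [mul_smul, mul_smul, hginvc, hc q hq, hgc]
    · show (g * q * g⁻¹) • e' = e'
      rw [mul_smul, mul_smul, hginve, he q hq, hge]
  obtain ⟨h, hh, hconj⟩ := sylow_conj_core p
    (M ⊓ MulAction.stabilizer G c' ⊓ MulAction.stabilizer G e') Q
    (Q.map (MulAut.conj g).toMonoidHom) hQ hsyl' hRH (hQ.map _)
  have hhc : h • c' = c' := MulAction.mem_stabilizer_iff.mp hh.1.2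
  have hhe : h • e' = e' := MulAction.mem_stabilizer_iff.mp hh.2
  refine ⟨h * g, ?_, ?_, ?_⟩
  · apply mem_normalizer_of_conj_mem
    intro q hq
    have h1 := hconj (g * q * g⁻¹) ⟨q, hq, rfl⟩
    have e1 : h * g * q * (h * g)⁻¹ = h * (g * q * g⁻¹) * h⁻¹ := by group
    rw [e1]
    exact h1
  · rw [mul_smul, hgc, hhc]
  · rw [mul_smul, hge, hhe]

end Cfsg.Agent.H60.TwoTr
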