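import Mathlib

/-!
# The arithmetic of the block count (helper60)

`block_arith`: a finite set `D` partitioned into blocks `B d`, with a weight `c` constant on blocks,
`c d * |B d| = 2 m (c d - 1)`, `∑ c = m (m - 3)` and `|D| + m + 1 ≤ 4 m` forces `m = 3` or `m = 15`.
-/

set_option autoImplicit false

namespace Cfsg.Agent.H60

theorem block_ge (m c b : ℕ) (h : c * b + 2 * m = 2 * m * c) (hc : 3 ≤ c) : 4 * m ≤ 3 * b := by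
  by_contra h'
  rw [not_le] at h'
  have h1 : c * (3 * b + 1) ≤ c * (4 * m) := Nat.mul_le_mul_left c h'
  have h2 : m * 3 ≤ m * c := Nat.mul_le_mul_left m hc
  nlinarith

theorem block_dvd (m c b : ℕ) (h : c * b + 2 * m = 2 * m * c) (ho : Odd c) : c ∣ m := by
  have h1 : c ∣ c * b + 2 * m := h ▸ dvd_mul_left c (2 * m)
  have h2 : c ∣ 2 * m := (Nat.dvd_add_right (dvd_mul_right c b)).mp h1
  have hcop : Nat.Coprime c 2 := Nat.Coprime.symm (Nat.coprime_two_left.mpr ho)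
  exact (Nat.Coprime.dvd_mul_left hcop).mp h2

theorem two_block_aux (m c₁ c₂ q₁ q₂ : ℕ) (hm1 : m = c₁ * q₁) (hm2 : m = c₂ * q₂)
    (hsum : m + 1 = 2 * c₁ + 2 * c₂) (h4 : m + 1 ≤ 2 * q₁ + 2 * q₂) (hq : q₂ ≤ q₁)
    (hc1 : 3 ≤ c₁) (hc2 : 3 ≤ c₂) (ho2 : Odd c₂) : m = 15 := by
  have hq1 : 0 < q₁ := by
    rcases Nat.eq_zero_or_pos q₁ with h | h
    · rw [h, mul_zero] at hm1; omega
    · exact h
  have h5 : c₁ * q₁ < 4 * q₁ := by omega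
  have h6 : c₁ < 4 := Nat.lt_of_mul_lt_mul_right h5
  have h7 : c₁ = 3 := by omega
  subst h7
  have hq2 : 0 < q₂ := by omega
  have h8 : c₂ * q₂ < 6 * q₂ := by omega
  have h9 : c₂ < 6 := Nat.lt_of_mul_lt_mul_right h8
  obtain ⟨j, hj⟩ := ho2
  have hj' : j = 1 ∨ j = 2 := by omega
  rcases hj' with rfl | rfl
  · omega
  · omega

theorem two_block (m c₁ c₂ b₁ b₂ : ℕ) (h1 : c₁ * b₁ + 2 * m = 2 * m * c₁)
    (h2 : c₂ * b₂ + 2 * m = 2 * m * c₂) (h3 : c₁ * b₁ + c₂ * b₂ + 3 * m = m * m)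
    (h4 : b₁ + b₂ + m + 1 ≤ 4 * m) (hc1 : 3 ≤ c₁) (ho1 : Odd c₁) (hc2 : 3 ≤ c₂) (ho2 : Odd c₂) :
    m = 15 := by
  have hm : 0 < m := by omega
  have hsum : m + 1 = 2 * c₁ + 2 * c₂ := by
    have : m * (m + 1) = m * (2 * c₁ + 2 * c₂) := by nlinarith
    exact Nat.eq_of_mul_eq_mul_left hm this
  obtain ⟨q₁, hq₁⟩ := block_dvd m c₁ b₁ h1 ho1
  obtain ⟨q₂, hq₂⟩ := block_dvd m c₂ b₂ h2 ho2
  have hb1 : b₁ + 2 * q₁ = 2 * m := by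
    have : c₁ * (b₁ + 2 * q₁) = c₁ * (2 * m) := by
      have e : c₁ * (b₁ + 2 * q₁) = c₁ * b₁ + 2 * (c₁ * q₁) := by ring
      rw [e, ← hq₁]; linarith
    exact Nat.eq_of_mul_eq_mul_left (by omega) this
  have hb2 : b₂ + 2 * q₂ = 2 * m := by
    have : c₂ * (b₂ + 2 * q₂) = c₂ * (2 * m) := by
      have e : c₂ * (b₂ + 2 * q₂) = c₂ * b₂ + 2 * (c₂ * q₂) := by ring
      rw [e, ← hq₂]; linarith
    exact Nat.eq_of_mul_eq_mul_left (by omega) this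
  have h5 : m + 1 ≤ 2 * q₁ + 2 * q₂ := by omega
  by_cases hq : q₂ ≤ q₁
  · exact two_block_aux m c₁ c₂ q₁ q₂ hq₁ hq₂ hsum h5 hq hc1 hc2 ho2
  · exact two_block_aux m c₂ c₁ q₂ q₁ hq₂ hq₁ (by omega) (by omega) (by omega) hc2 hc1 ho1

theorem block_arith {α : Type*} [DecidableEq α] (D : Finset α) (c : α → ℕ) (B : α → Finset α)
    (m : ℕ)
    (ha : ∀ d ∈ D, B d ⊆ D)
    (hb : ∀ d ∈ D, ∀ b ∈ B d, c b = c d)
    (hc : ∀ d ∈ D, c d * (B d).card + 2 * m = 2 * m * c d)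
    (hd : ∀ d ∈ D, ∀ b ∈ B d, B b = B d)
    (he : ∀ d ∈ D, d ∈ B d)
    (hf : ∀ d ∈ D, 3 ≤ c d ∧ Odd (c d))
    (hg : ∑ d ∈ D, c d + 3 * m = m * m)
    (hh : D.card + m + 1 ≤ 4 * m) :
    m = 3 ∨ m = 15 := by
  have hm : 0 < m := by omega
  have hsumB : ∀ d ∈ D, ∑ b ∈ B d, c b = c d * (B d).card := by
    intro d hdD
    rw [Finset.sum_congr rfl (hb d hdD), Finset.sum_const, smul_eq_mul, mul_comm]
  have hdisj : ∀ d₁ ∈ D, ∀ d₂ ∈ D, d₂ ∉ B d₁ → Disjoint (B d₁) (B d₂) := by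
    intro d₁ h1 d₂ h2 hn
    rw [Finset.disjoint_left]
    intro b hb1 hb2
    apply hn
    have e1 := hd d₁ h1 b hb1
    have e2 := hd d₂ h2 b hb2
    rw [← e1, e2]
    exact he d₂ h2
  by_cases hD : D = ∅
  · left
    rw [hD, Finset.sum_empty, zero_add] at hg
    have : m * 3 = m * m := by linarith
    exact (Nat.eq_of_mul_eq_mul_left hm this).symm
  obtain ⟨d₁, hd₁⟩ := Finset.nonempty_iff_ne_empty.mpr hD
  have hs1 : ∑ d ∈ D \ B d₁, c d + ∑ d ∈ B d₁, c d = ∑ d ∈ D, c d :=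
    Finset.sum_sdiff (ha d₁ hd₁)
  have hk1 : (D \ B d₁).card + (B d₁).card = D.card :=
    Finset.card_sdiff_add_card_eq_card (ha d₁ hd₁)
  rw [hsumB d₁ hd₁] at hs1
  by_cases hD1 : D \ B d₁ = ∅
  · exfalso
    rw [hD1, Finset.sum_empty, zero_add] at hs1
    have h1 := hc d₁ hd₁
    obtain ⟨h3, ho⟩ := hf d₁ hd₁
    obtain ⟨q, hq⟩ := block_dvd m (c d₁) _ h1 ho
    have h5 : m * m = m * (2 * c d₁ + 1) := by nlinarith
    have h6 : m = 2 * c d₁ + 1 := Nat.eq_of_mul_eq_mul_left hm h5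
    have h7 : c d₁ ∣ 1 := by
      have : c d₁ ∣ 2 * c d₁ + 1 := h6 ▸ Dvd.intro q hq.symm
      exact (Nat.dvd_add_right (dvd_mul_left (c d₁) 2)).mp this
    have := Nat.le_of_dvd (by norm_num) h7
    omega
  obtain ⟨d₂, hd₂'⟩ := Finset.nonempty_iff_ne_empty.mpr hD1
  obtain ⟨hd₂, hd₂n⟩ := Finset.mem_sdiff.mp hd₂'
  have hB2 : B d₂ ⊆ D \ B d₁ := by
    intro b hb2
    rw [Finset.mem_sdiff]
    refine ⟨ha d₂ hd₂ hb2, ?_⟩
    intro hb1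
    exact (Finset.disjoint_left.mp (hdisj d₁ hd₁ d₂ hd₂ hd₂n)) hb1 hb2
  have hs2 : ∑ d ∈ (D \ B d₁) \ B d₂, c d + ∑ d ∈ B d₂, c d = ∑ d ∈ D \ B d₁, c d :=
    Finset.sum_sdiff hB2
  have hk2 : ((D \ B d₁) \ B d₂).card + (B d₂).card = (D \ B d₁).card :=
    Finset.card_sdiff_add_card_eq_card hB2
  rw [hsumB d₂ hd₂] at hs2
  by_cases hD2 : (D \ B d₁) \ B d₂ = ∅
  · right
    rw [hD2, Finset.sum_empty, zero_add] at hs2
    rw [hD2, Finset.card_empty, zero_add] at hk2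
    obtain ⟨h31, ho1⟩ := hf d₁ hd₁
    obtain ⟨h32, ho2⟩ := hf d₂ hd₂
    exact two_block m (c d₁) (c d₂) (B d₁).card (B d₂).card (hc d₁ hd₁) (hc d₂ hd₂)
      (by linarith) (by omega) h31 ho1 h32 ho2
  exfalso
  obtain ⟨d₃, hd₃'⟩ := Finset.nonempty_iff_ne_empty.mpr hD2
  obtain ⟨hd₃'', hd₃n2⟩ := Finset.mem_sdiff.mp hd₃'
  obtain ⟨hd₃, hd₃n1⟩ := Finset.mem_sdiff.mp hd₃''
  have hB3 : B d₃ ⊆ (D \ B d₁) \ B d₂ := by
    intro b hb3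
    rw [Finset.mem_sdiff, Finset.mem_sdiff]
    refine ⟨⟨ha d₃ hd₃ hb3, ?_⟩, ?_⟩
    · intro hb1
      exact (Finset.disjoint_left.mp (hdisj d₁ hd₁ d₃ hd₃ hd₃n1)) hb1 hb3
    · intro hb2
      exact (Finset.disjoint_left.mp (hdisj d₂ hd₂ d₃ hd₃ hd₃n2)) hb2 hb3
  have hk3 : (B d₃).card ≤ ((D \ B d₁) \ B d₂).card := Finset.card_le_card hB3
  have g1 := block_ge m (c d₁) _ (hc d₁ hd₁) (hf d₁ hd₁).1
  have g2 := block_ge m (c d₂) _ (hc d₂ hd₂) (hf d₂ hd₂).1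
  have g3 := block_ge m (c d₃) _ (hc d₃ hd₃) (hf d₃ hd₃).1
  omega

end Cfsg.Agent.H60
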