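import Cfsg.Agent.H60.V4Gen
import Cfsg.Agent.H60.V4Arith

/-!
# Counting involutions when every involution has a four-group centralizer (helper60)

`V4Hyp G`: every involution of `G` has a centralizer of order `4` and exponent `2`, and all
involutions are conjugate.  Then the number `m` of involutions is `3` or `15`
(`card_invs_eq_three_or_fifteen`), by counting the pairs (involution `u`, element `d` inverted by
`u`) in two ways and splitting the inverted elements into blocks of conjugate centralizers.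
-/

set_option autoImplicit false

namespace Cfsg.Agent.H60

open Subgroup

/-- Every involution has a centralizer of order `4` and exponent `2`; involutions are conjugate. -/
structure V4Hyp (G : Type*) [Group G] : Prop where
  card4 : ∀ u : G, u ≠ 1 → u * u = 1 → Nat.card (centralizer ({u} : Set G)) = 4
  exp2 : ∀ u : G, u ≠ 1 → u * u = 1 → ∀ c : G, u * c = c * u → c * c = 1
  conj : ∀ u v : G, u ≠ 1 → u * u = 1 → v ≠ 1 → v * v = 1 → ∃ g : G, g * u * g⁻¹ = v

/-- `d` is inverted by the involution `u` and `d² ≠ 1`. -/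
def InvBy {G : Type*} [Group G] (u d : G) : Prop :=
  u ≠ 1 ∧ u * u = 1 ∧ u * d * u⁻¹ = d⁻¹ ∧ d * d ≠ 1

/-- `d` is inverted by some involution and `d² ≠ 1`. -/
def SR {G : Type*} [Group G] (d : G) : Prop := ∃ u : G, InvBy u d

section Basic

variable {G : Type*} [Group G]

theorem InvBy.inv_eq {u d : G} (h : InvBy u d) : u⁻¹ = u := inv_eq_of_mul_eq_one_left h.2.1

theorem InvBy.conj' {u d : G} (h : InvBy u d) : u * d⁻¹ * u⁻¹ = d := by
  calc u * d⁻¹ * u⁻¹ = (u * d * u⁻¹)⁻¹ := by group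
    _ = d := by rw [h.2.2.1, inv_inv]

theorem InvBy.ne_one {u d : G} (h : InvBy u d) : d ≠ 1 := by
  intro h1; apply h.2.2.2; rw [h1, mul_one]

theorem InvBy.no_invol (H : V4Hyp G) {u d : G} (h : InvBy u d) (c : G) (hc : d * c = c * d)
    (hcc : c * c = 1) : c = 1 := by
  by_contra hc1
  exact h.2.2.2 (H.exp2 c hc1 hcc d hc.symm)

theorem comm_inv_of_comm {d k : G} (hk : d * k = k * d) : d⁻¹ * k = k * d⁻¹ := by
  calc d⁻¹ * k = d⁻¹ * (k * d) * d⁻¹ := by group
    _ = d⁻¹ * (d * k) * d⁻¹ := by rw [hk]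
    _ = k * d⁻¹ := by group

theorem comm_inv_of_comm' {d k : G} (hk : d * k = k * d) : d * k⁻¹ = k⁻¹ * d := by
  calc d * k⁻¹ = k⁻¹ * (k * d) * k⁻¹ := by group
    _ = k⁻¹ * (d * k) * k⁻¹ := by rw [hk]
    _ = k⁻¹ * d := by group

theorem InvBy.inverts [Finite G] (H : V4Hyp G) {u d : G} (h : InvBy u d) (c : G)
    (hc : d * c = c * d) : u * c * u⁻¹ = c⁻¹ := by
  have hnorm : ∀ k ∈ centralizer ({d} : Set G), u * k * u⁻¹ ∈ centralizer ({d} : Set G) := by
    intro k hk
    rw [mem_centralizer_singleton] at hk ⊢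
    have hk' := comm_inv_of_comm hk
    calc d * (u * k * u⁻¹) = (u * d⁻¹ * u⁻¹) * (u * k * u⁻¹) := by rw [h.conj']
      _ = u * (d⁻¹ * k) * u⁻¹ := by group
      _ = u * (k * d⁻¹) * u⁻¹ := by rw [hk']
      _ = (u * k * u⁻¹) * (u * d⁻¹ * u⁻¹) := by group
      _ = (u * k * u⁻¹) * d := by rw [h.conj']
  have hfpf : ∀ k ∈ centralizer ({d} : Set G), u * k * u⁻¹ = k → k = 1 := by
    intro k hk hfix
    rw [mem_centralizer_singleton] at hk
    have h1 : u * k = k * u := mul_inv_eq_iff_eq_mul.mp hfix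
    exact h.no_invol H k hk (H.exp2 u h.1 h.2.1 k h1)
  exact fpf_inv (centralizer ({d} : Set G)) u h.2.1 hnorm hfpf c
    ((mem_centralizer_singleton d c).mpr hc)

theorem InvBy.comm [Finite G] (H : V4Hyp G) {u d : G} (h : InvBy u d) (a b : G)
    (ha : d * a = a * d) (hb : d * b = b * d) : a * b = b * a :=
  comm_of_inv (centralizer ({d} : Set G)) u
    (fun k hk => h.inverts H k ((mem_centralizer_singleton d k).mp hk))
    a ((mem_centralizer_singleton d a).mpr ha) b ((mem_centralizer_singleton d b).mpr hb)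

theorem InvBy.sub [Finite G] (H : V4Hyp G) {u d d' : G} (h : InvBy u d) (hd' : d * d' = d' * d)
    (hd'1 : d' ≠ 1) : InvBy u d' :=
  ⟨h.1, h.2.1, h.inverts H d' hd', fun hsq => hd'1 (h.no_invol H d' hd' hsq)⟩

theorem InvBy.cent_iff [Finite G] (H : V4Hyp G) {u d d' : G} (h : InvBy u d)
    (hd' : d * d' = d' * d) (hd'1 : d' ≠ 1) (c : G) : d' * c = c * d' ↔ d * c = c * d := by
  have h' := h.sub H hd' hd'1
  constructor
  · intro hc
    exact (h'.comm H c d hc hd'.symm).symm
  · intro hc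
    exact (h.comm H c d' hc hd').symm

theorem InvBy.conj {u d : G} (h : InvBy u d) (g : G) : InvBy (g * u * g⁻¹) (g * d * g⁻¹) := by
  refine ⟨?_, ?_, ?_, ?_⟩
  · intro h1; apply h.1
    have : u = g⁻¹ * (g * u * g⁻¹) * g := by group
    rw [this, h1]; group
  · calc g * u * g⁻¹ * (g * u * g⁻¹) = g * (u * u) * g⁻¹ := by group
      _ = 1 := by rw [h.2.1]; group
  · calc g * u * g⁻¹ * (g * d * g⁻¹) * (g * u * g⁻¹)⁻¹ = g * (u * d * u⁻¹) * g⁻¹ := by group
      _ = (g * d * g⁻¹)⁻¹ := by rw [h.2.2.1]; group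
  · intro h1; apply h.2.2.2
    have : d * d = g⁻¹ * ((g * d * g⁻¹) * (g * d * g⁻¹)) * g := by group
    rw [this, h1]; group

/-- If `h d' h⁻¹ = d₀` with `d', d₀ ∈ C(d) \ 1`, then `h ∈ C(d)` or `u h ∈ C(d)`. -/
theorem normalizer_cases [Finite G] (H : V4Hyp G) {u d d' d₀ : G} (hu : InvBy u d)
    (hd' : d * d' = d' * d) (hd'1 : d' ≠ 1) (hd₀ : d * d₀ = d₀ * d) (h : G)
    (hh : h * d' * h⁻¹ = d₀) : d * h = h * d ∨ d * (u * h) = (u * h) * d := by
  have huinv := hu.inv_eq
  have hd₀1 : d₀ ≠ 1 := by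
    intro h1; apply hd'1
    have : d' = h⁻¹ * (h * d' * h⁻¹) * h := by group
    rw [this, hh, h1]; group
  -- `h` normalizes `C(d)`
  have hN : ∀ k : G, d * k = k * d → d * (h⁻¹ * k * h) = (h⁻¹ * k * h) * d := by
    intro k hk
    have h1 : d₀ * k = k * d₀ := (hu.cent_iff H hd₀ hd₀1 k).mpr hk
    have h2 : d' * (h⁻¹ * k * h) = (h⁻¹ * k * h) * d' := by
      calc d' * (h⁻¹ * k * h) = h⁻¹ * ((h * d' * h⁻¹) * k) * h := by group
        _ = h⁻¹ * (k * (h * d' * h⁻¹)) * h := by rw [hh, h1]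
        _ = (h⁻¹ * k * h) * d' := by group
    exact (hu.cent_iff H hd' hd'1 _).mp h2
  -- `h u h⁻¹` inverts `C(d)`
  have hinv' : ∀ k : G, d * k = k * d → (h * u * h⁻¹) * k * (h * u * h⁻¹)⁻¹ = k⁻¹ := by
    intro k hk
    have h1 := hu.inverts H _ (hN k hk)
    calc (h * u * h⁻¹) * k * (h * u * h⁻¹)⁻¹ = h * (u * (h⁻¹ * k * h) * u⁻¹) * h⁻¹ := by group
      _ = h * (h⁻¹ * k * h)⁻¹ * h⁻¹ := by rw [h1]
      _ = k⁻¹ := by group
  -- `k₀ = u (h u h⁻¹)` centralizes `d`
  have hk₀ : d * (u * (h * u * h⁻¹)) = (u * (h * u * h⁻¹)) * d := by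
    have h1 := hinv' d rfl
    have h2 : (u * (h * u * h⁻¹)) * d * (u * (h * u * h⁻¹))⁻¹ = d := by
      calc (u * (h * u * h⁻¹)) * d * (u * (h * u * h⁻¹))⁻¹
          = u * ((h * u * h⁻¹) * d * (h * u * h⁻¹)⁻¹) * u⁻¹ := by group
        _ = u * d⁻¹ * u⁻¹ := by rw [h1]
        _ = d := hu.conj'
    exact (mul_inv_eq_iff_eq_mul.mp h2).symm
  -- a square root of `k₀`
  obtain ⟨r, hrM, hrr⟩ := exists_sq_eq (centralizer ({d} : Set G))
    (fun a ha b hb => hu.comm H a b ((mem_centralizer_singleton d a).mp ha)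
      ((mem_centralizer_singleton d b).mp hb))
    (fun a ha haa => hu.no_invol H a ((mem_centralizer_singleton d a).mp ha) haa)
    (u * (h * u * h⁻¹)) ((mem_centralizer_singleton d _).mpr hk₀)
  rw [mem_centralizer_singleton] at hrM
  have hrinv : u * r * u⁻¹ = r⁻¹ := hu.inverts H r hrM
  -- `t = r h` commutes with `u`
  have ht : (r * h) * u * (r * h)⁻¹ = u := by
    have e1 : h * u * h⁻¹ = u⁻¹ * (r * r) := by rw [hrr]; group
    calc (r * h) * u * (r * h)⁻¹ = r * (h * u * h⁻¹) * r⁻¹ := by group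
      _ = r * (u⁻¹ * (r * r)) * r⁻¹ := by rw [e1]
      _ = r * u⁻¹ * r := by group
      _ = r * u * r := by rw [huinv]
      _ = r * ((u * r * u⁻¹) * u) := by group
      _ = u := by rw [hrinv]; group
  have htu : u * (r * h) = (r * h) * u := (mul_inv_eq_iff_eq_mul.mp ht).symm
  have htt : (r * h) * (r * h) = 1 := H.exp2 u hu.1 hu.2.1 _ htu
  have htinv : (r * h)⁻¹ = r * h := inv_eq_of_mul_eq_one_left htt
  by_cases ht1 : r * h = 1
  · left
    have : h = r⁻¹ := eq_inv_of_mul_eq_one_right ht1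
    rw [this]
    exact comm_inv_of_comm' hrM
  by_cases htu' : r * h = u
  · right
    have e : u * h = r := by
      have e1 : h = r⁻¹ * u := by rw [← htu']; group
      rw [e1]
      calc u * (r⁻¹ * u) = (u * r * u⁻¹)⁻¹ * (u * u) := by group
        _ = r := by rw [hrinv, hu.2.1]; group
    rw [e]; exact hrM
  exfalso
  -- `t` inverts `C(d)`
  have htnorm : ∀ k ∈ centralizer ({d} : Set G), (r * h) * k * (r * h)⁻¹ ∈ centralizer ({d} : Set G) := by
    intro k hk
    rw [mem_centralizer_singleton] at hk ⊢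
    have h1 : (r * h) * k * (r * h)⁻¹ = (r * h)⁻¹ * k * (r * h) := by rw [htinv]
    have h2 : (r * h)⁻¹ * k * (r * h) = h⁻¹ * (r⁻¹ * k * r) * h := by group
    have h3 : r⁻¹ * k * r = k := by
      have := hu.comm H k r hk hrM
      calc r⁻¹ * k * r = r⁻¹ * (k * r) := by group
        _ = r⁻¹ * (r * k) := by rw [this]
        _ = k := by group
    rw [h1, h2, h3]
    exact hN k hk
  have htfpf : ∀ k ∈ centralizer ({d} : Set G), (r * h) * k * (r * h)⁻¹ = k → k = 1 := by
    intro k hk hfix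
    rw [mem_centralizer_singleton] at hk
    have h1 : (r * h) * k = k * (r * h) := mul_inv_eq_iff_eq_mul.mp hfix
    exact hu.no_invol H k hk (H.exp2 (r * h) ht1 htt k h1)
  have htinvM := fpf_inv (centralizer ({d} : Set G)) (r * h) htt htnorm htfpf d
    ((mem_centralizer_singleton d d).mpr rfl)
  -- `u t` centralizes `d` and is an involution or trivial
  have h5 : d * (u * (r * h)) = (u * (r * h)) * d := by
    have h6 : (u * (r * h)) * d * (u * (r * h))⁻¹ = d := by
      calc (u * (r * h)) * d * (u * (r * h))⁻¹ = u * ((r * h) * d * (r * h)⁻¹) * u⁻¹ := by group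
        _ = u * d⁻¹ * u⁻¹ := by rw [htinvM]
        _ = d := hu.conj'
    exact (mul_inv_eq_iff_eq_mul.mp h6).symm
  have h7 : (u * (r * h)) * (u * (r * h)) = 1 := by
    calc (u * (r * h)) * (u * (r * h)) = u * ((r * h) * u) * (r * h) := by group
      _ = u * (u * (r * h)) * (r * h) := by rw [← htu]
      _ = (u * u) * ((r * h) * (r * h)) := by group
      _ = 1 := by rw [hu.2.1, htt, mul_one]
  have h8 := hu.no_invol H _ h5 h7
  apply htu'
  have : r * h = u⁻¹ := eq_inv_of_mul_eq_one_right h8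
  rw [this, huinv]

end Basic

section Count

variable {G : Type*} [Group G] [Fintype G] [DecidableEq G]

/-- The involutions of `G`. -/
def invs (G : Type*) [Group G] [Fintype G] [DecidableEq G] : Finset G :=
  Finset.univ.filter (fun u => u ≠ 1 ∧ u * u = 1)

open Classical in
/-- The elements inverted by an involution, of order at least 3. -/
noncomputable def srs (G : Type*) [Group G] [Fintype G] : Finset G :=
  Finset.univ.filter (fun d => SR d)

/-- The centralizer of `d` as a finset. -/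
def cent (d : G) : Finset G := Finset.univ.filter (fun c => d * c = c * d)

/-- The block of `d`: the conjugates of the nontrivial elements of `C(d)`. -/
def blk (d : G) : Finset G :=
  ((Finset.univ : Finset G) ×ˢ (cent d).erase 1).image (fun p => p.1 * p.2 * p.1⁻¹)

theorem mem_invs {u : G} : u ∈ invs G ↔ u ≠ 1 ∧ u * u = 1 := by simp [invs]

omit [DecidableEq G] in
theorem mem_srs {d : G} : d ∈ srs G ↔ SR d := by simp [srs]

theorem mem_cent {d c : G} : c ∈ cent d ↔ d * c = c * d := by simp [cent]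

theorem mem_blk {d b : G} :
    b ∈ blk d ↔ ∃ g d' : G, d * d' = d' * d ∧ d' ≠ 1 ∧ g * d' * g⁻¹ = b := by
  simp only [blk, Finset.mem_image, Finset.mem_product, Finset.mem_univ, true_and,
    Finset.mem_erase, mem_cent, Prod.exists]
  constructor
  · rintro ⟨g, d', ⟨h1, h2⟩, h3⟩; exact ⟨g, d', h2, h1, h3⟩
  · rintro ⟨g, d', h2, h1, h3⟩; exact ⟨g, d', ⟨h1, h2⟩, h3⟩

theorem card_cent (d : G) : (cent d).card = Nat.card (centralizer ({d} : Set G)) := by
  have : Fintype (centralizer ({d} : Set G)) := Fintype.ofFinite _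
  rw [Nat.card_eq_fintype_card]
  exact (Fintype.card_of_subtype (cent d)
    (fun c => by rw [mem_cent, mem_centralizer_singleton])).symm

theorem one_mem_cent (d : G) : (1 : G) ∈ cent d := by rw [mem_cent, mul_one, one_mul]

theorem card_invs (H : V4Hyp G) (x : G) (hx1 : x ≠ 1) (hxx : x * x = 1) :
    4 * (invs G).card = Fintype.card G := by
  have hmaps : ((Finset.univ : Finset G) : Set G).MapsTo (fun g => g * x * g⁻¹) (invs G) := by
    intro g _
    rw [Finset.mem_coe, mem_invs]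
    refine ⟨?_, ?_⟩
    · intro h1; apply hx1
      have h1' : g * x * g⁻¹ = 1 := h1
      have : x = g⁻¹ * (g * x * g⁻¹) * g := by group
      rw [this, h1']; group
    · show g * x * g⁻¹ * (g * x * g⁻¹) = 1
      calc g * x * g⁻¹ * (g * x * g⁻¹) = g * (x * x) * g⁻¹ := by group
        _ = 1 := by rw [hxx]; group
  have h1 := Finset.card_eq_sum_card_fiberwise hmaps
  have h2 : ∀ u ∈ invs G, (Finset.univ.filter (fun g : G => g * x * g⁻¹ = u)).card = 4 := by
    intro u hu
    obtain ⟨hu1, huu⟩ := mem_invs.mp hu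
    obtain ⟨g₀, hg₀⟩ := H.conj x u hx1 hxx hu1 huu
    have h3 : (cent x).card = (Finset.univ.filter (fun g : G => g * x * g⁻¹ = u)).card := by
      apply Finset.card_bij' (fun c _ => g₀ * c) (fun g _ => g₀⁻¹ * g)
      · intro c hc
        rw [mem_cent] at hc
        rw [Finset.mem_filter]
        refine ⟨Finset.mem_univ _, ?_⟩
        calc g₀ * c * x * (g₀ * c)⁻¹ = g₀ * ((c * x) * c⁻¹) * g₀⁻¹ := by group
          _ = g₀ * ((x * c) * c⁻¹) * g₀⁻¹ := by rw [hc]
          _ = g₀ * x * g₀⁻¹ := by group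
          _ = u := hg₀
      · intro g hg
        rw [Finset.mem_filter] at hg
        rw [mem_cent]
        have h4 : g₀⁻¹ * g * x * (g₀⁻¹ * g)⁻¹ = x := by
          calc g₀⁻¹ * g * x * (g₀⁻¹ * g)⁻¹ = g₀⁻¹ * (g * x * g⁻¹) * g₀ := by group
            _ = g₀⁻¹ * (g₀ * x * g₀⁻¹) * g₀ := by rw [hg.2, hg₀]
            _ = x := by group
        exact (mul_inv_eq_iff_eq_mul.mp h4).symm
      · intro c _; show g₀⁻¹ * (g₀ * c) = c; group
      · intro g _; show g₀ * (g₀⁻¹ * g) = g; group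
    rw [← h3, card_cent, H.card4 x hx1 hxx]
  rw [Finset.sum_congr rfl h2, Finset.sum_const, smul_eq_mul, Finset.card_univ] at h1
  omega

theorem card_comm_invs (H : V4Hyp G) (u : G) (hu : u ∈ invs G) :
    ((invs G).filter (fun v => u * v = v * u)).card = 3 := by
  obtain ⟨hu1, huu⟩ := mem_invs.mp hu
  have h1 : (invs G).filter (fun v => u * v = v * u) = (cent u).erase 1 := by
    ext v
    simp only [Finset.mem_filter, mem_invs, Finset.mem_erase, mem_cent]
    constructor
    · rintro ⟨⟨hv1, _⟩, hc⟩; exact ⟨hv1, hc⟩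
    · rintro ⟨hv1, hc⟩; exact ⟨⟨hv1, H.exp2 u hu1 huu v hc⟩, hc⟩
  rw [h1, Finset.card_erase_of_mem (one_mem_cent u), card_cent, H.card4 u hu1 huu]

theorem card_inverted_by (H : V4Hyp G) (u : G) (hu : u ∈ invs G) :
    ((srs G).filter (fun d => u * d * u⁻¹ = d⁻¹)).card + 3 = (invs G).card := by
  obtain ⟨hu1, huu⟩ := mem_invs.mp hu
  have huinv : u⁻¹ = u := inv_eq_of_mul_eq_one_left huu
  have h1 : ((srs G).filter (fun d => u * d * u⁻¹ = d⁻¹)).card =
      ((invs G).filter (fun v => ¬ (u * v = v * u))).card := by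
    apply Finset.card_bij' (fun d _ => u * d) (fun v _ => u * v)
    rotate_left 2
    · intro d _; show u * (u * d) = d; rw [← mul_assoc, huu, one_mul]
    · intro v _; show u * (u * v) = v; rw [← mul_assoc, huu, one_mul]
    · intro d hd
      rw [Finset.mem_filter, mem_srs] at hd
      obtain ⟨⟨w, hw⟩, hud⟩ := hd
      have hdd : d * d ≠ 1 := hw.2.2.2
      rw [Finset.mem_filter, mem_invs]
      refine ⟨⟨?_, ?_⟩, ?_⟩
      · intro h; apply hdd
        have : d = u⁻¹ := eq_inv_of_mul_eq_one_right h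
        rw [this, huinv, huu]
      · calc u * d * (u * d) = (u * d * u⁻¹) * (u * u) * d := by group
          _ = 1 := by rw [hud, huu]; group
      · intro h
        apply hdd
        have h2 : u * (u * d) = d := by rw [← mul_assoc, huu, one_mul]
        have h3 : u * d * u = d⁻¹ := by
          calc u * d * u = u * d * u⁻¹ := by rw [huinv]
            _ = d⁻¹ := hud
        rw [h2, h3] at h
        calc d * d = d * d⁻¹ := by rw [← h]
          _ = 1 := mul_inv_cancel d
    · intro v hv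
      rw [Finset.mem_filter, mem_invs] at hv
      obtain ⟨⟨hv1, hvv⟩, hnc⟩ := hv
      have hvinv : v⁻¹ = v := inv_eq_of_mul_eq_one_left hvv
      rw [Finset.mem_filter, mem_srs]
      have hinvd : u * (u * v) * u⁻¹ = (u * v)⁻¹ := by
        calc u * (u * v) * u⁻¹ = (u * u) * v * u⁻¹ := by group
          _ = v⁻¹ * u⁻¹ := by rw [huu, one_mul, hvinv]
          _ = (u * v)⁻¹ := by group
      refine ⟨⟨u, hu1, huu, hinvd, ?_⟩, hinvd⟩
      intro h
      apply hnc
      calc u * v = (u * v)⁻¹ := (inv_eq_of_mul_eq_one_left h).symm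
        _ = v⁻¹ * u⁻¹ := mul_inv_rev u v
        _ = v * u := by rw [hvinv, huinv]
  have h2 := Finset.card_filter_add_card_filter_not (s := invs G) (fun v => u * v = v * u)
  rw [card_comm_invs H u hu] at h2
  rw [h1]; omega

theorem card_inverting (H : V4Hyp G) (d : G) (hd : d ∈ srs G) :
    ((invs G).filter (fun u => u * d * u⁻¹ = d⁻¹)).card = (cent d).card := by
  obtain ⟨u, hu⟩ := mem_srs.mp hd
  have huinv := hu.inv_eq
  symm
  apply Finset.card_bij' (fun k _ => k * u) (fun u' _ => u' * u⁻¹)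
  rotate_left 2
  · intro k _; show k * u * u⁻¹ = k; group
  · intro u' _; show u' * u⁻¹ * u = u'; group
  · intro k hk
    rw [mem_cent] at hk
    have hinv := hu.inverts H k hk
    rw [Finset.mem_filter, mem_invs]
    refine ⟨⟨?_, ?_⟩, ?_⟩
    · intro h
      have hk' : u = k⁻¹ := eq_inv_of_mul_eq_one_right h
      apply hu.1
      apply hu.no_invol H u ?_ hu.2.1
      rw [hk']
      exact comm_inv_of_comm' hk
    · calc k * u * (k * u) = k * (u * k * u⁻¹) * (u * u) := by group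
        _ = 1 := by rw [hinv, hu.2.1]; group
    · calc k * u * d * (k * u)⁻¹ = k * (u * d * u⁻¹) * k⁻¹ := by group
        _ = k * d⁻¹ * k⁻¹ := by rw [hu.2.2.1]
        _ = (k * d * k⁻¹)⁻¹ := by group
        _ = d⁻¹ := by rw [← hk]; group
  · intro u' hu'
    rw [Finset.mem_filter, mem_invs] at hu'
    obtain ⟨⟨hu'1, hu'u'⟩, hu'd⟩ := hu'
    rw [mem_cent]
    have h1 : u⁻¹ * d * u = d⁻¹ := by
      calc u⁻¹ * d * u = u * d * u⁻¹ := by rw [huinv]
        _ = d⁻¹ := hu.2.2.1
    have h2 : u' * u⁻¹ * d * (u' * u⁻¹)⁻¹ = d := by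
      calc u' * u⁻¹ * d * (u' * u⁻¹)⁻¹ = u' * (u⁻¹ * d * u) * u'⁻¹ := by group
        _ = u' * d⁻¹ * u'⁻¹ := by rw [h1]
        _ = (u' * d * u'⁻¹)⁻¹ := by group
        _ = d := by rw [hu'd, inv_inv]
    exact (mul_inv_eq_iff_eq_mul.mp h2).symm

theorem sum_cent (H : V4Hyp G) :
    ∑ d ∈ srs G, (cent d).card + 3 * (invs G).card = (invs G).card * (invs G).card := by
  have h1 := Finset.sum_card_bipartiteAbove_eq_sum_card_bipartiteBelow
    (fun (u d : G) => u * d * u⁻¹ = d⁻¹) (s := invs G) (t := srs G)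
  have h2 : ∑ d ∈ srs G, (cent d).card =
      ∑ d ∈ srs G, ((invs G).bipartiteBelow (fun (u d : G) => u * d * u⁻¹ = d⁻¹) d).card :=
    Finset.sum_congr rfl (fun d hd => (card_inverting H d hd).symm)
  have h3 : ∑ u ∈ invs G, (((srs G).bipartiteAbove (fun (u d : G) => u * d * u⁻¹ = d⁻¹) u).card
      + 3) = ∑ u ∈ invs G, (invs G).card :=
    Finset.sum_congr rfl (fun u hu => card_inverted_by H u hu)
  rw [Finset.sum_add_distrib, Finset.sum_const, Finset.sum_const, smul_eq_mul, smul_eq_mul] at h3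
  rw [h2, ← h1]; linarith

theorem card_srs_le : (srs G).card + (invs G).card + 1 ≤ Fintype.card G := by
  have h1 : srs G ⊆ Finset.univ.filter (fun d : G => ¬ (d * d = 1)) := by
    intro d hd
    obtain ⟨u, hu⟩ := mem_srs.mp hd
    rw [Finset.mem_filter]
    exact ⟨Finset.mem_univ _, hu.2.2.2⟩
  have h2 : Finset.univ.filter (fun d : G => d * d = 1) = insert 1 (invs G) := by
    ext d
    simp only [Finset.mem_filter, Finset.mem_univ, true_and, Finset.mem_insert, mem_invs]
    constructor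
    · intro h
      by_cases h1 : d = 1
      · left; exact h1
      · right; exact ⟨h1, h⟩
    · rintro (rfl | ⟨_, h⟩)
      · simp
      · exact h
  have h3 := Finset.card_filter_add_card_filter_not (s := (Finset.univ : Finset G))
    (fun d : G => d * d = 1)
  have h4 : (insert 1 (invs G)).card = (invs G).card + 1 :=
    Finset.card_insert_of_notMem (by simp [mem_invs])
  have h5 := Finset.card_le_card h1
  rw [h2, h4, Finset.card_univ] at h3
  omega

theorem cent_odd (H : V4Hyp G) (d : G) (hd : d ∈ srs G) :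
    3 ≤ (cent d).card ∧ Odd (cent d).card := by
  obtain ⟨u, hu⟩ := mem_srs.mp hd
  have hodd : Odd (cent d).card := by
    rw [card_cent]
    by_contra hne
    rw [Nat.not_odd_iff_even] at hne
    have : Fact (Nat.Prime 2) := ⟨Nat.prime_two⟩
    obtain ⟨k, hk⟩ := exists_prime_orderOf_dvd_card' (G := centralizer ({d} : Set G)) 2
      hne.two_dvd
    have hk2 : k * k = 1 := by rw [← pow_two, ← hk]; exact pow_orderOf_eq_one k
    have hk1 : k ≠ 1 := by intro h; rw [h, orderOf_one] at hk; omega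
    apply hk1
    apply Subtype.ext
    exact hu.no_invol H k.1 ((mem_centralizer_singleton d k.1).mp k.2) (congrArg Subtype.val hk2)
  refine ⟨?_, hodd⟩
  have h2 : ({1, d} : Finset G) ⊆ cent d := by
    intro c hc
    rw [Finset.mem_insert, Finset.mem_singleton] at hc
    rcases hc with rfl | rfl
    · exact one_mem_cent d
    · rw [mem_cent]
  have h3 : ({1, d} : Finset G).card = 2 := Finset.card_pair (Ne.symm hu.ne_one)
  have h4 := Finset.card_le_card h2
  obtain ⟨j, hj⟩ := hodd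
  omega

theorem blk_subset (H : V4Hyp G) (d : G) (hd : d ∈ srs G) : blk d ⊆ srs G := by
  obtain ⟨u, hu⟩ := mem_srs.mp hd
  intro b hb
  obtain ⟨g, d', hc, h1, rfl⟩ := mem_blk.mp hb
  exact mem_srs.mpr ⟨_, (hu.sub H hc h1).conj g⟩

theorem cent_eq_of_mem (H : V4Hyp G) {u d d' : G} (hu : InvBy u d) (hc : d * d' = d' * d)
    (h1 : d' ≠ 1) : cent d' = cent d := by
  ext c
  rw [mem_cent, mem_cent]
  exact hu.cent_iff H hc h1 c

theorem cent_card_blk (H : V4Hyp G) (d : G) (hd : d ∈ srs G) (b : G) (hb : b ∈ blk d) :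
    (cent b).card = (cent d).card := by
  obtain ⟨u, hu⟩ := mem_srs.mp hd
  obtain ⟨g, d', hc, h1, rfl⟩ := mem_blk.mp hb
  rw [card_cent, card_centralizer_conj, ← card_cent, cent_eq_of_mem H hu hc h1]

theorem self_mem_blk (d : G) (hd : d ∈ srs G) : d ∈ blk d := by
  obtain ⟨u, hu⟩ := mem_srs.mp hd
  exact mem_blk.mpr ⟨1, d, rfl, hu.ne_one, by group⟩

theorem blk_eq (H : V4Hyp G) (d : G) (hd : d ∈ srs G) (b : G) (hb : b ∈ blk d) :
    blk b = blk d := by
  obtain ⟨u, hu⟩ := mem_srs.mp hd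
  obtain ⟨g, d', hc, h1, rfl⟩ := mem_blk.mp hb
  ext e
  rw [mem_blk, mem_blk]
  constructor
  · rintro ⟨h, b', hb'c, hb'1, rfl⟩
    refine ⟨h * g, g⁻¹ * b' * g, ?_, ?_, by group⟩
    · have h2 : d' * (g⁻¹ * b' * g) = (g⁻¹ * b' * g) * d' := by
        calc d' * (g⁻¹ * b' * g) = g⁻¹ * ((g * d' * g⁻¹) * b') * g := by group
          _ = g⁻¹ * (b' * (g * d' * g⁻¹)) * g := by rw [hb'c]
          _ = (g⁻¹ * b' * g) * d' := by group
      exact (hu.cent_iff H hc h1 _).mp h2
    · intro h2; apply hb'1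
      have : b' = g * (g⁻¹ * b' * g) * g⁻¹ := by group
      rw [this, h2]; group
  · rintro ⟨h, d'', hd''c, hd''1, rfl⟩
    refine ⟨h * g⁻¹, g * d'' * g⁻¹, ?_, ?_, by group⟩
    · have h2 : d' * d'' = d'' * d' := (hu.cent_iff H hc h1 _).mpr hd''c
      calc g * d' * g⁻¹ * (g * d'' * g⁻¹) = g * (d' * d'') * g⁻¹ := by group
        _ = g * (d'' * d') * g⁻¹ := by rw [h2]
        _ = g * d'' * g⁻¹ * (g * d' * g⁻¹) := by group
    · intro h2; apply hd''1
      have : d'' = g⁻¹ * (g * d'' * g⁻¹) * g := by group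
      rw [this, h2]; group

theorem blk_card (H : V4Hyp G) (d : G) (hd : d ∈ srs G) :
    2 * (cent d).card * (blk d).card = Fintype.card G * ((cent d).card - 1) := by
  obtain ⟨u, hu⟩ := mem_srs.mp hd
  have huinv := hu.inv_eq
  have hXcard : ((Finset.univ : Finset G) ×ˢ (cent d).erase 1).card =
      Fintype.card G * ((cent d).card - 1) := by
    rw [Finset.card_product, Finset.card_univ, Finset.card_erase_of_mem (one_mem_cent d)]
  have hmaps : (((Finset.univ : Finset G) ×ˢ (cent d).erase 1 : Finset (G × G)) : Set (G × G)).MapsTo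
      (fun p => p.1 * p.2 * p.1⁻¹) (blk d) := by
    intro p hp; exact Finset.mem_image_of_mem _ hp
  have h1 := Finset.card_eq_sum_card_fiberwise hmaps
  have h2 : ∀ b ∈ blk d, ((((Finset.univ : Finset G) ×ˢ (cent d).erase 1).filter
      (fun p => p.1 * p.2 * p.1⁻¹ = b))).card = 2 * (cent d).card := by
    intro b hb
    obtain ⟨g₀, d₀, hd₀c, hd₀1, hb⟩ := mem_blk.mp hb
    have hd₀inv : u * d₀ * u⁻¹ = d₀⁻¹ := hu.inverts H d₀ hd₀c
    have hd₀inv' : u * d₀⁻¹ * u⁻¹ = d₀ := by
      calc u * d₀⁻¹ * u⁻¹ = (u * d₀ * u⁻¹)⁻¹ := by group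
        _ = d₀ := by rw [hd₀inv, inv_inv]
    have hd₀ne : d₀ ≠ d₀⁻¹ := by
      intro h; apply hd₀1; apply hu.no_invol H d₀ hd₀c
      calc d₀ * d₀ = d₀ * d₀⁻¹ := by rw [← h]
        _ = 1 := mul_inv_cancel d₀
    have hF : ((Finset.univ : Finset G) ×ˢ (cent d).erase 1).filter
        (fun p => p.1 * p.2 * p.1⁻¹ = b) =
        (cent d).image (fun h => (g₀ * h, d₀)) ∪ (cent d).image (fun h => (g₀ * u * h, d₀⁻¹)) := by
      ext ⟨g, d'⟩
      simp only [Finset.mem_filter, Finset.mem_product, Finset.mem_univ, true_and,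
        Finset.mem_erase, mem_cent, Finset.mem_union, Finset.mem_image, Prod.mk.injEq]
      constructor
      · rintro ⟨⟨hd'1, hd'c⟩, hgd⟩
        have hh : (g₀⁻¹ * g) * d' * (g₀⁻¹ * g)⁻¹ = d₀ := by
          calc (g₀⁻¹ * g) * d' * (g₀⁻¹ * g)⁻¹ = g₀⁻¹ * (g * d' * g⁻¹) * g₀ := by group
            _ = g₀⁻¹ * (g₀ * d₀ * g₀⁻¹) * g₀ := by rw [hgd, hb]
            _ = d₀ := by group
        rcases normalizer_cases H hu hd'c hd'1 hd₀c (g₀⁻¹ * g) hh with hM | hM
        · left
          refine ⟨g₀⁻¹ * g, hM, by group, ?_⟩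
          have hcm := hu.comm H (g₀⁻¹ * g) d' hM hd'c
          rw [← hh, hcm]; group
        · right
          refine ⟨u * (g₀⁻¹ * g), hM, ?_, ?_⟩
          · calc g₀ * u * (u * (g₀⁻¹ * g)) = g₀ * (u * u) * (g₀⁻¹ * g) := by group
              _ = g := by rw [hu.2.1]; group
          · have hcm := hu.comm H (u * (g₀⁻¹ * g)) d' hM hd'c
            have e1 : d₀ = u⁻¹ * ((u * (g₀⁻¹ * g)) * d' * (u * (g₀⁻¹ * g))⁻¹) * u := by
              rw [← hh]; group
            have e2 : (u * (g₀⁻¹ * g)) * d' * (u * (g₀⁻¹ * g))⁻¹ = d' := by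
              rw [hcm]; group
            rw [e2] at e1
            have e3 : u⁻¹ * d' * u = d'⁻¹ := by
              calc u⁻¹ * d' * u = u * d' * u⁻¹ := by rw [huinv]
                _ = d'⁻¹ := hu.inverts H d' hd'c
            rw [e3] at e1
            rw [e1, inv_inv]
      · rintro (⟨h, hh, rfl, rfl⟩ | ⟨h, hh, rfl, rfl⟩)
        · refine ⟨⟨hd₀1, hd₀c⟩, ?_⟩
          have hcm := hu.comm H h d₀ hh hd₀c
          calc g₀ * h * d₀ * (g₀ * h)⁻¹ = g₀ * ((h * d₀) * h⁻¹) * g₀⁻¹ := by group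
            _ = g₀ * ((d₀ * h) * h⁻¹) * g₀⁻¹ := by rw [hcm]
            _ = g₀ * d₀ * g₀⁻¹ := by group
            _ = b := hb
        · refine ⟨⟨inv_ne_one.mpr hd₀1, (comm_inv_of_comm' hd₀c)⟩, ?_⟩
          have hcm := hu.comm H h d₀⁻¹ hh (comm_inv_of_comm' hd₀c)
          calc g₀ * u * h * d₀⁻¹ * (g₀ * u * h)⁻¹ = g₀ * (u * ((h * d₀⁻¹) * h⁻¹) * u⁻¹) * g₀⁻¹ := by
                group
            _ = g₀ * (u * ((d₀⁻¹ * h) * h⁻¹) * u⁻¹) * g₀⁻¹ := by rw [hcm]
            _ = g₀ * (u * d₀⁻¹ * u⁻¹) * g₀⁻¹ := by group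
            _ = g₀ * d₀ * g₀⁻¹ := by rw [hd₀inv']
            _ = b := hb
    rw [hF, Finset.card_union_of_disjoint, Finset.card_image_of_injective,
      Finset.card_image_of_injective]
    · ring
    · intro a b hab
      have := (Prod.mk.injEq _ _ _ _ ▸ hab).1
      exact mul_left_cancel this
    · intro a b hab
      have := (Prod.mk.injEq _ _ _ _ ▸ hab).1
      exact mul_left_cancel this
    · rw [Finset.disjoint_left]
      intro p hp1 hp2
      obtain ⟨a, _, rfl⟩ := Finset.mem_image.mp hp1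
      obtain ⟨b, _, hb'⟩ := Finset.mem_image.mp hp2
      exact hd₀ne (Prod.mk.injEq _ _ _ _ ▸ hb').2.symm
  rw [Finset.sum_congr rfl h2, Finset.sum_const, smul_eq_mul] at h1
  rw [← hXcard, h1]; ring

/-- **The count.** Under `V4Hyp`, the number of involutions is `3` or `15`. -/
theorem card_invs_eq_three_or_fifteen (H : V4Hyp G) (x : G) (hx1 : x ≠ 1) (hxx : x * x = 1) :
    (invs G).card = 3 ∨ (invs G).card = 15 := by
  have hG := card_invs H x hx1 hxx
  apply block_arith (srs G) (fun d => (cent d).card) blk (invs G).card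
  · exact blk_subset H
  · exact cent_card_blk H
  · intro d hd
    have h1 := blk_card H d hd
    rw [← hG] at h1
    have hc := (cent_odd H d hd).1
    obtain ⟨c', hc'⟩ : ∃ c', (cent d).card = c' + 1 := ⟨(cent d).card - 1, by omega⟩
    show (cent d).card * (blk d).card + 2 * (invs G).card = 2 * (invs G).card * (cent d).card
    rw [hc'] at h1 ⊢
    rw [Nat.add_sub_cancel] at h1
    nlinarith
  · exact blk_eq H
  · exact self_mem_blk
  · exact cent_odd H
  · exact sum_cent H
  · have := card_srs_le (G := G)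
    omega

end Count

end Cfsg.Agent.H60
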