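import Mathlib

/-!
# General lemmas on involutions (helper60)

Fixed-point-free involutions invert, square roots in commutative subgroups without involutions,
the dihedral dichotomy for a pair of involutions, centralizers of conjugates, subgroups of order 4.
-/

set_option autoImplicit false

namespace Cfsg.Agent.H60

open Subgroup

/-- An involution acting on a finite subgroup without nontrivial fixed points inverts it. -/
theorem fpf_inv {G : Type*} [Group G] (K : Subgroup G) [Finite K] (u : G) (hu : u * u = 1)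
    (hnorm : ∀ k ∈ K, u * k * u⁻¹ ∈ K) (hfpf : ∀ k ∈ K, u * k * u⁻¹ = k → k = 1) :
    ∀ k ∈ K, u * k * u⁻¹ = k⁻¹ := by
  have hu' : u⁻¹ = u := inv_eq_of_mul_eq_one_left hu
  let f : K → K := fun k => ⟨k.1⁻¹ * (u * k.1 * u⁻¹), K.mul_mem (K.inv_mem k.2) (hnorm k.1 k.2)⟩
  have hf : Function.Injective f := by
    intro a b hab
    have h1 : a.1⁻¹ * (u * a.1 * u⁻¹) = b.1⁻¹ * (u * b.1 * u⁻¹) := congrArg Subtype.val hab
    have h2 : u * (b.1 * a.1⁻¹) * u⁻¹ = b.1 * a.1⁻¹ := by
      calc u * (b.1 * a.1⁻¹) * u⁻¹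
          = b.1 * (b.1⁻¹ * (u * b.1 * u⁻¹)) * (u * a.1 * u⁻¹)⁻¹ := by group
        _ = b.1 * (a.1⁻¹ * (u * a.1 * u⁻¹)) * (u * a.1 * u⁻¹)⁻¹ := by rw [h1]
        _ = b.1 * a.1⁻¹ := by group
    have h3 := hfpf _ (K.mul_mem b.2 (K.inv_mem a.2)) h2
    exact Subtype.ext (mul_inv_eq_one.mp h3).symm
  intro k hk
  obtain ⟨a, ha⟩ := (Finite.injective_iff_surjective.mp hf) ⟨k, hk⟩
  have hk' : k = a.1⁻¹ * (u * a.1 * u⁻¹) := (congrArg Subtype.val ha).symm
  rw [hk']
  calc u * (a.1⁻¹ * (u * a.1 * u⁻¹)) * u⁻¹ = u * a.1⁻¹ * u * a.1 * (u⁻¹ * u⁻¹) := by group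
    _ = u * a.1⁻¹ * u * a.1 := by rw [hu', hu, mul_one]
    _ = u * a.1⁻¹ * u⁻¹ * a.1 := by rw [hu']
    _ = (a.1⁻¹ * (u * a.1 * u⁻¹))⁻¹ := by group

/-- A subgroup inverted elementwise by some element is commutative. -/
theorem comm_of_inv {G : Type*} [Group G] (K : Subgroup G) (u : G)
    (hinv : ∀ k ∈ K, u * k * u⁻¹ = k⁻¹) : ∀ a ∈ K, ∀ b ∈ K, a * b = b * a := by
  intro a ha b hb
  have h1 := hinv (a * b) (K.mul_mem ha hb)
  have h2 := hinv a ha
  have h3 := hinv b hb
  have h4 : u * (a * b) * u⁻¹ = (u * a * u⁻¹) * (u * b * u⁻¹) := by group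
  rw [h1, h2, h3] at h4
  have h5 := congrArg Inv.inv h4
  simpa [mul_inv_rev] using h5

/-- In a finite commutative subgroup without involutions every element is a square. -/
theorem exists_sq_eq {G : Type*} [Group G] (M : Subgroup G) [Finite M]
    (hcomm : ∀ a ∈ M, ∀ b ∈ M, a * b = b * a) (hninv : ∀ a ∈ M, a * a = 1 → a = 1)
    (k : G) (hk : k ∈ M) : ∃ r ∈ M, r * r = k := by
  let f : M → M := fun a => ⟨a.1 * a.1, M.mul_mem a.2 a.2⟩
  have hf : Function.Injective f := by
    intro a b hab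
    have h1 : a.1 * a.1 = b.1 * b.1 := congrArg Subtype.val hab
    have h2 : (a.1 * b.1⁻¹) * (a.1 * b.1⁻¹) = 1 := by
      have hc := hcomm a.1 a.2 b.1⁻¹ (M.inv_mem b.2)
      calc (a.1 * b.1⁻¹) * (a.1 * b.1⁻¹) = a.1 * (b.1⁻¹ * a.1) * b.1⁻¹ := by group
        _ = a.1 * (a.1 * b.1⁻¹) * b.1⁻¹ := by rw [hc]
        _ = (a.1 * a.1) * b.1⁻¹ * b.1⁻¹ := by group
        _ = 1 := by rw [h1]; group
    have h3 := hninv _ (M.mul_mem a.2 (M.inv_mem b.2)) h2
    exact Subtype.ext (mul_inv_eq_one.mp h3)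
  obtain ⟨r, hr⟩ := (Finite.injective_iff_surjective.mp hf) ⟨k, hk⟩
  exact ⟨r.1, r.2, congrArg Subtype.val hr⟩

/-- Two involutions are conjugate, or some involution commutes with both. -/
theorem invol_pair_dichotomy {G : Type*} [Group G] [Finite G] (a b : G) (ha : a * a = 1)
    (hb : b * b = 1) :
    (∃ h : G, h * a * h⁻¹ = b) ∨
      ∃ w : G, w ≠ 1 ∧ w * w = 1 ∧ w * a = a * w ∧ w * b = b * w := by
  have hba : b * a = (a * b)⁻¹ := by
    rw [eq_inv_iff_mul_eq_one]
    calc b * a * (a * b) = b * (a * a) * b := by group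
      _ = 1 := by rw [ha, mul_one, hb]
  have key : ∀ j : ℕ, (a * b) ^ j * a = a * (b * a) ^ j := by
    intro j
    induction j with
    | zero => simp
    | succ j ih =>
      calc (a * b) ^ (j + 1) * a = (a * b) * ((a * b) ^ j * a) := by rw [pow_succ', mul_assoc]
        _ = (a * b) * (a * (b * a) ^ j) := by rw [ih]
        _ = a * ((b * a) * (b * a) ^ j) := by simp only [mul_assoc]
        _ = a * (b * a) ^ (j + 1) := by rw [pow_succ']
  have key2 : ∀ j : ℕ, b * (a * b) ^ j = (b * a) ^ j * b := by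
    intro j
    induction j with
    | zero => simp
    | succ j ih =>
      calc b * (a * b) ^ (j + 1) = (b * (a * b) ^ j) * (a * b) := by rw [pow_succ, mul_assoc]
        _ = ((b * a) ^ j * b) * (a * b) := by rw [ih]
        _ = ((b * a) ^ j * (b * a)) * b := by simp only [mul_assoc]
        _ = (b * a) ^ (j + 1) * b := by rw [pow_succ]
  have hpos : 0 < orderOf (a * b) := orderOf_pos _
  rcases Nat.even_or_odd (orderOf (a * b)) with ⟨n, hn⟩ | ⟨k, hk⟩
  · right
    have hn0 : 0 < n := by omega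
    have hw2 : (a * b) ^ n * (a * b) ^ n = 1 := by
      rw [← pow_add, ← hn]; exact pow_orderOf_eq_one _
    have hwinv : ((a * b) ^ n)⁻¹ = (a * b) ^ n := inv_eq_of_mul_eq_one_left hw2
    refine ⟨(a * b) ^ n, ?_, hw2, ?_, ?_⟩
    · intro h
      have := orderOf_dvd_of_pow_eq_one h
      rw [hn] at this
      have := Nat.le_of_dvd hn0 this
      omega
    · rw [key n, hba, inv_pow, hwinv]
    · have := key2 n
      rw [hba, inv_pow, hwinv] at this
      exact this.symm
  · left
    refine ⟨(a * b) ^ k, ?_⟩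
    have h1 : (a * b) ^ (2 * k + 1) = 1 := by rw [← hk]; exact pow_orderOf_eq_one _
    have h2 : ((a * b) ^ k)⁻¹ * ((a * b) ^ k)⁻¹ = a * b := by
      rw [← mul_inv_rev, ← pow_add, inv_eq_iff_eq_inv, eq_inv_iff_mul_eq_one, ← pow_succ]
      rw [← h1]; congr 1; omega
    calc (a * b) ^ k * a * ((a * b) ^ k)⁻¹ = a * (b * a) ^ k * ((a * b) ^ k)⁻¹ := by rw [key k]
      _ = a * (((a * b) ^ k)⁻¹ * ((a * b) ^ k)⁻¹) := by rw [hba, inv_pow]; group
      _ = a * (a * b) := by rw [h2]
      _ = b := by rw [← mul_assoc, ha, one_mul]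

/-- Membership in the centralizer of a conjugate. -/
theorem mem_centralizer_conj_iff {G : Type*} [Group G] (g a c : G) :
    c ∈ centralizer ({g * a * g⁻¹} : Set G) ↔ g⁻¹ * c * g ∈ centralizer ({a} : Set G) := by
  simp only [mem_centralizer_iff, Set.mem_singleton_iff, forall_eq]
  constructor
  · intro h
    calc a * (g⁻¹ * c * g) = g⁻¹ * ((g * a * g⁻¹) * c) * g := by group
      _ = g⁻¹ * (c * (g * a * g⁻¹)) * g := by rw [h]
      _ = g⁻¹ * c * g * a := by group
  · intro h
    calc g * a * g⁻¹ * c = g * (a * (g⁻¹ * c * g)) * g⁻¹ := by group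
      _ = g * ((g⁻¹ * c * g) * a) * g⁻¹ := by rw [h]
      _ = c * (g * a * g⁻¹) := by group

/-- Membership in the centralizer of a single element. -/
theorem mem_centralizer_singleton {G : Type*} [Group G] (a c : G) :
    c ∈ centralizer ({a} : Set G) ↔ a * c = c * a := by
  simp only [mem_centralizer_iff, Set.mem_singleton_iff, forall_eq]

/-- Centralizers of conjugate elements have the same order. -/
theorem card_centralizer_conj {G : Type*} [Group G] (g a : G) :
    Nat.card (centralizer ({g * a * g⁻¹} : Set G)) = Nat.card (centralizer ({a} : Set G)) := by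
  apply Nat.card_congr
  exact
    { toFun := fun c => ⟨g⁻¹ * c.1 * g, (mem_centralizer_conj_iff g a c.1).mp c.2⟩
      invFun := fun c => ⟨g * c.1 * g⁻¹, (mem_centralizer_conj_iff g a _).mpr (by
        have : g⁻¹ * (g * c.1 * g⁻¹) * g = c.1 := by group
        rw [this]; exact c.2)⟩
      left_inv := fun c => Subtype.ext (by show g * (g⁻¹ * c.1 * g) * g⁻¹ = c.1; group)
      right_inv := fun c => Subtype.ext (by show g⁻¹ * (g * c.1 * g⁻¹) * g = c.1; group) }

/-- The elements of a subgroup of order 4 containing two suitable elements. -/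
theorem mem_four {G : Type*} [Group G] (V : Subgroup G) (hV : Nat.card V = 4) (a b : G)
    (ha : a ∈ V) (hb : b ∈ V) (ha1 : a ≠ 1) (hb1 : b ≠ 1) (hab : a ≠ b) (hab' : a * b ≠ 1)
    (w : G) (hw : w ∈ V) : w = 1 ∨ w = a ∨ w = b ∨ w = a * b := by
  classical
  have : Finite V := Nat.finite_of_card_ne_zero (by rw [hV]; norm_num)
  have : Fintype V := Fintype.ofFinite V
  let s : Finset V := {1, ⟨a, ha⟩, ⟨b, hb⟩, ⟨a * b, V.mul_mem ha hb⟩}
  have hs : s.card = 4 := by
    have h1 : (1 : V) ∉ ({⟨a, ha⟩, ⟨b, hb⟩, ⟨a * b, V.mul_mem ha hb⟩} : Finset V) := by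
      simp only [Finset.mem_insert, Finset.mem_singleton, not_or]
      refine ⟨?_, ?_, ?_⟩
      · intro h; exact ha1 (congrArg Subtype.val h).symm
      · intro h; exact hb1 (congrArg Subtype.val h).symm
      · intro h; exact hab' (congrArg Subtype.val h).symm
    have h2 : (⟨a, ha⟩ : V) ∉ ({⟨b, hb⟩, ⟨a * b, V.mul_mem ha hb⟩} : Finset V) := by
      simp only [Finset.mem_insert, Finset.mem_singleton, not_or]
      refine ⟨?_, ?_⟩
      · intro h; exact hab (congrArg Subtype.val h)
      · intro h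
        have : a = a * b := congrArg Subtype.val h
        exact hb1 (by simpa using this.symm)
    have h3 : (⟨b, hb⟩ : V) ∉ ({⟨a * b, V.mul_mem ha hb⟩} : Finset V) := by
      simp only [Finset.mem_singleton]
      intro h
      have : b = a * b := congrArg Subtype.val h
      exact ha1 (by simpa using this.symm)
    rw [Finset.card_insert_of_notMem h1, Finset.card_insert_of_notMem h2,
      Finset.card_insert_of_notMem h3, Finset.card_singleton]
  have hu : s = Finset.univ := by
    apply Finset.eq_univ_of_card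
    rw [hs, ← Nat.card_eq_fintype_card, hV]
  have hm : (⟨w, hw⟩ : V) ∈ s := by rw [hu]; exact Finset.mem_univ _
  simp only [s, Finset.mem_insert, Finset.mem_singleton] at hm
  rcases hm with h | h | h | h
  · left; exact congrArg Subtype.val h
  · right; left; exact congrArg Subtype.val h
  · right; right; left; exact congrArg Subtype.val h
  · right; right; right; exact congrArg Subtype.val h

end Cfsg.Agent.H60
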