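import Mathlib.GroupTheory.SpecificGroups.Dihedral
import Mathlib.Data.ZMod.Basic
import Mathlib.GroupTheory.Index

/-!
# The fusion combinatorics of `Z₂ × D₈` (helper60)

No "fusion relation" on `Z₂ × D₈` can satisfy the consequences of Thompson's transfer lemma,
Burnside's fusion theorem and extremal conjugation in a group without subgroups of index `2`.
-/

set_option autoImplicit false

namespace Cfsg.Agent.H60

/-- The group `Z₂ × D₈`. -/
abbrev ZD := Multiplicative (ZMod 2) × DihedralGroup 4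

/-- The generator of the direct factor of order two. -/
def zdZ : ZD := (Multiplicative.ofAdd 1, 1)
/-- The rotation of order four. -/
def zdA : ZD := (1, DihedralGroup.r 1)
/-- A reflection. -/
def zdB : ZD := (1, DihedralGroup.sr 0)

/-- The `z`-coordinate modulo the Frattini subgroup. -/
def zdzc (x : ZD) : Bool := decide (x.1 ≠ 1)
/-- The `b`-coordinate modulo the Frattini subgroup. -/
def zdbc (x : ZD) : Bool :=
  match x.2 with
  | DihedralGroup.r _ => false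
  | DihedralGroup.sr _ => true
/-- The `a`-coordinate modulo the Frattini subgroup. -/
def zdac (x : ZD) : Bool :=
  match x.2 with
  | DihedralGroup.r j => decide (j.val % 2 = 1)
  | DihedralGroup.sr j => decide (j.val % 2 = 1)

/-- A subgroup of `ZD` given by a Boolean predicate. -/
def zdSub (p : ZD → Bool) (h1 : p 1 = true)
    (hmul : ∀ x y, p x = true → p y = true → p (x * y) = true)
    (hinv : ∀ x, p x = true → p x⁻¹ = true) : Subgroup ZD where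
  carrier := {x | p x = true}
  mul_mem' := fun hx hy => hmul _ _ hx hy
  one_mem' := h1
  inv_mem' := fun hx => hinv _ hx

theorem mem_zdSub (p : ZD → Bool) (h1 : p 1 = true)
    (hmul : ∀ x y, p x = true → p y = true → p (x * y) = true)
    (hinv : ∀ x, p x = true → p x⁻¹ = true) (x : ZD) :
    x ∈ zdSub p h1 hmul hinv ↔ p x = true := Iff.rfl

/-- `D₈ = ⟨a, b⟩`. -/
def zdM1 : Subgroup ZD := zdSub (fun x => !zdzc x) (by decide) (by decide) (by decide)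
/-- `⟨za, b⟩`. -/
def zdM5 : Subgroup ZD := zdSub (fun x => !(xor (zdzc x) (zdac x))) (by decide) (by decide) (by decide)
/-- `⟨a, zb⟩`. -/
def zdM6 : Subgroup ZD := zdSub (fun x => !(xor (zdzc x) (zdbc x))) (by decide) (by decide) (by decide)
/-- `⟨za, zb⟩`. -/
def zdM7 : Subgroup ZD :=
  zdSub (fun x => !(xor (xor (zdzc x) (zdac x)) (zdbc x))) (by decide) (by decide) (by decide)

theorem zdM1_index : zdM1.index = 2 := by
  rw [Subgroup.index_eq_two_iff]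
  refine ⟨zdZ, ?_⟩
  simp only [zdM1, mem_zdSub]
  decide

theorem zdM5_index : zdM5.index = 2 := by
  rw [Subgroup.index_eq_two_iff]
  refine ⟨zdZ, ?_⟩
  simp only [zdM5, mem_zdSub]
  decide

theorem zdM6_index : zdM6.index = 2 := by
  rw [Subgroup.index_eq_two_iff]
  refine ⟨zdZ, ?_⟩
  simp only [zdM6, mem_zdSub]
  decide

theorem zdM7_index : zdM7.index = 2 := by
  rw [Subgroup.index_eq_two_iff]
  refine ⟨zdZ, ?_⟩
  simp only [zdM7, mem_zdSub]
  decide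

theorem zdZ_not_mem_M1 : zdZ ∉ zdM1 := by simp only [zdM1, mem_zdSub]; decide
theorem zdZ_not_mem_M5 : zdZ ∉ zdM5 := by simp only [zdM5, mem_zdSub]; decide
theorem zdZ_not_mem_M6 : zdZ ∉ zdM6 := by simp only [zdM6, mem_zdSub]; decide
theorem zdZ_not_mem_M7 : zdZ ∉ zdM7 := by simp only [zdM7, mem_zdSub]; decide

theorem zdM1_invol : ∀ v : ZD, v ∈ zdM1 → v ^ 2 = 1 → v ≠ 1 →
    v = zdA ^ 2 ∨ v = zdB ∨ v = zdA * zdB * zdA⁻¹ ∨ v = zdA * zdB ∨
      v = zdA * (zdA * zdB) * zdA⁻¹ := by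
  simp only [zdM1, mem_zdSub]
  decide

theorem zdM5_invol : ∀ v : ZD, v ∈ zdM5 → v ^ 2 = 1 → v ≠ 1 →
    v = zdA ^ 2 ∨ v = zdB ∨ v = zdA * zdB * zdA⁻¹ ∨ v = zdZ * zdA * zdB ∨
      v = zdA * (zdZ * zdA * zdB) * zdA⁻¹ := by
  simp only [zdM5, mem_zdSub]
  decide

theorem zdM6_invol : ∀ v : ZD, v ∈ zdM6 → v ^ 2 = 1 → v ≠ 1 →
    v = zdA ^ 2 ∨ v = zdZ * zdB ∨ v = zdA * (zdZ * zdB) * zdA⁻¹ ∨ v = zdZ * zdA * zdB ∨
      v = zdA * (zdZ * zdA * zdB) * zdA⁻¹ := by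
  simp only [zdM6, mem_zdSub]
  decide

theorem zdM7_invol : ∀ v : ZD, v ∈ zdM7 → v ^ 2 = 1 → v ≠ 1 →
    v = zdA ^ 2 ∨ v = zdZ * zdB ∨ v = zdA * (zdZ * zdB) * zdA⁻¹ ∨ v = zdA * zdB ∨
      v = zdA * (zdA * zdB) * zdA⁻¹ := by
  simp only [zdM7, mem_zdSub]
  decide

/-- Boolean form of: `p, q, r` are independent commuting involutions. -/
def zdE8cond (p q r : ZD) : Bool :=
  decide (p ^ 2 = 1) && decide (q ^ 2 = 1) && decide (r ^ 2 = 1) && decide (p * q = q * p) &&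
    decide (p * r = r * p) && decide (q * r = r * q) && decide (p ≠ 1) && decide (q ≠ 1) &&
    decide (q ≠ p) && decide (r ≠ 1) && decide (r ≠ p) && decide (r ≠ q) && decide (r ≠ p * q)

/-- Boolean form of: `w` is a nontrivial element of `⟨p, q, r⟩`. -/
def zdE8concl (w p q r : ZD) : Bool :=
  decide (w = p) || decide (w = q) || decide (w = r) || decide (w = p * q) || decide (w = p * r) ||
    decide (w = q * r) || decide (w = p * q * r)

set_option maxRecDepth 100000 in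
theorem zdE8_bool : ∀ p q r : ZD, zdE8cond p q r = true →
    (zdE8concl (zdA ^ 2) p q r && zdE8concl (zdZ * zdA ^ 2) p q r) = true := by
  decide +kernel

/-- Every elementary abelian subgroup of order `8` of `Z₂ × D₈` contains the centre. -/
theorem zdE8 (p q r : ZD) (hp : p ^ 2 = 1) (hq : q ^ 2 = 1) (hr : r ^ 2 = 1) (hpq : p * q = q * p)
    (hpr : p * r = r * p) (hqr : q * r = r * q) (hp1 : p ≠ 1) (hq1 : q ≠ 1) (hqp : q ≠ p)
    (hr1 : r ≠ 1) (hrp : r ≠ p) (hrq : r ≠ q) (hrpq : r ≠ p * q) :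
    (zdA ^ 2 = p ∨ zdA ^ 2 = q ∨ zdA ^ 2 = r ∨ zdA ^ 2 = p * q ∨ zdA ^ 2 = p * r ∨
      zdA ^ 2 = q * r ∨ zdA ^ 2 = p * q * r) ∧
    (zdZ * zdA ^ 2 = p ∨ zdZ * zdA ^ 2 = q ∨ zdZ * zdA ^ 2 = r ∨ zdZ * zdA ^ 2 = p * q ∨
      zdZ * zdA ^ 2 = p * r ∨ zdZ * zdA ^ 2 = q * r ∨ zdZ * zdA ^ 2 = p * q * r) := by
  have hc : zdE8cond p q r = true := by
    unfold zdE8cond
    rw [decide_eq_true hp, decide_eq_true hq, decide_eq_true hr, decide_eq_true hpq,
      decide_eq_true hpr, decide_eq_true hqr, decide_eq_true hp1, decide_eq_true hq1,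
      decide_eq_true hqp, decide_eq_true hr1, decide_eq_true hrp, decide_eq_true hrq,
      decide_eq_true hrpq]
    rfl
  have h := zdE8_bool p q r hc
  simp only [zdE8concl, Bool.and_eq_true, Bool.or_eq_true, decide_eq_true_eq] at h
  obtain ⟨h1, h2⟩ := h
  simp only [or_assoc] at h1 h2
  exact ⟨h1, h2⟩

/-- The key step: if `z` is fused to the non-central involution `t ∈ {b, ab}`, then `z a² t` is
fused to `a²`. -/
theorem zd_key (R : ZD → ZD → Prop)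
    (hsymm : ∀ x y, R x y → R y x) (htrans : ∀ x y w, R x y → R y w → R x w)
    (hconj : ∀ s x, R x (s * x * s⁻¹))
    (hP2 : ∀ x y, (∀ s, s * x = x * s) → (∀ s, s * y = y * s) → R x y → x = y)
    (hP3 : ∀ t c, (∀ s, s * c = c * s) → R t c → ∃ φ : ZD → ZD, φ t = c ∧
      (∀ x, x * t = t * x → R x (φ x)) ∧
      (∀ x y, x * t = t * x → y * t = t * y → φ (x * y) = φ x * φ y) ∧
      (∀ x y, x * t = t * x → y * t = t * y → φ x = φ y → x = y))
    (t : ZD) (ht : t = zdB ∨ t = zdA * zdB) (hRt : R zdZ t) :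
    R (zdZ * zdA ^ 2 * t) (zdA ^ 2) := by
  have hzc : ∀ s : ZD, s * zdZ = zdZ * s := by decide
  have hac : ∀ s : ZD, s * zdA ^ 2 = zdA ^ 2 * s := by decide
  have hzac : ∀ s : ZD, s * (zdZ * zdA ^ 2) = (zdZ * zdA ^ 2) * s := by decide
  have hz_ne_a : zdZ ≠ zdA ^ 2 := by decide
  have hz_ne_za : zdZ ≠ zdZ * zdA ^ 2 := by decide
  have hza_ne_a : zdZ * zdA ^ 2 ≠ zdA ^ 2 := by decide
  have ha1 : zdA ^ 2 ≠ 1 := by decide
  have hz1 : zdZ ≠ 1 := by decide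
  have hzz : zdZ * zdZ = 1 := by decide
  have haa : zdA ^ 2 * zdA ^ 2 = 1 := by decide
  have hprod : zdA ^ 2 * (zdZ * zdA ^ 2) = zdZ := by decide
  obtain ⟨φ, hφt, hφR, hφmul, hφinj⟩ := hP3 t zdZ hzc (hsymm _ _ hRt)
  -- facts about `t`
  have htt : t * t = 1 := by rcases ht with rfl | rfl <;> decide
  have hct : ∀ x : ZD, x * t = t * x → x = 1 ∨ x = zdZ ∨ x = zdA ^ 2 ∨ x = zdZ * zdA ^ 2 ∨
      x = t ∨ x = zdZ * t ∨ x = zdA ^ 2 * t ∨ x = zdZ * zdA ^ 2 * t := by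
    rcases ht with rfl | rfl <;> decide
  have hat : zdA * t * zdA⁻¹ = zdA ^ 2 * t := by rcases ht with rfl | rfl <;> decide
  have ht1 : t ≠ 1 := by rcases ht with rfl | rfl <;> decide
  have htz : t ≠ zdZ := by rcases ht with rfl | rfl <;> decide
  have hta : t ≠ zdA ^ 2 := by rcases ht with rfl | rfl <;> decide
  have htza : t ≠ zdZ * zdA ^ 2 := by rcases ht with rfl | rfl <;> decide
  have hy1 : ∀ y : ZD, zdA ^ 2 * y = t → y = zdA ^ 2 * t := by
    rcases ht with rfl | rfl <;> decide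
  have hy2 : ∀ y : ZD, zdZ * t * y = t → y = zdZ := by
    rcases ht with rfl | rfl <;> decide
  -- commutation with `t`
  have c1 : (1 : ZD) * t = t * 1 := by rw [one_mul, mul_one]
  have cz : zdZ * t = t * zdZ := (hzc t).symm
  have ca : zdA ^ 2 * t = t * zdA ^ 2 := (hac t).symm
  have cza : zdZ * zdA ^ 2 * t = t * (zdZ * zdA ^ 2) := (hzac t).symm
  have ct : t * t = t * t := rfl
  have cmul : ∀ c x : ZD, (∀ s : ZD, s * c = c * s) → x * t = t * x → c * x * t = t * (c * x) := by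
    intro c x hc hx
    calc c * x * t = c * (x * t) := mul_assoc _ _ _
      _ = c * (t * x) := by rw [hx]
      _ = c * t * x := (mul_assoc _ _ _).symm
      _ = t * c * x := by rw [hc t]
      _ = t * (c * x) := mul_assoc _ _ _
  have czt : zdZ * t * t = t * (zdZ * t) := cmul _ _ hzc ct
  have cat : zdA ^ 2 * t * t = t * (zdA ^ 2 * t) := cmul _ _ hac ct
  have czat : zdZ * zdA ^ 2 * t * t = t * (zdZ * zdA ^ 2 * t) := cmul _ _ hzac ct
  -- `φ` on the centralizer of `t`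
  have hφ1 : φ 1 = 1 := by
    have h := hφmul 1 1 c1 c1
    rw [mul_one] at h
    exact (mul_eq_left.mp h.symm)
  have hp2 : φ zdZ ^ 2 = 1 := by rw [sq, ← hφmul _ _ cz cz, hzz, hφ1]
  have hq2 : φ (zdA ^ 2) ^ 2 = 1 := by rw [sq, ← hφmul _ _ ca ca, haa, hφ1]
  have hr2 : zdZ ^ 2 = 1 := by decide
  have hpq : φ zdZ * φ (zdA ^ 2) = φ (zdA ^ 2) * φ zdZ := by
    rw [← hφmul _ _ cz ca, ← hφmul _ _ ca cz, hac zdZ]
  have hpr : φ zdZ * zdZ = zdZ * φ zdZ := by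
    have h : φ zdZ * φ t = φ t * φ zdZ := by
      rw [← hφmul _ _ cz ct, ← hφmul _ _ ct cz, cz]
    rw [hφt] at h
    exact h
  have hqr : φ (zdA ^ 2) * zdZ = zdZ * φ (zdA ^ 2) := by
    have h : φ (zdA ^ 2) * φ t = φ t * φ (zdA ^ 2) := by
      rw [← hφmul _ _ ca ct, ← hφmul _ _ ct ca, ca]
    rw [hφt] at h
    exact h
  have hp1 : φ zdZ ≠ 1 := fun h => hz1 (hφinj _ _ cz c1 (h.trans hφ1.symm))
  have hq1 : φ (zdA ^ 2) ≠ 1 := fun h => ha1 (hφinj _ _ ca c1 (h.trans hφ1.symm))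
  have hqp : φ (zdA ^ 2) ≠ φ zdZ := fun h => hz_ne_a (hφinj _ _ ca cz h).symm
  have hrp : zdZ ≠ φ zdZ := fun h => htz (hφinj _ _ ct cz (hφt.trans h))
  have hrq : zdZ ≠ φ (zdA ^ 2) := fun h => hta (hφinj _ _ ct ca (hφt.trans h))
  have hrpq : zdZ ≠ φ zdZ * φ (zdA ^ 2) := by
    intro h
    rw [← hφmul _ _ cz ca] at h
    exact htza (hφinj _ _ ct cza (hφt.trans h))
  obtain ⟨hA, hZA⟩ := zdE8 (φ zdZ) (φ (zdA ^ 2)) zdZ hp2 hq2 hr2 hpq hpr hqr hp1 hq1 hqp hz1 hrp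
    hrq hrpq
  -- preimages of `a²` and `z a²`
  have hsurj : ∀ w : ZD, (w = φ zdZ ∨ w = φ (zdA ^ 2) ∨ w = zdZ ∨ w = φ zdZ * φ (zdA ^ 2) ∨
      w = φ zdZ * zdZ ∨ w = φ (zdA ^ 2) * zdZ ∨ w = φ zdZ * φ (zdA ^ 2) * zdZ) →
      ∃ x : ZD, x * t = t * x ∧ φ x = w := by
    intro w hw
    rcases hw with h | h | h | h | h | h | h
    · exact ⟨zdZ, cz, h.symm⟩
    · exact ⟨zdA ^ 2, ca, h.symm⟩
    · exact ⟨t, ct, hφt.trans h.symm⟩
    · exact ⟨zdZ * zdA ^ 2, cza, by rw [hφmul _ _ cz ca, h]⟩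
    · exact ⟨zdZ * t, czt, by rw [hφmul _ _ cz ct, hφt, h]⟩
    · exact ⟨zdA ^ 2 * t, cat, by rw [hφmul _ _ ca ct, hφt, h]⟩
    · exact ⟨zdZ * zdA ^ 2 * t, czat, by rw [hφmul _ _ cza ct, hφmul _ _ cz ca, hφt, h]⟩
  obtain ⟨x, hx, hφx⟩ := hsurj _ hA
  obtain ⟨y, hy, hφy⟩ := hsurj _ hZA
  have hRx : R x (zdA ^ 2) := hφx ▸ hφR x hx
  have hRy : R y (zdZ * zdA ^ 2) := hφy ▸ hφR y hy
  have hxy : x * y = t := by
    have hc : x * y * t = t * (x * y) := by rw [mul_assoc, hy, ← mul_assoc, hx, mul_assoc]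
    apply hφinj _ _ hc ct
    rw [hφmul _ _ hx hy, hφx, hφy, hprod, hφt]
  have hRtconj : R t (zdA ^ 2 * t) := hat ▸ hconj zdA t
  rcases hct x hx with rfl | rfl | rfl | rfl | rfl | rfl | rfl | rfl
  · exact absurd (hφ1.symm.trans hφx).symm ha1
  · exact absurd (hP2 _ _ hzc hac hRx) hz_ne_a
  · have hy' := hy1 y hxy
    rw [hy'] at hRy
    exact absurd (hP2 _ _ hzc hzac (htrans _ _ _ hRt (htrans _ _ _ hRtconj hRy))) hz_ne_za
  · exact absurd (hP2 _ _ hzac hac hRx) hza_ne_a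
  · exact absurd (hP2 _ _ hzc hac (htrans _ _ _ hRt hRx)) hz_ne_a
  · have hy' := hy2 y hxy
    rw [hy'] at hRy
    exact absurd (hP2 _ _ hzc hzac hRy) hz_ne_za
  · exact absurd (hP2 _ _ hzc hac (htrans _ _ _ hRt (htrans _ _ _ hRtconj hRx))) hz_ne_a
  · exact hRx

/-- No fusion relation on `Z₂ × D₈` satisfies the consequences of Thompson's transfer lemma (for a
group without subgroups of index two), Burnside's fusion theorem and extremal conjugation. -/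
theorem zd_no_fusion (R : ZD → ZD → Prop)
    (hsymm : ∀ x y, R x y → R y x) (htrans : ∀ x y w, R x y → R y w → R x w)
    (hconj : ∀ s x, R x (s * x * s⁻¹))
    (hsq : ∀ x y, R x y → x ^ 2 = 1 → y ^ 2 = 1) (hone : ∀ x y, R x y → y = 1 → x = 1)
    (hP1 : ∀ M : Subgroup ZD, M.index = 2 → ∀ u, u ^ 2 = 1 → u ≠ 1 → u ∉ M → ∃ v ∈ M, R u v)
    (hP2 : ∀ x y, (∀ s, s * x = x * s) → (∀ s, s * y = y * s) → R x y → x = y)
    (hP3 : ∀ t c, (∀ s, s * c = c * s) → R t c → ∃ φ : ZD → ZD, φ t = c ∧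
      (∀ x, x * t = t * x → R x (φ x)) ∧
      (∀ x y, x * t = t * x → y * t = t * y → φ (x * y) = φ x * φ y) ∧
      (∀ x y, x * t = t * x → y * t = t * y → φ x = φ y → x = y)) : False := by
  have hzc : ∀ s : ZD, s * zdZ = zdZ * s := by decide
  have hac : ∀ s : ZD, s * zdA ^ 2 = zdA ^ 2 * s := by decide
  have hz_ne_a : zdZ ≠ zdA ^ 2 := by decide
  have hz2 : zdZ ^ 2 = 1 := by decide
  have hz1 : zdZ ≠ 1 := by decide
  have hzna : ¬ R zdZ (zdA ^ 2) := fun h => hz_ne_a (hP2 _ _ hzc hac h)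
  have hkey := zd_key R hsymm htrans hconj hP2 hP3
  -- conjugates
  have e1 : zdA * (zdZ * zdB) * zdA⁻¹ = zdZ * zdA ^ 2 * zdB := by decide
  have e2 : zdA * (zdZ * zdA * zdB) * zdA⁻¹ = zdZ * zdA ^ 2 * (zdA * zdB) := by decide
  -- `B₃ ~ a²` from `z ~ b`, `B₄ ~ a²` from `z ~ ab`
  have hB3 : R zdZ zdB → R (zdZ * zdB) (zdA ^ 2) ∧ R (zdA * (zdZ * zdB) * zdA⁻¹) (zdA ^ 2) := by
    intro h
    have h1 := hkey zdB (Or.inl rfl) h
    rw [← e1] at h1
    exact ⟨htrans _ _ _ (hconj zdA _) h1, h1⟩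
  have hB4 : R zdZ (zdA * zdB) →
      R (zdZ * zdA * zdB) (zdA ^ 2) ∧ R (zdA * (zdZ * zdA * zdB) * zdA⁻¹) (zdA ^ 2) := by
    intro h
    have h1 := hkey (zdA * zdB) (Or.inr rfl) h
    rw [← e2] at h1
    exact ⟨htrans _ _ _ (hconj zdA _) h1, h1⟩
  -- involutions fused to `z` in a maximal subgroup
  have hM : ∀ M : Subgroup ZD, M.index = 2 → zdZ ∉ M →
      ∃ v ∈ M, v ^ 2 = 1 ∧ v ≠ 1 ∧ R zdZ v := by
    intro M hM hz
    obtain ⟨v, hv, hR⟩ := hP1 M hM zdZ hz2 hz1 hz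
    exact ⟨v, hv, hsq _ _ hR hz2, fun h => hz1 (hone _ _ hR h), hR⟩
  -- `z ~ b` implies `z ~ ab` and conversely
  have h7 : R zdZ zdB → R zdZ (zdA * zdB) := by
    intro h
    obtain ⟨h3, h3'⟩ := hB3 h
    obtain ⟨v, hv, hv2, hv1, hR⟩ := hM zdM7 zdM7_index zdZ_not_mem_M7
    rcases zdM7_invol v hv hv2 hv1 with rfl | rfl | rfl | rfl | rfl
    · exact absurd hR hzna
    · exact absurd (htrans _ _ _ hR h3) hzna
    · exact absurd (htrans _ _ _ hR h3') hzna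
    · exact hR
    · exact htrans _ _ _ hR (hsymm _ _ (hconj zdA _))
  have h5 : R zdZ (zdA * zdB) → R zdZ zdB := by
    intro h
    obtain ⟨h4, h4'⟩ := hB4 h
    obtain ⟨v, hv, hv2, hv1, hR⟩ := hM zdM5 zdM5_index zdZ_not_mem_M5
    rcases zdM5_invol v hv hv2 hv1 with rfl | rfl | rfl | rfl | rfl
    · exact absurd hR hzna
    · exact hR
    · exact htrans _ _ _ hR (hsymm _ _ (hconj zdA _))
    · exact absurd (htrans _ _ _ hR h4) hzna
    · exact absurd (htrans _ _ _ hR h4') hzna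
  -- `z` is fused to `b` or to `ab`
  have h1 : R zdZ zdB ∨ R zdZ (zdA * zdB) := by
    obtain ⟨v, hv, hv2, hv1, hR⟩ := hM zdM1 zdM1_index zdZ_not_mem_M1
    rcases zdM1_invol v hv hv2 hv1 with rfl | rfl | rfl | rfl | rfl
    · exact absurd hR hzna
    · exact Or.inl hR
    · exact Or.inl (htrans _ _ _ hR (hsymm _ _ (hconj zdA _)))
    · exact Or.inr hR
    · exact Or.inr (htrans _ _ _ hR (hsymm _ _ (hconj zdA _)))
  have hb : R zdZ zdB := h1.elim id h5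
  have hab : R zdZ (zdA * zdB) := h7 hb
  obtain ⟨h3, h3'⟩ := hB3 hb
  obtain ⟨h4, h4'⟩ := hB4 hab
  obtain ⟨v, hv, hv2, hv1, hR⟩ := hM zdM6 zdM6_index zdZ_not_mem_M6
  rcases zdM6_invol v hv hv2 hv1 with rfl | rfl | rfl | rfl | rfl
  · exact hzna hR
  · exact hzna (htrans _ _ _ hR h3)
  · exact hzna (htrans _ _ _ hR h3')
  · exact hzna (htrans _ _ _ hR h4)
  · exact hzna (htrans _ _ _ hR h4')

end Cfsg.Agent.H60
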