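import Mathlib
import Cfsg.Agent.H60.ZasQuat

/-!
# S0690 (Zassenhaus) team piece ACTB
-/

set_option autoImplicit false

namespace Cfsg.Agent.H60.Zas

open Cfsg.Agent.H72.Zas

universe u

section Quat

open QuaternionGroup

variable {N : ℕ}

theorem quat_two_N : ((N : ZMod (2 * N)) + (N : ZMod (2 * N))) = 0 := by
  have h : ((2 * N : ℕ) : ZMod (2 * N)) = 0 := ZMod.natCast_self (2 * N)
  rw [← h]; push_cast; ring

theorem quat_a_inv (i : ZMod (2 * N)) : (a i : QuaternionGroup N)⁻¹ = a (-i) := by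
  apply inv_eq_of_mul_eq_one_right
  rw [a_mul_a, add_neg_cancel, a_zero]

theorem quat_xa_inv (i : ZMod (2 * N)) :
    (xa i : QuaternionGroup N)⁻¹ = xa ((N : ZMod (2 * N)) + i) := by
  apply inv_eq_of_mul_eq_one_right
  rw [xa_mul_xa, ← a_zero]
  congr 1
  have h := quat_two_N (N := N)
  linear_combination h

theorem quat_comm (i k : ZMod (2 * N)) :
    (a i : QuaternionGroup N) * a k * (a i)⁻¹ = a k := by
  rw [quat_a_inv, a_mul_a, a_mul_a]; congr 1; ring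

theorem quat_conj_a (g : QuaternionGroup N) (k : ZMod (2 * N)) :
    g * a k * g⁻¹ = a k ∨ g * a k * g⁻¹ = (a k)⁻¹ := by
  rcases g with i | i
  · left; exact quat_comm i k
  · right
    rw [quat_xa_inv, quat_a_inv, xa_mul_a, xa_mul_xa]
    congr 1
    have h := quat_two_N (N := N)
    linear_combination h

theorem quat_inverts {s' : QuaternionGroup N} {k : ZMod (2 * N)}
    (h : s' * a k * s'⁻¹ = (a k)⁻¹) (hne : (a k : QuaternionGroup N) ≠ (a k)⁻¹) :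
    ∃ j, s' = xa j := by
  rcases s' with i | j
  · exfalso
    apply hne
    rw [← h]; exact (quat_comm i k).symm
  · exact ⟨j, rfl⟩

theorem quat_twist (M : ℕ) (j : ZMod (2 * N)) :
    (a (M : ZMod (2 * N)) : QuaternionGroup N) * xa j * (a (M : ZMod (2 * N)))⁻¹ =
      xa j * (a ((2 * M : ℕ) : ZMod (2 * N)))⁻¹ := by
  rw [quat_a_inv, quat_a_inv, a_mul_xa, xa_mul_a, xa_mul_a]
  congr 1
  push_cast; ring

theorem quat_z_order (M : ℕ) (hN : N = 4 * M) (hM : 1 ≤ M) :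
    orderOf (a ((2 * M : ℕ) : ZMod (2 * N)) : QuaternionGroup N) = 4 := by
  subst hN
  apply orderOf_four_of_sq
  · rw [a_mul_a, ← a_zero]
    intro h
    have h1 : ((2 * M : ℕ) : ZMod (2 * (4 * M))) + ((2 * M : ℕ) : ZMod (2 * (4 * M))) = 0 := by
      injection h
    have h2 : ((4 * M : ℕ) : ZMod (2 * (4 * M))) = 0 := by
      rw [← h1]; push_cast; ring
    have h3 := (ZMod.natCast_eq_zero_iff (4 * M) (2 * (4 * M))).mp h2
    have h4 := Nat.le_of_dvd (by omega) h3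
    omega
  · rw [pow_four_eq, a_mul_a, a_mul_a, ← a_zero]
    congr 1
    have h : ((2 * (4 * M) : ℕ) : ZMod (2 * (4 * M))) = 0 := ZMod.natCast_self _
    push_cast at h ⊢
    linear_combination h

end Quat

/-- A quaternion pair `(t, s)` in a group with generalized quaternion Sylow 2-subgroups of order
at least 16 and all elements of order 4 conjugate: some `c` centralizes `t` and maps `s` to
`s * t` or `s * t⁻¹`. -/
theorem exists_cent_twist {G : Type u} [Group G] [Finite G] (S : Sylow 2 G) (N M : ℕ)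
    (hN : N = 4 * M) (hM : 1 ≤ M) (e : S ≃* QuaternionGroup N) (hc : Conj4 G) {t s : G}
    (hp : QPair t s) :
    ∃ c : G, c * t * c⁻¹ = t ∧ (c * s * c⁻¹ = s * t ∨ c * s * c⁻¹ = s * t⁻¹) := by
  obtain ⟨kz, hkz⟩ : ∃ kz : ZMod (2 * N), kz = ((2 * M : ℕ) : ZMod (2 * N)) := ⟨_, rfl⟩
  have hz'o : orderOf (QuaternionGroup.a kz : QuaternionGroup N) = 4 := by
    rw [hkz]; exact quat_z_order M hN hM
  obtain ⟨zS, hzS⟩ : ∃ zS : S, zS = e.symm (QuaternionGroup.a kz) := ⟨_, rfl⟩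
  have hezS : e zS = QuaternionGroup.a kz := by rw [hzS, MulEquiv.apply_symm_apply]
  obtain ⟨z, hz⟩ : ∃ z : G, z = (zS : G) := ⟨_, rfl⟩
  have hzSo : orderOf zS = 4 := by
    rw [← MulEquiv.orderOf_eq e, hezS]; exact hz'o
  have hzo : orderOf z = 4 := by
    apply orderOf_four_of_sq
    · intro h
      apply sq_ne_one_of_orderOf hzSo
      apply Subtype.ext
      rw [hz] at h
      exact h
    · have h4 := pow_four_of_orderOf hzSo
      rw [hz]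
      simpa using congrArg Subtype.val h4
  obtain ⟨g, hg⟩ := hc t z hp.ot hzo
  obtain ⟨M', hM'⟩ : ∃ M' : Subgroup G,
      M' = Subgroup.normalizer ((Subgroup.zpowers z : Subgroup G) : Set G) := ⟨_, rfl⟩
  have hSM : (S : Subgroup G) ≤ M' := by
    intro x hx
    rw [hM']
    apply mem_normalizer_zpowers
    have h1 := quat_conj_a (e ⟨x, hx⟩) kz
    rw [← hezS] at h1
    have h2 : (⟨x, hx⟩ : S) * zS * (⟨x, hx⟩ : S)⁻¹ = zS ∨
        (⟨x, hx⟩ : S) * zS * (⟨x, hx⟩ : S)⁻¹ = zS⁻¹ := by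
      simpa only [← map_mul, ← map_inv, EmbeddingLike.apply_eq_iff_eq] using h1
    have h3 : x * z * x⁻¹ = z ∨ x * z * x⁻¹ = z⁻¹ := by
      rw [hz]
      rcases h2 with h2 | h2
      · left; exact congrArg Subtype.val h2
      · right; exact congrArg Subtype.val h2
    rcases h3 with h3 | h3
    · rw [h3]; exact Subgroup.mem_zpowers z
    · rw [h3]; exact Subgroup.inv_mem _ (Subgroup.mem_zpowers z)
  have hs₁ : g * s * g⁻¹ * z * (g * s * g⁻¹)⁻¹ = z⁻¹ := by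
    have e1 : g⁻¹ * z * g = t := by rw [← hg]; group
    calc g * s * g⁻¹ * z * (g * s * g⁻¹)⁻¹ = g * (s * (g⁻¹ * z * g) * s⁻¹) * g⁻¹ := by group
      _ = g * (s * t * s⁻¹) * g⁻¹ := by rw [e1]
      _ = g * t⁻¹ * g⁻¹ := by rw [hp.inv]
      _ = z⁻¹ := by rw [← hg]; group
  have hs₁M : g * s * g⁻¹ ∈ M' := by
    rw [hM']
    apply mem_normalizer_zpowers
    rw [hs₁]; exact Subgroup.inv_mem _ (Subgroup.mem_zpowers z)
  have hs₁o : orderOf (g * s * g⁻¹) = 4 := by rw [orderOf_conj']; exact hp.os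
  obtain ⟨m, hmM, hmS⟩ := conj_into_sylow S M' hSM (g * s * g⁻¹) hs₁M 2 (by
    rw [show (2 : ℕ) ^ 2 = 4 from rfl]; exact pow_four_of_orderOf hs₁o)
  obtain ⟨k, hk⟩ : ∃ k : G, k = m * g := ⟨_, rfl⟩
  obtain ⟨t₂, ht₂⟩ : ∃ t₂ : G, t₂ = k * t * k⁻¹ := ⟨_, rfl⟩
  obtain ⟨s₂, hs₂⟩ : ∃ s₂ : G, s₂ = k * s * k⁻¹ := ⟨_, rfl⟩
  have ht₂z : t₂ = z ∨ t₂ = z⁻¹ := by
    have e2 : t₂ = m * z * m⁻¹ := by rw [ht₂, hk, ← hg]; group
    rw [e2]
    apply ord4_mem_zpowers hzo (by rw [orderOf_conj']; exact hzo)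
    rw [hM'] at hmM
    exact conj_mem_zpowers_of_mem_normalizer hmM
  have hs₂S : s₂ ∈ (S : Subgroup G) := by
    have e3 : s₂ = m * (g * s * g⁻¹) * m⁻¹ := by rw [hs₂, hk]; group
    rw [e3]; exact hmS
  have hrel : s₂ * t₂ * s₂⁻¹ = t₂⁻¹ := by
    rw [hs₂, ht₂]
    calc k * s * k⁻¹ * (k * t * k⁻¹) * (k * s * k⁻¹)⁻¹ = k * (s * t * s⁻¹) * k⁻¹ := by group
      _ = k * t⁻¹ * k⁻¹ := by rw [hp.inv]
      _ = (k * t * k⁻¹)⁻¹ := by group
  have hrelz : s₂ * z * s₂⁻¹ = z⁻¹ := by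
    rcases ht₂z with h | h
    · rw [h] at hrel; exact hrel
    · rw [h, inv_inv] at hrel
      calc s₂ * z * s₂⁻¹ = (s₂ * z⁻¹ * s₂⁻¹)⁻¹ := by group
        _ = z⁻¹ := by rw [hrel]
  obtain ⟨sS, hsS⟩ : ∃ sS : S, sS = ⟨s₂, hs₂S⟩ := ⟨_, rfl⟩
  have hsSv : (sS : G) = s₂ := by rw [hsS]
  have hrelS : sS * zS * sS⁻¹ = zS⁻¹ := by
    apply Subtype.ext
    show (sS : G) * (zS : G) * (sS : G)⁻¹ = (zS : G)⁻¹
    rw [hsSv, ← hz]; exact hrelz
  have hrel' : e sS * QuaternionGroup.a kz * (e sS)⁻¹ = (QuaternionGroup.a kz)⁻¹ := by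
    rw [← hezS, ← map_mul, ← map_inv, ← map_mul, hrelS, map_inv]
  have hne' : (QuaternionGroup.a kz : QuaternionGroup N) ≠ (QuaternionGroup.a kz)⁻¹ := by
    intro h
    apply sq_ne_one_of_orderOf hz'o
    calc QuaternionGroup.a kz * QuaternionGroup.a kz
        = QuaternionGroup.a kz * (QuaternionGroup.a kz)⁻¹ := by rw [← h]
      _ = 1 := mul_inv_cancel _
  obtain ⟨j, hj⟩ := quat_inverts hrel' hne'
  obtain ⟨cS, hcS⟩ : ∃ cS : S, cS = e.symm (QuaternionGroup.a (M : ZMod (2 * N))) := ⟨_, rfl⟩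
  have hecS : e cS = QuaternionGroup.a (M : ZMod (2 * N)) := by
    rw [hcS, MulEquiv.apply_symm_apply]
  have h1S : cS * zS * cS⁻¹ = zS := by
    apply e.injective
    rw [map_mul, map_mul, map_inv, hecS, hezS]; exact quat_comm _ _
  have h2S : cS * sS * cS⁻¹ = sS * zS⁻¹ := by
    apply e.injective
    rw [map_mul, map_mul, map_inv, map_mul, map_inv, hecS, hezS, hj, hkz]; exact quat_twist M j
  obtain ⟨c₀, hc₀⟩ : ∃ c₀ : G, c₀ = (cS : G) := ⟨_, rfl⟩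
  have h1 : c₀ * z * c₀⁻¹ = z := by
    rw [hc₀, hz]; exact congrArg Subtype.val h1S
  have h2 : c₀ * s₂ * c₀⁻¹ = s₂ * z⁻¹ := by
    rw [hc₀, hz, ← hsSv]; exact congrArg Subtype.val h2S
  have hct : c₀ * t₂ * c₀⁻¹ = t₂ := by
    rcases ht₂z with h | h
    · rw [h]; exact h1
    · rw [h, ← conj_inv, h1]
  refine ⟨k⁻¹ * c₀ * k, ?_, ?_⟩
  · calc (k⁻¹ * c₀ * k) * t * (k⁻¹ * c₀ * k)⁻¹
        = k⁻¹ * (c₀ * (k * t * k⁻¹) * c₀⁻¹) * k := by group
      _ = k⁻¹ * (c₀ * t₂ * c₀⁻¹) * k := by rw [ht₂]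
      _ = k⁻¹ * t₂ * k := by rw [hct]
      _ = t := by rw [ht₂]; group
  · have e5 : (k⁻¹ * c₀ * k) * s * (k⁻¹ * c₀ * k)⁻¹ = k⁻¹ * (s₂ * z⁻¹) * k := by
      calc (k⁻¹ * c₀ * k) * s * (k⁻¹ * c₀ * k)⁻¹
          = k⁻¹ * (c₀ * (k * s * k⁻¹) * c₀⁻¹) * k := by group
        _ = k⁻¹ * (c₀ * s₂ * c₀⁻¹) * k := by rw [hs₂]
        _ = k⁻¹ * (s₂ * z⁻¹) * k := by rw [h2]
    rw [e5]
    rcases ht₂z with h | h
    · right
      rw [← h, hs₂, ht₂]; group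
    · left
      rw [← h, hs₂, ht₂]; group

/-- **S0690-ACTB.** -/
theorem actB : StActB.{u} := by
  intro G _ _ S n hn ⟨e⟩ hc t s ht hs hst hsq
  have hp : QPair t s := ⟨ht, hs, hst, hsq⟩
  have hN : 2 ^ n = 4 * 2 ^ (n - 2) := by
    obtain ⟨m, rfl⟩ : ∃ m, n = m + 2 := ⟨n - 2, by omega⟩
    rw [Nat.add_sub_cancel, pow_add]; ring
  have hM : 1 ≤ 2 ^ (n - 2) := Nat.one_le_two_pow
  obtain ⟨ct, hct1, hct2⟩ := exists_cent_twist S (2 ^ n) (2 ^ (n - 2)) hN hM e hc hp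
  obtain ⟨cs, hcs1, hcs2⟩ := exists_cent_twist S (2 ^ n) (2 ^ (n - 2)) hN hM e hc hp.swap
  refine ⟨ct * cs, (⟨?_, ?_⟩ : _ ∧ _)⟩
  · have e1 : ct * cs * t * (ct * cs)⁻¹ = ct * (cs * t * cs⁻¹) * ct⁻¹ := by group
    rw [e1]
    rcases hcs2 with h | h <;> rcases hct2 with h' | h'
    · left; rw [h, ← conj_mul, hct1, h', ← mul_assoc]; exact hp.w1
    · right; rw [h, ← conj_mul, hct1, h', ← mul_assoc]; exact hp.w7
    · right; rw [h, ← conj_mul, hct1, ← conj_inv, h']; group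
    · left; rw [h, ← conj_mul, hct1, ← conj_inv, h']
      calc t * (s * t⁻¹)⁻¹ = t * t * s⁻¹ := by group
        _ = s * s * s⁻¹ := by rw [hp.sq]
        _ = s := by group
  · have e1 : ct * cs * s * (ct * cs)⁻¹ = ct * (cs * s * cs⁻¹) * ct⁻¹ := by group
    rw [e1, hcs1]
    rcases hct2 with h' | h'
    · right; rw [h']; exact hp.w5
    · left; rw [h']; exact hp.ts.symm

end Cfsg.Agent.H60.Zas
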